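import Cfsg.Agent.Flavell73.Linear
import Cfsg.Agent.ConjFunctor.FourEngel
import Cfsg.Agent.Components.FStar
import Mathlib.Algebra.Module.ZMod

/-!
The K-infinity subgroup of the intersection of the invariant Sylow subgroups is normalised by the
group, in characteristic `p > 3`.
-/

set_option autoImplicit false

universe u

namespace CfsgLib.Flavell73

open Cfsg
open scoped commutatorElement

section
open CfsgLib.ConjFunctor Subgroup

/-- Either the K-infinity subgroup is normal or there is a cubic element. -/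
theorem kInfLower_normal_or_cubic {Γ : Type u} [Group Γ] [Finite Γ] {p : ℕ} [Fact p.Prime]
    {S A Z : Subgroup Γ} (hTS : pCore p Γ ≤ S) (hd : CriticalData p A Z) :
    (inducedFunctor kInfLower S).Normal ∨ ∃ g, IsCubicElt p S A Z g := by
  by_contra hboth
  rw [not_or] at hboth
  obtain ⟨hK, hno⟩ := hboth
  have hAS : A ≤ S := hd.le.trans hTS
  let i := S.subtype
  have hi : Function.Injective i := S.subtype_injective
  let A' : Subgroup S := A.subgroupOf S
  have hA' : A'.map i = A := map_subgroupOf_eq_of_le hAS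
  have hupper : ∀ n, (kSeqEven S n).map i ≤ pCore p Γ → A' ≤ kSeqOdd S (n + 1) := fun n h =>
    le_kSeqOdd ((map_mem_kUpperStar i hi).mp (hA' ▸ mem_kUpper_of_le hd h))
  have hA'E : ∀ n, A' ≤ kSeqEven S n := fun n =>
    le_kSeqEven ((map_mem_kLowerStar i hi).mp (hA' ▸ mem_kLower_of_noCubic hd hno (map_subtype_le _)))
  have hmain : ∀ n, A' ≤ kSeqOdd S n ∧ (kSeqEven S n).map i ≤ pCore p Γ := by
    intro n
    induction n with
    | zero =>
      refine ⟨le_top, map_le_iff_le_comap.mpr (sSup_le fun B hB => map_le_iff_le_comap.mp ?_)⟩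
      exact le_pCore_of_lower hd hno (hA' ▸ map_mono (le_top : A' ≤ kSeqOdd S 0)) (map_subtype_le _)
        ((map_mem_kLowerStar i hi).mpr hB)
    | succ n ih =>
      have h1 := hupper n ih.2
      refine ⟨h1, map_le_iff_le_comap.mpr (sSup_le fun B hB => map_le_iff_le_comap.mp ?_)⟩
      exact le_pCore_of_lower hd hno (hA' ▸ map_mono h1) (map_subtype_le _)
        ((map_mem_kLowerStar i hi).mpr hB)
  exact hK (kInf_normal_of_le hTS fun n => ⟨(hmain n).2, by
    refine map_le_iff_le_comap.mpr (sSup_le fun B hB => map_le_iff_le_comap.mp ?_)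
    exact le_pCore_of_upper hd hno (hA' ▸ map_mono (hA'E n)) (map_subtype_le _)
      ((map_mem_kUpperStar i hi).mpr hB)⟩).1

end

section
open CfsgLib.RootSubgroups CfsgLib.RootSubgroups.QuadPair

variable {p : ℕ} [hp : Fact p.Prime]

theorem pf_zmod (h : 3 < p) : PF (ZMod p) p := ⟨Nat.card_zmod p, h⟩

/-- A subgroup all whose elements have the stated order is trivial. -/
theorem eq_one_of_pow_coprime {Y : Type*} [Monoid Y] {y : Y} {m n : ℕ} (h : m.Coprime n)
    (hm : y ^ m = 1) (hn : y ^ n = 1) : y = 1 :=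
  orderOf_eq_one_iff.1 (Nat.eq_one_of_dvd_coprimes h (orderOf_dvd_of_pow_eq_one hm)
    (orderOf_dvd_of_pow_eq_one hn))

/-- No element of the intersection acts quadratically and non-trivially on a chief factor. -/
theorem false_of_quadratic_chief {X : Type u} [Group X] [Finite X] (hp3 : 3 < p) {r : ℕ}
    [Fact r.Prime] {G R K : Subgroup X} (hR : CAct r R G) (hGK : G ≤ K) (hRK : R ≤ K)
    (hKG : K ≤ Subgroup.normalizer (G : Set X))
    {Γ : Type u} [Group Γ] [Finite Γ] (f : K →* Γ) (hf : Function.Surjective f)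
    {U V : Subgroup Γ} (hUV : IsChiefFactor U V) (hUp : IsPGroup p U)
    {x : X} (hx : x ∈ invCore p R G) (hxK : x ∈ K)
    (hq : ∀ u ∈ U, ⁅f ⟨x, hxK⟩, ⁅f ⟨x, hxK⟩, u⁆⁆ ∈ V) {u₀ : Γ} (hu₀ : u₀ ∈ U)
    (hmov : ⁅f ⟨x, hxK⟩, u₀⁆ ∉ V) : False := by
  obtain ⟨hlt, hUn, hVn, hmin⟩ := id hUV
  obtain ⟨hab, hexp⟩ := CfsgLib.ConjFunctor.chiefFactor_elementary hUV hUp
  set q := QuotientGroup.mk' V with hqdef
  set W : Subgroup (Γ ⧸ V) := U.map q with hWdef
  have hWn : W.Normal := hUn.map q (QuotientGroup.mk'_surjective V)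
  letI : CommGroup W :=
    { W.toGroup with
      mul_comm := by
        rintro ⟨_, a, ha, rfl⟩ ⟨_, b, hb, rfl⟩
        refine Subtype.ext (commutatorElement_eq_one_iff_mul_comm.1 ?_)
        rw [← map_commutatorElement, hqdef, QuotientGroup.mk'_apply, QuotientGroup.eq_one_iff]
        exact hab (Subgroup.commutator_mem_commutator ha hb) }
  have hA : ∀ v : Additive W, p • v = 0 := fun v => by
    obtain ⟨⟨_, a, ha, rfl⟩, rfl⟩ := Additive.ofMul.surjective v
    refine Additive.toMul.injective (Subtype.ext ?_)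
    rw [toMul_nsmul, toMul_ofMul, toMul_zero, Subgroup.coe_pow, Subgroup.coe_one, ← map_pow, hqdef,
      QuotientGroup.mk'_apply, QuotientGroup.eq_one_iff]
    exact hexp a ha
  obtain ⟨n, ⟨e⟩⟩ : ∃ n, Nonempty (Additive W ≃+ (Fin n → ZMod p)) := by
    letI inst : Module (ZMod p) (Additive W) := AddCommGroup.zmodModule hA
    have hf : Module.Finite (ZMod p) (Additive W) := @Module.Finite.of_finite _ _ _ _ inst _
    exact ⟨_, ⟨(@Module.finBasis (ZMod p) (Additive W) _ _ inst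
      (@Module.Free.of_divisionRing (ZMod p) (Additive W) _ _ inst) _ hf).equivFun.toAddEquiv⟩⟩
  set c : Γ →* MulAut W := (MulAut.conjNormal).comp q with hc
  -- the representation
  let ρ : Γ →* LinearMap.GeneralLinearGroup (ZMod p) (Fin n → ZMod p) :=
    MonoidHom.toHomUnits
      { toFun := fun γ => AddMonoidHom.toZModLinearMap p
          ((e.toAddMonoidHom.comp (c γ).toMonoidHom.toAdditive).comp e.symm.toAddMonoidHom)
        map_one' := by
          refine LinearMap.ext fun w => ?_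
          show e (Additive.ofMul ((c 1) (Additive.toMul (e.symm w)))) = w
          rw [map_one, MulAut.one_apply, ofMul_toMul, e.apply_symm_apply]
        map_mul' := fun γ γ' => by
          refine LinearMap.ext fun w => ?_
          show e (Additive.ofMul ((c (γ * γ')) (Additive.toMul (e.symm w)))) =
            e (Additive.ofMul ((c γ) (Additive.toMul (e.symm
              (e (Additive.ofMul ((c γ') (Additive.toMul (e.symm w)))))))))
          rw [map_mul, MulAut.mul_apply, e.symm_apply_apply, toMul_ofMul] }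
  set mk : ∀ v ∈ U, Fin n → ZMod p := fun v hv => e (Additive.ofMul ⟨q v, v, hv, rfl⟩) with hmk
  have hmksurj : ∀ w, ∃ v, ∃ hv : v ∈ U, mk v hv = w := fun w => by
    obtain ⟨v, hv, hv'⟩ := (Additive.toMul (e.symm w)).2
    refine ⟨v, hv, ?_⟩
    rw [hmk]
    show e _ = w
    conv_rhs => rw [← e.apply_symm_apply w, ← ofMul_toMul (e.symm w)]
    exact congrArg e (congrArg Additive.ofMul (Subtype.ext hv'))
  have hmk0 : ∀ v hv, mk v hv = 0 ↔ v ∈ V := fun v hv => by
    rw [hmk]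
    show e _ = 0 ↔ _
    rw [AddEquiv.map_eq_zero_iff, ← ofMul_one, Additive.ofMul.injective.eq_iff, Subtype.ext_iff,
      Subgroup.coe_one]
    exact QuotientGroup.eq_one_iff v
  have hact : ∀ γ v hv, (ρ γ : (Fin n → ZMod p) →ₗ[ZMod p] (Fin n → ZMod p)) (mk v hv) =
      mk (γ * v * γ⁻¹) (hUn.conj_mem v hv γ) := fun γ v hv => by
    show e (Additive.ofMul ((c γ) (Additive.toMul (e.symm (mk v hv))))) = _
    rw [hmk, e.symm_apply_apply, toMul_ofMul]
    refine congrArg e (congrArg Additive.ofMul (Subtype.ext ?_))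
    rw [hc, MonoidHom.comp_apply, MulAut.conjNormal_apply]
    show q γ * q v * (q γ)⁻¹ = q (γ * v * γ⁻¹)
    rw [map_mul, map_mul, map_inv]
  have hcm : ∀ γ v, v ∈ U → ⁅γ, v⁆ ∈ U := fun γ v hv =>
    U.mul_mem (hUn.conj_mem v hv γ) (U.inv_mem hv)
  have hnil : ∀ γ v (hv : v ∈ U), nil (ρ γ) (mk v hv) =
      mk ⁅γ, v⁆ (hcm γ v hv) := fun γ v hv => by
    rw [nil, LinearMap.sub_apply, hact γ v hv, Module.End.one_apply, hmk]
    simp only [← map_sub]
    refine congrArg e (Additive.toMul.injective (Subtype.ext ?_))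
    simp only [toMul_sub, toMul_ofMul, commutatorElement_def, map_mul, map_inv]
    show (_ : Γ ⧸ V) / _ = _
    rw [div_eq_mul_inv]
  have hk := pf_zmod hp3
  set f' := ρ.comp f with hf'
  have := hk.finiteGL (M := Fin n → ZMod p)
  obtain ⟨hY, hmap⟩ := map_invCore_le (p := p) f' hR hGK hRK
  set G' := (G.subgroupOf K).map f' with hG'
  set a := f' ⟨x, hxK⟩ with ha
  have haI := hmap ⟨⟨x, hxK⟩, hx, rfl⟩
  have ha0 : nil a ≠ 0 := fun h => hmov
    ((hmk0 _ (hcm _ _ hu₀)).1 (by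
    rw [← hnil (f ⟨x, hxK⟩) u₀ hu₀, show ρ (f ⟨x, hxK⟩) = a from rfl, h, LinearMap.zero_apply]))
  have hsq : nil a * nil a = 0 := by
    refine LinearMap.ext fun w => ?_
    obtain ⟨v, hv, rfl⟩ := hmksurj w
    rw [Module.End.mul_apply, show a = ρ (f ⟨x, hxK⟩) from rfl, hnil _ v hv,
      hnil _ _ (hcm _ v hv)]
    exact (hmk0 _ (hcm _ _ (hcm _ v hv))).2 (hq v hv)
  have hrad := quadratic_mem_rad hk hY haI ⟨hsq, ha0⟩
  set Ψ := rad p G' with hΨ
  suffices hΨ0 : Ψ = ⊥ by
    rw [hΨ0, Subgroup.mem_bot] at hrad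
    exact ha0 (by rw [show a = 1 from hrad, nil_one])
  have hGn : ∀ γ : Γ, ρ γ ∈ Subgroup.normalizer (Ψ : Set _) := by
    intro γ
    obtain ⟨κ, rfl⟩ := hf γ
    refine le_normalizer_rad (Subgroup.le_normalizer_map f' ⟨κ, ?_, rfl⟩)
    have : (G.subgroupOf K).Normal := Subgroup.normal_subgroupOf_of_le_normalizer hKG
    rw [Subgroup.normalizer_eq_top (H := G.subgroupOf K)]
    trivial
  let B : Subgroup Γ :=
    { carrier := {v | ∃ hv : v ∈ U, ∀ ψ ∈ Ψ,
        (ψ : (Fin n → ZMod p) →ₗ[ZMod p] (Fin n → ZMod p)) (mk v hv) = mk v hv}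
      one_mem' := ⟨U.one_mem, fun ψ _ => by rw [(hmk0 1 U.one_mem).2 V.one_mem, map_zero]⟩
      mul_mem' := fun {v v'} ⟨hv, h⟩ ⟨hv', h'⟩ => ⟨U.mul_mem hv hv', fun ψ hψ => by
        have e' : mk (v * v') (U.mul_mem hv hv') = mk v hv + mk v' hv' := by
          rw [hmk]
          simp only [← map_add, ← ofMul_mul]
          exact congrArg e (congrArg Additive.ofMul (Subtype.ext (map_mul q v v')))
        rw [e', map_add, h ψ hψ, h' ψ hψ]⟩
      inv_mem' := fun {v} ⟨hv, h⟩ => ⟨U.inv_mem hv, fun ψ hψ => by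
        have e' : mk v⁻¹ (U.inv_mem hv) = -mk v hv := by
          rw [hmk]
          simp only [← map_neg, ← ofMul_inv]
          exact congrArg e (congrArg Additive.ofMul (Subtype.ext (map_inv q v)))
        rw [e', map_neg, h ψ hψ]⟩ }
  have hBn : B.Normal := ⟨fun v ⟨hv, h⟩ γ => ⟨hUn.conj_mem v hv γ, fun ψ hψ => by
    rw [← hact γ v hv]
    have h1 := h _ ((Subgroup.mem_normalizer_iff.1 (inv_mem (hGn γ)) ψ).1 hψ)
    rw [inv_inv, Units.val_mul, Units.val_mul, Module.End.mul_apply, Module.End.mul_apply] at h1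
    have h2 := congrArg (ρ γ : (Fin n → ZMod p) →ₗ[ZMod p] (Fin n → ZMod p)) h1
    rwa [coe_apply_inv] at h2⟩⟩
  rcases hmin B hBn (fun v hv => ⟨hlt.le hv, fun ψ _ => by rw [(hmk0 v (hlt.le hv)).2 hv, map_zero]⟩)
    (fun v hv => hv.1) with h | h
  · -- a non-trivial group of order a power of `p` fixes a non-zero vector
    exfalso
    have hn0 : 0 < n := by
      refine Nat.pos_of_ne_zero fun h0 => ha0 ?_
      subst h0
      exact LinearMap.ext fun w => Subsingleton.elim _ _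
    have : Nonempty (Fin n) := ⟨⟨0, hn0⟩⟩
    let ψ₀ : Ψ →* Module.End (ZMod p) (Fin n → ZMod p) := (Units.coeHom _).comp Ψ.subtype
    letI : MulAction Ψ (Fin n → ZMod p) := MulAction.compHom _ ψ₀
    have hd : p ∣ Nat.card (Fin n → ZMod p) := by
      rw [Nat.card_fun, Nat.card_zmod, Nat.card_fin]
      exact dvd_pow_self p hn0.ne'
    obtain ⟨b, hb, hb0⟩ :=
      (isPGroup_rad : IsPGroup p Ψ).exists_fixed_point_of_prime_dvd_card_of_fixed_point _ hd (a := 0)
        (fun g => show ψ₀ g 0 = 0 from map_zero _)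
    obtain ⟨v, hv, rfl⟩ := hmksurj b
    have hvB : v ∈ B := ⟨hv, fun ψ hψ => hb ⟨ψ, hψ⟩⟩
    rw [h] at hvB
    exact hb0 ((hmk0 v hv).2 hvB).symm
  · refine (Subgroup.eq_bot_iff_forall Ψ).2 fun ψ hψ => nil_eq_zero_iff.1 (LinearMap.ext fun w => ?_)
    obtain ⟨v, hv, rfl⟩ := hmksurj w
    obtain ⟨hv', h'⟩ : v ∈ B := h.symm ▸ hv
    rw [nil, LinearMap.sub_apply, h' ψ hψ, Module.End.one_apply, sub_self]; rfl

end

variable {X : Type u} [Group X] [Finite X] {p : ℕ} [hp : Fact p.Prime] {r : ℕ} [hr : Fact r.Prime]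
  {G R : Subgroup X}

omit hr in
/-- `C_G(O_p(G)) ≤ O_p(G)` when `F*(G) = O_p(G)`. -/
theorem mem_rad_of_commute (hF : generalizedFittingSubgroup ↥G = pCore p ↥G) {g : X} (hg : g ∈ G)
    (h : ∀ q ∈ rad p G, g * q = q * g) : g ∈ rad p G := by
  refine ⟨⟨g, hg⟩, ?_, rfl⟩
  have := Components.centralizer_generalizedFitting_le_self (G := G)
  rw [hF] at this
  exact this (Subgroup.mem_centralizer_iff.2 fun q hq => Subtype.ext (h q ⟨q, hq, rfl⟩).symm)

theorem rad_le_invCore (hR : CAct r R G) : rad p G ≤ invCore p R G :=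
  le_invCore hR rad_le isPGroup_rad (fun _ ha => le_normalizer_rad (hR.norm ha))
    fun _ ha => le_normalizer_rad (Subgroup.le_normalizer ha.1)

/-- **Flavell.** The K-infinity subgroup of the intersection of the `R`-invariant Sylow subgroups is
normalised by the whole group. -/
theorem le_normalizer_kInf_invCore (hR : CAct r R G) (hp3 : 3 < p)
    (hF : generalizedFittingSubgroup ↥G = pCore p ↥G) :
    G ≤ Subgroup.normalizer (inducedFunctor kInfLower (invCore p R G) : Set X) := by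
  classical
  set Q := rad p G with hQ
  by_cases hQ0 : Q = ⊥
  · have : G = ⊥ := (Subgroup.eq_bot_iff_forall G).2 fun g hg => Subgroup.mem_bot.1 (hQ0 ▸
      mem_rad_of_commute hF hg fun q hq => by
        rw [← hQ, hQ0, Subgroup.mem_bot] at hq
        rw [hq, mul_one, one_mul])
    rw [this]; exact bot_le
  have hQp : IsPGroup p Q := isPGroup_rad
  have hpG : p ∣ Nat.card G := by
    obtain ⟨m, hm⟩ := IsPGroup.iff_card.1 hQp
    refine dvd_trans ?_ (Subgroup.card_dvd_of_le (rad_le : Q ≤ G))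
    rw [hm]
    refine dvd_pow_self p fun h0 => hQ0 (Subgroup.eq_bot_of_card_eq _ ?_)
    rw [hm, h0, pow_zero]
  have hrp : r.Coprime p := (hR.cop.coprime_dvd_left hpG).symm
  set K := G ⊔ R with hK
  have hGK : G ≤ K := le_sup_left
  have hRK : R ≤ K := le_sup_right
  have hKG : K ≤ Subgroup.normalizer (G : Set X) := sup_le Subgroup.le_normalizer hR.norm
  set C0 := R ⊓ Subgroup.centralizer (G : Set X) with hC0
  have hKC : K ≤ Subgroup.normalizer (C0 : Set X) := by
    refine sup_le (le_normalizer_of_forall fun g hg c hc => ?_)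
      (le_normalizer_of_forall fun a ha c hc => ?_)
    · rw [Subgroup.mem_centralizer_iff.1 hc.2 g hg, mul_inv_cancel_right]; exact hc
    · refine Subgroup.mem_inf.2 ⟨mul_mem (mul_mem ha hc.1) (inv_mem ha),
        Subgroup.mem_centralizer_iff.2 fun g hg => ?_⟩
      have hg' : a⁻¹ * g * a⁻¹⁻¹ ∈ G := (Subgroup.mem_normalizer_iff.1 (inv_mem (hR.norm ha)) g).1 hg
      have := (Commute.conj_iff (h := a)).2 (Subgroup.mem_centralizer_iff.1 hc.2 _ hg' : Commute _ c)
      rw [show a * (a⁻¹ * g * a⁻¹⁻¹) * a⁻¹ = g by group] at this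
      exact this
  have hCn : (C0.subgroupOf K).Normal := Subgroup.normal_subgroupOf_of_le_normalizer hKC
  set mk := QuotientGroup.mk' (C0.subgroupOf K) with hmk
  have hinj : ∀ g : K, (g : X) ∈ G → mk g = 1 → g = 1 := fun g hg h => by
    rw [hmk, QuotientGroup.mk'_apply, QuotientGroup.eq_one_iff, Subgroup.mem_subgroupOf] at h
    have h2 : (g : X) ∈ G ⊓ R := ⟨hg, h.1⟩
    rw [CfsgLib.Coprime.inf_eq_bot_of_coprime hR.cop'.symm, Subgroup.mem_bot] at h2
    exact Subtype.ext h2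
  have hGn : (G.subgroupOf K).Normal := Subgroup.normal_subgroupOf_of_le_normalizer hKG
  set Gh := (G.subgroupOf K).map mk with hGh
  have hGhn : Gh.Normal := hGn.map mk (QuotientGroup.mk'_surjective _)
  set T := pCore p (K ⧸ C0.subgroupOf K) with hT
  have hTp : IsPGroup p T := PLocal.isPGroup_pCore p _
  have hKQ : K ≤ Subgroup.normalizer (Q : Set X) := fun x hx => le_normalizer_rad (hKG hx)
  have hQT : (Q.subgroupOf K).map mk ≤ T := by
    have : (Q.subgroupOf K).Normal := Subgroup.normal_subgroupOf_of_le_normalizer hKQ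
    have := this.map mk (QuotientGroup.mk'_surjective _)
    exact PLocal.le_pCore ((hQp.comap_of_injective K.subtype K.subtype_injective).map mk)
  have hTG : T ≤ Gh := by
    intro x hx
    obtain ⟨⟨κ, hκ⟩, rfl⟩ := QuotientGroup.mk'_surjective _ x
    obtain ⟨g, hg, a, ha, rfl⟩ := CfsgLib.Coprime.exists_mul_of_mem_sup hR.norm hκ
    set q2 := QuotientGroup.mk' Gh
    have hqg : q2 (mk ⟨g, hGK hg⟩) = 1 := (QuotientGroup.eq_one_iff _).2 ⟨_, hg, rfl⟩
    have hspl : (⟨g * a, hκ⟩ : K) = ⟨g, hGK hg⟩ * ⟨a, hRK ha⟩ := rfl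
    have e : q2 (mk ⟨g * a, hκ⟩) = q2 (mk ⟨a, hRK ha⟩) := by
      rw [hspl, map_mul, map_mul, hqg, one_mul]
    obtain ⟨j, hj⟩ := hTp ⟨_, hx⟩
    obtain ⟨b, hb⟩ := hR.rgroup ⟨a, ha⟩
    replace hj : mk ⟨g * a, hκ⟩ ^ p ^ j = 1 := congrArg Subtype.val hj
    replace hb : a ^ r ^ b = 1 := congrArg Subtype.val hb
    have hb' : (⟨a, hRK ha⟩ : K) ^ r ^ b = 1 := Subtype.ext hb
    refine (QuotientGroup.eq_one_iff _).1 (eq_one_of_pow_coprime (Nat.Coprime.pow j b hrp.symm)
      (y := q2 (mk ⟨g * a, hκ⟩)) ?_ ?_)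
    · rw [← map_pow, hj, map_one]
    · rw [e, ← map_pow, ← map_pow, hb', map_one, map_one]
  have hTQ : ∀ κ : K, (κ : X) ∈ G → mk κ ∈ T → (κ : X) ∈ Q := by
    have hle : ((T.comap mk) ⊓ G.subgroupOf K).map K.subtype ≤ Q := by
      refine le_rad (by rintro _ ⟨κ, hκ, rfl⟩; exact hκ.2) ?_ (le_normalizer_of_forall ?_)
      · rintro ⟨_, κ, hκ, rfl⟩
        obtain ⟨j, hj⟩ := hTp ⟨_, hκ.1⟩
        refine ⟨j, Subtype.ext ?_⟩
        have h := hinj (κ ^ p ^ j) (by rw [Subgroup.coe_pow]; exact G.pow_mem hκ.2 _)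
          (by rw [map_pow]; exact congrArg Subtype.val hj)
        show (κ : X) ^ p ^ j = 1
        rw [← Subgroup.coe_pow, h, Subgroup.coe_one]
      · rintro g hg _ ⟨κ, hκ, rfl⟩
        refine ⟨⟨g, hGK hg⟩ * κ * ⟨g, hGK hg⟩⁻¹, Subgroup.mem_inf.2
          ⟨?_, mul_mem (mul_mem hg hκ.2) (inv_mem hg)⟩, rfl⟩
        show mk _ ∈ T
        rw [map_mul, map_mul, map_inv]
        exact (inferInstance : T.Normal).conj_mem _ hκ.1 _
    exact fun κ hκ hκT => hle ⟨κ, ⟨hκT, hκ⟩, rfl⟩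
  have hcon : CfsgLib.ConjFunctor.IsConstrained p (K ⧸ C0.subgroupOf K) := by
    refine PLocal.le_pCore fun ⟨x, hx⟩ => ?_
    obtain ⟨c, m, hpm, hxm⟩ := Nat.exists_eq_pow_mul_and_not_dvd (orderOf_pos x).ne' p hp.out.ne_one
    refine ⟨c, Subtype.ext ?_⟩
    show x ^ p ^ c = 1
    have hy : x ^ p ^ c ∈ Subgroup.centralizer (T : Set _) := pow_mem hx _
    have hym : (x ^ p ^ c) ^ m = 1 := by rw [← pow_mul, ← hxm, pow_orderOf_eq_one]
    generalize x ^ p ^ c = y at hy hym ⊢
    have hm : m.Coprime p := ((Nat.Prime.coprime_iff_not_dvd hp.out).2 hpm).symm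
    obtain ⟨⟨w, hw⟩, rfl⟩ := QuotientGroup.mk'_surjective _ y
    have hwQ : ∀ q ∈ Q, w * q * w⁻¹ = q := fun q hq => by
      have h := Subgroup.mem_centralizer_iff.1 hy _ (hQT ⟨⟨q, hGK (rad_le hq)⟩, hq, rfl⟩)
      have h' := hinj (⟨w, hw⟩ * ⟨q, hGK (rad_le hq)⟩ * ⟨w, hw⟩⁻¹ * ⟨q, hGK (rad_le hq)⟩⁻¹)
        (show w * q * w⁻¹ * q⁻¹ ∈ G from mul_mem ((Subgroup.mem_normalizer_iff.1 (hKG hw) q).1
          (rad_le hq)) (inv_mem (rad_le hq)))
        (by
          simp only [map_mul, map_inv, mul_inv_eq_one]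
          rw [mul_inv_eq_iff_eq_mul]
          exact h.symm)
      exact mul_inv_eq_one.1 (congrArg Subtype.val h')
    have hwG : ∀ h ∈ G, w * h * w⁻¹ = h := by
      intro h hh
      set n := h⁻¹ * (w * h * w⁻¹) with hn
      have hnG : n ∈ G := mul_mem (inv_mem hh) ((Subgroup.mem_normalizer_iff.1 (hKG hw) h).1 hh)
      have hnQ : n ∈ Q := mem_rad_of_commute hF hnG fun q hq => by
        have hq' : h * q * h⁻¹ ∈ Q :=
          (Subgroup.mem_normalizer_iff.1 (le_normalizer_rad (Subgroup.le_normalizer hh)) q).1 hq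
        have e2 : w⁻¹ * q * w = q := by
          conv_lhs => rw [← hwQ q hq]
          group
        have e1 : w * h * w⁻¹ * q * (w * h * w⁻¹)⁻¹ = h * q * h⁻¹ := by
          calc w * h * w⁻¹ * q * (w * h * w⁻¹)⁻¹ = w * (h * (w⁻¹ * q * w) * h⁻¹) * w⁻¹ := by group
            _ = _ := by rw [e2, hwQ _ hq']
        calc n * q = h⁻¹ * (w * h * w⁻¹ * q * (w * h * w⁻¹)⁻¹) * (w * h * w⁻¹) := by
              rw [hn]; group
          _ = q * n := by rw [e1, hn]; group
      have hwn : w * n * w⁻¹ = n := hwQ n hnQ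
      have hit : ∀ i : ℕ, w ^ i * h * (w ^ i)⁻¹ = h * n ^ i := by
        intro i
        induction i with
        | zero => simp
        | succ i ih =>
          calc w ^ (i + 1) * h * (w ^ (i + 1))⁻¹ = w * (w ^ i * h * (w ^ i)⁻¹) * w⁻¹ := by
                rw [pow_succ']; group
            _ = (w * h * w⁻¹) * (w * n * w⁻¹) ^ i := by rw [ih, conj_pow]; group
            _ = h * n ^ (i + 1) := by
              rw [hwn, pow_succ', ← mul_assoc h]
              congr 1
              rw [hn]; group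
      have hwm : w ^ m ∈ C0 := by
        rw [← map_pow, QuotientGroup.mk'_apply, QuotientGroup.eq_one_iff,
          Subgroup.mem_subgroupOf, Subgroup.coe_pow] at hym
        exact hym
      have hnm : n ^ m = 1 := by
        have := hit m
        rw [← Subgroup.mem_centralizer_iff.1 hwm.2 h hh, mul_inv_cancel_right] at this
        exact left_eq_mul.1 this
      obtain ⟨j, hj⟩ := hQp ⟨n, hnQ⟩
      have hn1 := eq_one_of_pow_coprime (hm.pow_right j) hnm (congrArg Subtype.val hj)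
      rw [hn, inv_mul_eq_one] at hn1
      exact hn1.symm
    obtain ⟨g, hg, a, ha, rfl⟩ := CfsgLib.Coprime.exists_mul_of_mem_sup hR.norm hw
    have hia : ∀ i : ℕ, ∀ h ∈ G, a ^ i * h * (a ^ i)⁻¹ = (g ^ i)⁻¹ * h * g ^ i := by
      intro i
      induction i with
      | zero => intro h _; simp
      | succ i ih =>
        intro h hh
        have e1 : (g ^ i)⁻¹ * h * g ^ i ∈ G :=
          mul_mem (mul_mem (inv_mem (G.pow_mem hg i)) hh) (G.pow_mem hg i)
        have e2 := hwG _ e1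
        calc a ^ (i + 1) * h * (a ^ (i + 1))⁻¹ = a * (a ^ i * h * (a ^ i)⁻¹) * a⁻¹ := by
              rw [pow_succ']; group
          _ = g⁻¹ * (g * a * ((g ^ i)⁻¹ * h * g ^ i) * (g * a)⁻¹) * g := by rw [ih h hh]; group
          _ = _ := by rw [e2, pow_succ]; group
    obtain ⟨b, hb⟩ := hR.rgroup ⟨a, ha⟩
    replace hb : a ^ r ^ b = 1 := congrArg Subtype.val hb
    have hgb : g ^ r ^ b ∈ Q := mem_rad_of_commute hF (G.pow_mem hg _) fun q hq => by
      have h' := hia (r ^ b) q (rad_le hq)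
      rw [hb, inv_one, one_mul, mul_one] at h'
      calc g ^ r ^ b * q = g ^ r ^ b * ((g ^ r ^ b)⁻¹ * q * g ^ r ^ b) := by rw [← h']
        _ = q * g ^ r ^ b := by group
    obtain ⟨j, hj⟩ := hQp ⟨_, hgb⟩
    replace hj : (g ^ r ^ b) ^ p ^ j = 1 := congrArg Subtype.val hj
    have hgp : g ^ p ^ j = 1 := by
      refine eq_one_of_pow_coprime (m := r ^ b) (n := Nat.card G) (hR.cop.symm.pow_left b) ?_ ?_
      · rw [← pow_mul, mul_comm, pow_mul, hj]
      · rw [← pow_mul, mul_comm, pow_mul,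
          show g ^ Nat.card G = 1 from congrArg Subtype.val (pow_card_eq_one' (x := (⟨g, hg⟩ : G))),
          one_pow]
    have haC : a ∈ C0 := by
      refine Subgroup.mem_inf.2 ⟨ha, ?_⟩
      have hc : a ^ p ^ j ∈ Subgroup.centralizer (G : Set X) :=
        Subgroup.mem_centralizer_iff.2 fun h hh => by
          have h' := hia (p ^ j) h hh
          rw [hgp, inv_one, one_mul, mul_one, mul_inv_eq_iff_eq_mul] at h'
          exact h'.symm
      obtain ⟨i, hi⟩ := exists_pow_eq_self_of_coprime (n := p ^ j) (x := a)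
        (((hrp.pow_left b).symm.pow_left j).coprime_dvd_right (orderOf_dvd_of_pow_eq_one hb))
      rw [← hi]
      exact pow_mem hc i
    have hgQ : g ∈ Q := mem_rad_of_commute hF hg fun q hq => by
      have h1 := hwQ q hq
      rw [show g * a * q * (g * a)⁻¹ = g * (a * q * a⁻¹) * g⁻¹ by group,
        ← Subgroup.mem_centralizer_iff.1 haC.2 q (rad_le hq), mul_inv_cancel_right,
        mul_inv_eq_iff_eq_mul] at h1
      exact h1
    have e : mk ⟨g * a, hw⟩ = mk ⟨g, hGK hg⟩ := by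
      rw [show (⟨g * a, hw⟩ : K) = ⟨g, hGK hg⟩ * ⟨a, hRK ha⟩ from rfl, map_mul,
        show mk ⟨a, hRK ha⟩ = 1 from (QuotientGroup.eq_one_iff _).2 haC, mul_one]
    obtain ⟨l, hl⟩ := hTp ⟨_, hQT ⟨⟨g, hGK hg⟩, hgQ, rfl⟩⟩
    exact eq_one_of_pow_coprime (hm.pow_right l) hym (by rw [e]; exact congrArg Subtype.val hl)
  set P := invCore p R G with hP
  have hPG : P ≤ G := invCore_le
  have hPK : P ≤ K := hPG.trans hGK
  set φ : P →* K ⧸ C0.subgroupOf K := mk.comp (Subgroup.inclusion hPK) with hφ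
  have hφi : Function.Injective φ := by
    rw [injective_iff_map_eq_one]
    exact fun x hx => Subgroup.inclusion_injective hPK ((hinj (Subgroup.inclusion hPK x) (hPG x.2) hx).trans (map_one _).symm)
  set S := φ.range with hS
  have hTS : T ≤ S := fun x hx => by
    obtain ⟨κ, hκ, rfl⟩ := hTG hx
    exact ⟨⟨κ, rad_le_invCore hR (hTQ κ hκ hx)⟩, rfl⟩
  obtain ⟨A, hd, -⟩ := CfsgLib.ConjFunctor.exists_criticalData (p := p) (G := K ⧸ C0.subgroupOf K)
  rcases kInfLower_normal_or_cubic hTS hd with hN | ⟨x, hxS, hxT, -, -, hfac⟩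
  · -- transport back
    have he : (kInfLower P).map φ = inducedFunctor kInfLower S := by
      show _ = (kInfLower S).map S.subtype
      rw [← (CfsgLib.ConjFunctor.map_kInf_equiv (MonoidHom.ofInjective hφi)).1, Subgroup.map_map]
      rfl
    refine le_normalizer_of_forall fun g hg x hx => ?_
    obtain ⟨y, hy, rfl⟩ := hx
    have hyK : (y : X) ∈ K := hPK y.2
    have h1 : mk ⟨g, hGK hg⟩ * φ y * (mk ⟨g, hGK hg⟩)⁻¹ ∈ inducedFunctor kInfLower S :=
      hN.conj_mem _ (he ▸ Subgroup.mem_map_of_mem φ hy) _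
    rw [← he] at h1
    obtain ⟨y', hy', e⟩ := h1
    refine ⟨y', hy', ?_⟩
    have h2 := hinj (⟨g, hGK hg⟩ * ⟨y, hyK⟩ * ⟨g, hGK hg⟩⁻¹ * (Subgroup.inclusion hPK y')⁻¹)
      (mul_mem (mul_mem (mul_mem hg (hPG y.2)) (inv_mem hg)) (inv_mem (hPG y'.2))) (by
        rw [map_mul, map_mul, map_mul, map_inv, map_inv, mul_inv_eq_one]
        exact e.symm)
    exact (mul_inv_eq_one.1 (congrArg Subtype.val h2)).symm
  · exfalso
    obtain ⟨y, rfl⟩ := hxS
    obtain ⟨U, V, hUV, hUA, hq, u₀, hu₀, hmov⟩ := hfac hcon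
    exact false_of_quadratic_chief hp3 hR hGK hRK hKG mk (QuotientGroup.mk'_surjective _) hUV
      (hTp.to_le (hUA.trans hd.le)) (x := (y : X)) y.2 (hPK y.2) hq hu₀ hmov

/-- The intersection of the invariant Sylow subgroups, as an infimum over the Sylow subgroups. -/
theorem eq_invCore (hR : CAct r R G) {P : Subgroup X}
    (hP : P = ⨅ S : {S : Sylow p ↥G // ∀ a ∈ R, ((S : Subgroup ↥G).map G.subtype).map
      (MulAut.conj a).toMonoidHom = (S : Subgroup ↥G).map G.subtype},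
      ((S : Sylow p ↥G) : Subgroup ↥G).map G.subtype) : P = invCore p R G := by
  rw [hP]
  refine le_antisymm ?_ (le_iInf fun S => invCore_le_of (isInvSylow_iff.2
    ⟨S.1, rfl, fun a ha => cnj_eq_iff.1 (S.2 a ha)⟩))
  obtain ⟨S₀, hS₀⟩ := exists_isInvSylow (p := p) hR
  obtain ⟨T₀, rfl, hn₀⟩ := isInvSylow_iff.1 hS₀
  refine le_inf ((iInf_le (fun S : {S : Sylow p ↥G // ∀ a ∈ R, ((S : Subgroup ↥G).map G.subtype).map
      (MulAut.conj a).toMonoidHom = (S : Subgroup ↥G).map G.subtype} =>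
      ((S : Sylow p ↥G) : Subgroup ↥G).map G.subtype)
        ⟨T₀, fun a ha => cnj_eq_iff.2 (hn₀ ha)⟩).trans hS₀.le) (le_iInf₂ fun S hS => ?_)
  obtain ⟨T, rfl, hn⟩ := isInvSylow_iff.1 hS
  exact iInf_le (fun S : {S : Sylow p ↥G // ∀ a ∈ R, ((S : Subgroup ↥G).map G.subtype).map
      (MulAut.conj a).toMonoidHom = (S : Subgroup ↥G).map G.subtype} =>
      ((S : Sylow p ↥G) : Subgroup ↥G).map G.subtype) ⟨T, fun a ha => cnj_eq_iff.2 (hn ha)⟩

/-- The same, for the intersection given as an infimum. -/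
theorem le_normalizer_kInf_iInf (hnorm : R ≤ Subgroup.normalizer (G : Set X)) (hRr : IsPGroup r R)
    (hcop : (Nat.card G).Coprime r) (hp3 : 3 < p)
    (hF : generalizedFittingSubgroup ↥G = pCore p ↥G) {P : Subgroup X}
    (hP : P = ⨅ S : {S : Sylow p ↥G // ∀ a ∈ R, ((S : Subgroup ↥G).map G.subtype).map
      (MulAut.conj a).toMonoidHom = (S : Subgroup ↥G).map G.subtype},
      ((S : Sylow p ↥G) : Subgroup ↥G).map G.subtype) :
    G ≤ Subgroup.normalizer (inducedFunctor kInfLower P : Set X) := by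
  rw [eq_invCore ⟨hnorm, hRr, hcop⟩ hP]
  exact le_normalizer_kInf_invCore ⟨hnorm, hRr, hcop⟩ hp3 hF

end CfsgLib.Flavell73
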