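import Cfsg.Agent.RootSubgroups.QuadCentral
import Cfsg.Agent.PLocal.Cores
import Mathlib.Algebra.CharP.Lemmas
import Mathlib.GroupTheory.PGroup

/-!
Groups of linear maps over a prime field: quadratic elements, and `p`-groups as unipotent groups.
-/

set_option autoImplicit false

namespace CfsgLib.Flavell73

open Cfsg CfsgLib.RootSubgroups CfsgLib.RootSubgroups.QuadPair

universe u

/-- `k` is the field of `p > 3` elements. -/
structure PF (k : Type u) [Field k] (p : ℕ) : Prop where
  card : Nat.card k = p
  big : 3 < p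

variable {k : Type u} [Field k] {p : ℕ} [hp : Fact p.Prime]
  {M : Type u} [AddCommGroup M] [Module k M] [FiniteDimensional k M]

namespace PF

variable (hk : PF k p)
include hk

theorem finite : Finite k := Nat.finite_of_card_ne_zero (by rw [hk.card]; exact hp.out.ne_zero)

theorem charP : CharP k p := by
  have := hk.finite
  have := Fintype.ofFinite k
  refine charP_of_card_eq_prime ?_
  rw [← Nat.card_eq_fintype_card, hk.card]

theorem two : ringChar k ≠ 2 := by
  have := hk.charP
  rw [ringChar.eq k p]
  have := hk.big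
  omega

theorem three : Nat.card k ≠ 3 := by
  rw [hk.card]
  have := hk.big
  omega

theorem natCast_surj (c : k) : ∃ n : ℕ, (n : k) = c := by
  have := hk.charP
  have := hk.finite
  have hinj : Function.Injective fun i : Fin p => ((i : ℕ) : k) := fun i j h => by
    refine Fin.ext ?_
    have h' := (CharP.natCast_eq_natCast k p).1 h
    rwa [Nat.ModEq, Nat.mod_eq_of_lt i.2, Nat.mod_eq_of_lt j.2] at h'
  have hbij : Function.Bijective fun i : Fin p => ((i : ℕ) : k) :=
    (Nat.bijective_iff_injective_and_card _).2 ⟨hinj, by rw [Nat.card_fin, hk.card]⟩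
  obtain ⟨i, hi⟩ := hbij.2 c
  exact ⟨i, hi⟩

theorem finiteM : Finite M :=
  have := hk.finite
  Module.finite_of_finite k

theorem finiteGL : Finite (LinearMap.GeneralLinearGroup k M) := by
  have := hk.finiteM (M := M)
  have : Finite (M →ₗ[k] M) := Finite.of_injective (fun f => (f : M → M)) DFunLike.coe_injective
  exact Finite.of_injective (fun g : LinearMap.GeneralLinearGroup k M => (g : M →ₗ[k] M))
    Units.val_injective

end PF

theorem nil_pow_of_sq {g : LinearMap.GeneralLinearGroup k M} (h : nil g * nil g = 0) (n : ℕ) :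
    nil (g ^ n) = (n : k) • nil g := by
  induction n with
  | zero => simp [nil_one]
  | succ n ih =>
    rw [pow_succ, nil_mul, ih, smul_mul_assoc, h, smul_zero, add_zero, Nat.cast_succ, add_smul,
      one_smul]

/-- The iterated fixed spaces of `H`. -/
noncomputable def fixSeq (H : Subgroup (LinearMap.GeneralLinearGroup k M)) : ℕ → Submodule k M
  | 0 => ⊥
  | i + 1 => ⨅ g ∈ H, (fixSeq H i).comap (nil g)

variable (hk : PF k p)
include hk

/-- Over the prime field every quadratic element of `H` is in `𝒬(H)`. -/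
theorem quad_mem {H : Subgroup (LinearMap.GeneralLinearGroup k M)}
    {g : LinearMap.GeneralLinearGroup k M} (hg : g ∈ H) (hq : IsQuadraticOn g) :
    g ∈ quadraticElements H := by
  refine ⟨hg, hq, ?_⟩
  rintro x ⟨c, hc⟩
  obtain ⟨n, rfl⟩ := hk.natCast_surj c
  rw [show x = g ^ n from nil_injective (by
    rw [nil_pow_of_sq (nil_sq hq)]
    show (x : M →ₗ[k] M) - 1 = _
    rw [hc, add_sub_cancel_left]; rfl)]
  exact H.pow_mem hg n

theorem quad_iff {H : Subgroup (LinearMap.GeneralLinearGroup k M)}
    {g : LinearMap.GeneralLinearGroup k M} :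
    g ∈ quadraticElements H ↔ g ∈ H ∧ IsQuadraticOn g :=
  ⟨fun h => ⟨h.1, h.2.1⟩, fun h => quad_mem hk h.1 h.2⟩

/-- An element with nilpotent `g - 1` has order a power of `p`. -/
theorem exists_pow_eq_one {g : LinearMap.GeneralLinearGroup k M} {n : ℕ} (hn : nil g ^ n = 0) :
    ∃ j, g ^ p ^ j = 1 := by
  have := hk.charP
  refine ⟨n, nil_eq_zero_iff.1 ?_⟩
  rcases subsingleton_or_nontrivial M with hM | hM
  · exact Subsingleton.elim _ _
  have : CharP (Module.End k M) p := charP_of_injective_algebraMap (algebraMap k _).injective p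
  rw [nil, Units.val_pow_eq_pow_val, coe_eq_one_add g,
    add_pow_char_pow_of_commute (p := p) (h := Commute.one_left (nil g)), one_pow,
    pow_eq_zero_of_le (Nat.le_of_lt (n.lt_pow_self hp.out.one_lt)) hn, add_zero, sub_self]

/-- A group of elements `1 + N` with nilpotent `N` is a `p`-group. -/
theorem isPGroup_of_nilpotent {H : Subgroup (LinearMap.GeneralLinearGroup k M)}
    (h : ∀ g ∈ H, ∃ n, nil g ^ n = 0) : IsPGroup p H := fun g => by
  obtain ⟨n, hn⟩ := h g g.2
  obtain ⟨j, hj⟩ := exists_pow_eq_one hk hn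
  exact ⟨j, Subtype.ext (by rw [Subgroup.coe_pow, hj, Subgroup.coe_one])⟩

theorem isPGroup_of_unipotent {H : Subgroup (LinearMap.GeneralLinearGroup k M)}
    (h : IsUnipotentOn H) : IsPGroup p H := by
  obtain ⟨n, hn⟩ := isUnipotentOn_iff.1 h
  refine isPGroup_of_nilpotent hk fun g hg => ⟨n, ?_⟩
  have := hn (List.replicate n g) (fun x hx => by rw [List.eq_of_mem_replicate hx]; exact hg)
    (List.length_replicate ..)
  simpa [nil] using this

/-- A `p`-group of linear maps acts unipotently. -/
theorem isUnipotentOn_of_isPGroup 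
    {H : Subgroup (LinearMap.GeneralLinearGroup k M)} (hH : IsPGroup p H) : IsUnipotentOn H := by
  have := hk.finiteM (M := M)
  let F : ℕ → Submodule k M := fixSeq H
  have hF : ∀ i m, m ∈ F (i + 1) ↔ ∀ g ∈ H, nil g m ∈ F i := fun i m => by
    show m ∈ (⨅ g ∈ H, (fixSeq H i).comap (nil g)) ↔ _
    simp only [Submodule.mem_iInf, Submodule.mem_comap]
    rfl
  have hinv : ∀ i, ∀ g ∈ H, ∀ m ∈ F i, nil g m ∈ F i := by
    intro i
    induction i with
    | zero => intro g _ m hm; rw [show m = 0 from (Submodule.mem_bot k).1 hm, map_zero]; exact zero_mem _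
    | succ i ih =>
      intro g hg m hm
      exact (hF i _).2 fun x hx => ih x hx _ ((hF i m).1 hm g hg)
  have hmono : ∀ i, F i ≤ F (i + 1) := fun i m hm => (hF i m).2 fun g hg => hinv i g hg m hm
  have hgrow : ∀ i, F i ≠ ⊤ → F i < F (i + 1) := by
    intro i hi
    refine lt_of_le_of_ne (hmono i) fun he => ?_
    let ψ : H →* Module.End k (M ⧸ F i) :=
      { toFun := fun g => Submodule.mapQ (F i) (F i)
          ((g : LinearMap.GeneralLinearGroup k M) : M →ₗ[k] M) (fun m hm => by
            rw [Submodule.mem_comap, coe_eq_one_add (g : LinearMap.GeneralLinearGroup k M),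
              LinearMap.add_apply, Module.End.one_apply]
            exact add_mem hm (hinv i g g.2 m hm))
        map_one' := by ext m; simp
        map_mul' := fun g g' => by ext m; simp }
    letI : MulAction H (M ⧸ F i) := MulAction.compHom (M ⧸ F i) ψ
    have : Nontrivial (M ⧸ F i) := Submodule.Quotient.nontrivial_iff.2 hi
    have hd : p ∣ Nat.card (M ⧸ F i) := by
      have := hk.finite
      have : Module.Finite k (M ⧸ F i) := Module.Finite.quotient k (F i)
      rw [Module.natCard_eq_pow_finrank (K := k) (V := M ⧸ F i), hk.card]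
      exact dvd_pow_self p (Module.finrank_pos (R := k) (M := M ⧸ F i)).ne'
    have : Finite (M ⧸ F i) := Quotient.finite _
    obtain ⟨b, hb, hb0⟩ := hH.exists_fixed_point_of_prime_dvd_card_of_fixed_point (M ⧸ F i) hd
      (a := 0) (fun g => show ψ g 0 = 0 from map_zero _)
    obtain ⟨m, rfl⟩ := Submodule.Quotient.mk_surjective _ b
    have hm : m ∈ F (i + 1) := (hF i m).2 fun g hg => by
      have := hb ⟨g, hg⟩
      replace this : ψ ⟨g, hg⟩ (Submodule.Quotient.mk m) = Submodule.Quotient.mk m := this
      change Submodule.Quotient.mk ((g : M →ₗ[k] M) m) = Submodule.Quotient.mk m at this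
      rwa [Submodule.Quotient.eq] at this
    exact hb0 ((Submodule.Quotient.mk_eq_zero _).2 (he ▸ hm)).symm
  have htop : ∃ n, F n = ⊤ := by
    by_contra hno
    have : StrictMono F := strictMono_nat_of_lt_succ fun i => hgrow i fun h => hno ⟨i, h⟩
    exact not_injective_infinite_finite F this.injective
  exact unipotent_of_flag (fl := ⟨F, rfl, hmono, htop⟩) fun g hg t m hm => (hF t m).1 hm g hg

/-- No non-trivial normal `p`-subgroup implies reduced. -/
theorem reduced_of_forall {G : Subgroup (LinearMap.GeneralLinearGroup k M)}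
    (h : ∀ U ≤ G, IsPGroup p U → (∀ g ∈ G, conjBy U g = U) → U = ⊥) : Reduced G :=
  fun U hU hu hn => h U hU (isPGroup_of_unipotent hk hu) hn

theorem eq_bot_of_reduced {G : Subgroup (LinearMap.GeneralLinearGroup k M)}
    (h : Reduced G) {U : Subgroup (LinearMap.GeneralLinearGroup k M)} (hU : U ≤ G)
    (hp' : IsPGroup p U) (hn : ∀ g ∈ G, conjBy U g = U) : U = ⊥ :=
  h U hU (isUnipotentOn_of_isPGroup hk hp') hn

end CfsgLib.Flavell73
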