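import Cfsg.Agent.Flavell73.PairSection
import Cfsg.Agent.Flavell73.Reduction
import Cfsg.Agent.ConjFunctor.FourEngel
import Cfsg.Agent.ConjFunctor.Semisimple
import Cfsg.Agent.Components.FStar
import Cfsg.Agent.PLocal.ZJTheorem
import Cfsg.Agent.PLocal.LocalConstraint
import Mathlib.Algebra.Module.ZMod
import Mathlib.GroupTheory.SemidirectProduct

/-!
`Z(J(S))` is normal in a group with `C(O_p) ≤ O_p` admitting a coprime automorphism group whose
fixed points have no `PSL₂(p)` section, for `p > 3`.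
-/

set_option autoImplicit false

universe u

namespace CfsgLib.Flavell73

open Cfsg
open scoped commutatorElement

section
open CfsgLib.RootSubgroups CfsgLib.RootSubgroups.QuadPair

variable {p : ℕ} [hp : Fact p.Prime]

theorem solvable_or_of_coprime {X : Type*} [Group X] [Finite X] {A B : Subgroup X}
    (h : (Nat.card A).Coprime (Nat.card B)) : Group.IsSolvable A ∨ Group.IsSolvable B := by
  rcases Nat.even_or_odd (Nat.card A) with he | ho
  · refine Or.inr (Cfsg.Agent.S0205.result (Nat.not_even_iff_odd.1 fun hb => ?_))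
    exact absurd (Nat.dvd_gcd he.two_dvd hb.two_dvd) (by rw [h.gcd_eq_one]; omega)
  · exact Or.inl (Cfsg.Agent.S0205.result ho)

/-- A quadratic non-trivial action on a chief factor gives a section in the fixed points. -/
theorem involves_of_quadratic_chief {Γ : Type u} [Group Γ] [Finite Γ] (hp3 : 3 < p)
    {N A : Subgroup Γ} [N.Normal] (hNA : ∀ γ : Γ, ∃ g ∈ N, ∃ a ∈ A, g * a = γ)
    (hcop : (Nat.card A).Coprime (Nat.card N))
    {U V : Subgroup Γ} (hUV : IsChiefFactor U V) (hUp : IsPGroup p U)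
    {s : Γ} (hs : s ∈ N) (hq : ∀ u ∈ U, ⁅s, ⁅s, u⁆⁆ ∈ V) {u₀ : Γ} (hu₀ : u₀ ∈ U)
    (hmov : ⁅s, u₀⁆ ∉ V) :
    Involves (Matrix.ProjectiveSpecialLinearGroup (Fin 2) (ZMod p))
      ↥(N ⊓ Subgroup.centralizer (A : Set Γ)) := by
  have hNn : N.Normal := inferInstance
  obtain ⟨hlt, hUn, hVn, hmin⟩ := id hUV
  obtain ⟨hab, hexp⟩ := CfsgLib.ConjFunctor.chiefFactor_elementary hUV hUp
  set q := QuotientGroup.mk' V with hqdef
  set W : Subgroup (Γ ⧸ V) := U.map q with hWdef
  have hWn : W.Normal := hUn.map q (QuotientGroup.mk'_surjective V)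
  letI : CommGroup W :=
    { W.toGroup with
      mul_comm := by
        rintro ⟨_, a, ha, rfl⟩ ⟨_, b, hb, rfl⟩
        refine Subtype.ext (commutatorElement_eq_one_iff_mul_comm.1 ?_)
        rw [← map_commutatorElement, hqdef, QuotientGroup.mk'_apply, QuotientGroup.eq_one_iff]
        exact hab (Subgroup.commutator_mem_commutator ha hb) }
  have hA : ∀ v : Additive W, p • v = 0 := fun v => by
    obtain ⟨⟨_, a, ha, rfl⟩, rfl⟩ := Additive.ofMul.surjective v
    refine Additive.toMul.injective (Subtype.ext ?_)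
    rw [toMul_nsmul, toMul_ofMul, toMul_zero, Subgroup.coe_pow, Subgroup.coe_one, ← map_pow, hqdef,
      QuotientGroup.mk'_apply, QuotientGroup.eq_one_iff]
    exact hexp a ha
  obtain ⟨n, ⟨e⟩⟩ : ∃ n, Nonempty (Additive W ≃+ (Fin n → ZMod p)) := by
    letI inst : Module (ZMod p) (Additive W) := AddCommGroup.zmodModule hA
    have hf : Module.Finite (ZMod p) (Additive W) := @Module.Finite.of_finite _ _ _ _ inst _
    exact ⟨_, ⟨(@Module.finBasis (ZMod p) (Additive W) _ _ inst
      (@Module.Free.of_divisionRing (ZMod p) (Additive W) _ _ inst) _ hf).equivFun.toAddEquiv⟩⟩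
  set c : Γ →* MulAut W := (MulAut.conjNormal).comp q with hc
  -- the representation
  let ρ : Γ →* LinearMap.GeneralLinearGroup (ZMod p) (Fin n → ZMod p) :=
    MonoidHom.toHomUnits
      { toFun := fun γ => AddMonoidHom.toZModLinearMap p
          ((e.toAddMonoidHom.comp (c γ).toMonoidHom.toAdditive).comp e.symm.toAddMonoidHom)
        map_one' := by
          refine LinearMap.ext fun w => ?_
          show e (Additive.ofMul ((c 1) (Additive.toMul (e.symm w)))) = w
          rw [map_one, MulAut.one_apply, ofMul_toMul, e.apply_symm_apply]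
        map_mul' := fun γ γ' => by
          refine LinearMap.ext fun w => ?_
          show e (Additive.ofMul ((c (γ * γ')) (Additive.toMul (e.symm w)))) =
            e (Additive.ofMul ((c γ) (Additive.toMul (e.symm
              (e (Additive.ofMul ((c γ') (Additive.toMul (e.symm w)))))))))
          rw [map_mul, MulAut.mul_apply, e.symm_apply_apply, toMul_ofMul] }
  set mk : ∀ v ∈ U, Fin n → ZMod p := fun v hv => e (Additive.ofMul ⟨q v, v, hv, rfl⟩) with hmk
  have hmksurj : ∀ w, ∃ v, ∃ hv : v ∈ U, mk v hv = w := fun w => by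
    obtain ⟨v, hv, hv'⟩ := (Additive.toMul (e.symm w)).2
    refine ⟨v, hv, ?_⟩
    rw [hmk]
    show e _ = w
    conv_rhs => rw [← e.apply_symm_apply w, ← ofMul_toMul (e.symm w)]
    exact congrArg e (congrArg Additive.ofMul (Subtype.ext hv'))
  have hmk0 : ∀ v hv, mk v hv = 0 ↔ v ∈ V := fun v hv => by
    rw [hmk]
    show e _ = 0 ↔ _
    rw [AddEquiv.map_eq_zero_iff, ← ofMul_one, Additive.ofMul.injective.eq_iff, Subtype.ext_iff,
      Subgroup.coe_one]
    exact QuotientGroup.eq_one_iff v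
  have hact : ∀ γ v hv, (ρ γ : (Fin n → ZMod p) →ₗ[ZMod p] (Fin n → ZMod p)) (mk v hv) =
      mk (γ * v * γ⁻¹) (hUn.conj_mem v hv γ) := fun γ v hv => by
    show e (Additive.ofMul ((c γ) (Additive.toMul (e.symm (mk v hv))))) = _
    rw [hmk, e.symm_apply_apply, toMul_ofMul]
    refine congrArg e (congrArg Additive.ofMul (Subtype.ext ?_))
    rw [hc, MonoidHom.comp_apply, MulAut.conjNormal_apply]
    show q γ * q v * (q γ)⁻¹ = q (γ * v * γ⁻¹)
    rw [map_mul, map_mul, map_inv]
  have hcm : ∀ γ v, v ∈ U → ⁅γ, v⁆ ∈ U := fun γ v hv =>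
    U.mul_mem (hUn.conj_mem v hv γ) (U.inv_mem hv)
  have hnil : ∀ γ v (hv : v ∈ U), nil (ρ γ) (mk v hv) =
      mk ⁅γ, v⁆ (hcm γ v hv) := fun γ v hv => by
    rw [nil, LinearMap.sub_apply, hact γ v hv, Module.End.one_apply, hmk]
    simp only [← map_sub]
    refine congrArg e (Additive.toMul.injective (Subtype.ext ?_))
    simp only [toMul_sub, toMul_ofMul, commutatorElement_def, map_mul, map_inv]
    show (_ : Γ ⧸ V) / _ = _
    rw [div_eq_mul_inv]
  have hk : PF (ZMod p) p := ⟨Nat.card_zmod p, hp3⟩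
  have := hk.finiteGL (M := Fin n → ZMod p)
  set G' := N.map ρ with hG'
  set a := ρ s with ha
  have ha0 : nil a ≠ 0 := fun h => hmov
    ((hmk0 _ (hcm _ _ hu₀)).1 (by rw [← hnil s u₀ hu₀, ← ha, h, LinearMap.zero_apply]))
  have hsq : nil a * nil a = 0 := by
    refine LinearMap.ext fun w => ?_
    obtain ⟨v, hv, rfl⟩ := hmksurj w
    rw [Module.End.mul_apply, ha, hnil _ v hv, hnil _ _ (hcm _ v hv)]
    exact (hmk0 _ (hcm _ _ (hcm _ v hv))).2 (hq v hv)
  set Ψ := rad p G' with hΨ
  have hGnorm : ∀ γ : Γ, ρ γ ∈ Subgroup.normalizer (G' : Set _) := fun γ =>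
    Subgroup.le_normalizer_map ρ ⟨γ, by rw [Subgroup.normalizer_eq_top (H := N)]; trivial, rfl⟩
  have hGn : ∀ γ : Γ, ρ γ ∈ Subgroup.normalizer (Ψ : Set _) := fun γ => le_normalizer_rad (hGnorm γ)
  have hΨ0 : Ψ = ⊥ := by
    let B : Subgroup Γ :=
      { carrier := {v | ∃ hv : v ∈ U, ∀ ψ ∈ Ψ,
          (ψ : (Fin n → ZMod p) →ₗ[ZMod p] (Fin n → ZMod p)) (mk v hv) = mk v hv}
        one_mem' := ⟨U.one_mem, fun ψ _ => by rw [(hmk0 1 U.one_mem).2 V.one_mem, map_zero]⟩
        mul_mem' := fun {v v'} ⟨hv, h⟩ ⟨hv', h'⟩ => ⟨U.mul_mem hv hv', fun ψ hψ => by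
          have e' : mk (v * v') (U.mul_mem hv hv') = mk v hv + mk v' hv' := by
            rw [hmk]
            simp only [← map_add, ← ofMul_mul]
            exact congrArg e (congrArg Additive.ofMul (Subtype.ext (map_mul q v v')))
          rw [e', map_add, h ψ hψ, h' ψ hψ]⟩
        inv_mem' := fun {v} ⟨hv, h⟩ => ⟨U.inv_mem hv, fun ψ hψ => by
          have e' : mk v⁻¹ (U.inv_mem hv) = -mk v hv := by
            rw [hmk]
            simp only [← map_neg, ← ofMul_inv]
            exact congrArg e (congrArg Additive.ofMul (Subtype.ext (map_inv q v)))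
          rw [e', map_neg, h ψ hψ]⟩ }
    have hBn : B.Normal := ⟨fun v ⟨hv, h⟩ γ => ⟨hUn.conj_mem v hv γ, fun ψ hψ => by
      rw [← hact γ v hv]
      have h1 := h _ ((Subgroup.mem_normalizer_iff.1 (inv_mem (hGn γ)) ψ).1 hψ)
      rw [inv_inv, Units.val_mul, Units.val_mul, Module.End.mul_apply, Module.End.mul_apply] at h1
      have h2 := congrArg (ρ γ : (Fin n → ZMod p) →ₗ[ZMod p] (Fin n → ZMod p)) h1
      rwa [coe_apply_inv] at h2⟩⟩
    rcases hmin B hBn (fun v hv => ⟨hlt.le hv, fun ψ _ => by rw [(hmk0 v (hlt.le hv)).2 hv, map_zero]⟩)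
      (fun v hv => hv.1) with h | h
    · -- a group of order a power of `p` fixes a non-zero vector
      exfalso
      have hn0 : 0 < n := by
        refine Nat.pos_of_ne_zero fun h0 => ha0 ?_
        subst h0
        exact LinearMap.ext fun w => Subsingleton.elim _ _
      let ψ₀ : Ψ →* Module.End (ZMod p) (Fin n → ZMod p) := (Units.coeHom _).comp Ψ.subtype
      letI : MulAction Ψ (Fin n → ZMod p) := MulAction.compHom _ ψ₀
      have hd : p ∣ Nat.card (Fin n → ZMod p) := by
        rw [Nat.card_fun, Nat.card_zmod, Nat.card_fin]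
        exact dvd_pow_self p hn0.ne'
      obtain ⟨b, hb, hb0⟩ :=
        (isPGroup_rad : IsPGroup p Ψ).exists_fixed_point_of_prime_dvd_card_of_fixed_point _ hd (a := 0)
          (fun g => show ψ₀ g 0 = 0 from map_zero _)
      obtain ⟨v, hv, rfl⟩ := hmksurj b
      have hvB : v ∈ B := ⟨hv, fun ψ hψ => hb ⟨ψ, hψ⟩⟩
      rw [h] at hvB
      exact hb0 ((hmk0 v hv).2 hvB).symm
    · refine (Subgroup.eq_bot_iff_forall Ψ).2 fun ψ hψ => nil_eq_zero_iff.1 (LinearMap.ext fun w => ?_)
      obtain ⟨v, hv, rfl⟩ := hmksurj w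
      obtain ⟨hv', h'⟩ : v ∈ B := h.symm ▸ hv
      rw [nil, LinearMap.sub_apply, h' ψ hψ, Module.End.one_apply, sub_self]; rfl
  have hred : Reduced G' := reduced_of_forall hk fun U' hU hUp' hUn' => eq_bot_iff.2 (hΨ0 ▸
    le_rad hU hUp' fun g hg => conjBy_eq_self_iff.1 (hUn' g hg))
  have hsec := involves_psl2_fixed hk hred (A := A.map ρ)
    (by rintro _ ⟨x, -, rfl⟩; exact hGnorm x)
    ((hcop.coprime_dvd_left (Subgroup.card_map_dvd _ ρ)).coprime_dvd_right (Subgroup.card_map_dvd _ ρ))
    (g := a) ⟨s, hs, rfl⟩ ⟨hsq, ha0⟩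
  have hmap := CfsgLib.Coprime.map_inf_centralizer (G := N) (A := A) ρ
    (by rw [Subgroup.normalizer_eq_top (H := N)]; exact le_top)
    (hcop.coprime_dvd_right (Subgroup.card_dvd_of_le inf_le_left))
    ((solvable_or_of_coprime hcop).imp id fun h => by
      haveI := h
      exact Group.isSolvable_of_isSolvable_injective (f := Subgroup.inclusion (inf_le_left : N ⊓ ρ.ker ≤ N))
        (Subgroup.inclusion_injective _))
  rw [← hmap] at hsec
  exact CfsgLib.ConjFunctor.involves_trans
    (CfsgLib.ConjFunctor.involves_of_surjective (ρ.subgroupMap (N ⊓ Subgroup.centralizer (A : Set Γ)))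
      (MonoidHom.subgroupMap_surjective _ _)) hsec

end

open CfsgLib.PLocal Subgroup

variable {G : Type u} [Group G] [Finite G] {p : ℕ} [hp : Fact p.Prime]

/-- The fixed points of a group of automorphisms. -/
def fixedBy (A : Subgroup (MulAut G)) : Subgroup G where
  carrier := {g | ∀ a ∈ A, a g = g}
  one_mem' := fun a _ => map_one a
  mul_mem' := fun {g h} hg hh a ha => by rw [map_mul, hg a ha, hh a ha]
  inv_mem' := fun {g} hg a ha => by rw [map_inv, hg a ha]

omit [Finite G] hp in
theorem mem_fixedBy {A : Subgroup (MulAut G)} {g : G} : g ∈ fixedBy A ↔ ∀ a ∈ A, a g = g := Iff.rfl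

theorem normal_of_extension (hp3 : 3 < p)
    (hc : Subgroup.centralizer (pCore p G : Set G) ≤ pCore p G) (S : Sylow p G)
    (A : Subgroup (MulAut G)) (hA : (Nat.card A).Coprime (Nat.card G))
    (hAp : (Nat.card A).Coprime p)
    (hfix : ¬ Involves (Matrix.ProjectiveSpecialLinearGroup (Fin 2) (ZMod p)) ↥(fixedBy A))
    {Γ : Type u} [Group Γ] [Finite Γ] (inl : G →* Γ) (inr : A →* Γ) (π : Γ →* A)
    (hinl : Function.Injective inl) (hπr : ∀ a, π (inr a) = a)
    (hπ : ∀ x, x ∈ inl.range ↔ π x = 1)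
    (hprod : ∀ γ : Γ, ∃ g a, inl g * inr a = γ)
    (hconjr : ∀ (a : A) (g : G), inr a * inl g * (inr a)⁻¹ = inl ((a : MulAut G) g)) :
    (centerThompsonAOf (S : Subgroup G)).Normal := by
  classical
  set N : Subgroup Γ := inl.range with hN
  set Ai : Subgroup Γ := inr.range with hAi
  haveI hNn : N.Normal := by
    rw [show N = π.ker from Subgroup.ext fun x => hπ x]; infer_instance
  have hdec : ∀ γ : Γ, ∃ g ∈ N, ∃ a ∈ Ai, g * a = γ := fun γ => by
    obtain ⟨g, a, e⟩ := hprod γ
    exact ⟨_, ⟨g, rfl⟩, _, ⟨a, rfl⟩, e⟩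
  have hcop : (Nat.card Ai).Coprime (Nat.card N) :=
    (hA.coprime_dvd_left (Subgroup.card_range_dvd inr)).coprime_dvd_right (Subgroup.card_range_dvd inl)
  -- elements of `p`-power order lie in `G`
  have hpel : ∀ (x : Γ) (j : ℕ), x ^ p ^ j = 1 → x ∈ N := by
    intro x j hx
    refine (hπ x).2 (eq_one_of_pow_coprime (hAp.pow_right j) pow_card_eq_one' ?_)
    rw [← map_pow, hx, map_one]
  have hpsub : ∀ T : Subgroup Γ, IsPGroup p T → T ≤ N := fun T hT x hx => by
    obtain ⟨j, hj⟩ := hT ⟨x, hx⟩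
    exact hpel x j (congrArg Subtype.val hj)
  -- the core
  set Q := pCore p G with hQ
  have hQn : (Q.map inl).Normal := by
    refine ⟨fun y hy γ => ?_⟩
    obtain ⟨q, hq, rfl⟩ := hy
    obtain ⟨_, ⟨g, rfl⟩, _, ⟨a, rfl⟩, rfl⟩ := hdec γ
    refine ⟨g * (a : MulAut G) q * g⁻¹, (inferInstance : Q.Normal).conj_mem _ ?_ g, ?_⟩
    · have := map_pCore_equiv (p := p) (a : MulAut G)
      rw [hQ]
      exact this ▸ Subgroup.mem_map_of_mem _ hq
    · rw [map_mul, map_mul, map_inv, ← hconjr a q]; group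
  have hcoreΓ : pCore p Γ = Q.map inl := by
    refine le_antisymm ?_ (le_pCore ((isPGroup_pCore p G).map _))
    intro x hx
    obtain ⟨g, rfl⟩ := hpsub _ (isPGroup_pCore p Γ) hx
    refine ⟨g, ?_, rfl⟩
    have : ((pCore p Γ).comap inl).Normal := (inferInstance : (pCore p Γ).Normal).comap _
    exact le_pCore ((isPGroup_pCore p Γ).comap_of_injective inl hinl) (show g ∈ (pCore p Γ).comap inl from hx)
  have hcΓ : Subgroup.centralizer (pCore p Γ : Set Γ) ≤ pCore p Γ := by
    intro x hx
    rw [hcoreΓ] at hx ⊢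
    have hfixQ : ∀ q ∈ Q, x * inl q * x⁻¹ = inl q := fun q hq => by
      rw [← Subgroup.mem_centralizer_iff.1 hx _ (Subgroup.mem_map_of_mem inl hq), mul_inv_cancel_right]
    obtain ⟨j, hj⟩ := IsPGroup.iff_card.1 (isPGroup_pCore p G)
    have hcent : ∀ h : G, x ^ p ^ j * inl h * (x ^ p ^ j)⁻¹ = inl h := by
      intro h
      obtain ⟨h', hh'⟩ : x * inl h * x⁻¹ ∈ N := hNn.conj_mem _ ⟨h, rfl⟩ x
      set n := h⁻¹ * h' with hn
      have hnC : n ∈ Q := hc (Subgroup.mem_centralizer_iff.2 fun q hq => hinl (by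
        have hq' : h * q * h⁻¹ ∈ Q := (inferInstance : Q.Normal).conj_mem q hq h
        have e0 := hfixQ q hq
        have e1 : inl h' * inl q * (inl h')⁻¹ = inl h * inl q * (inl h)⁻¹ := by
          rw [hh']
          calc x * inl h * x⁻¹ * inl q * (x * inl h * x⁻¹)⁻¹
              = x * (inl h * (x⁻¹ * inl q * x) * (inl h)⁻¹) * x⁻¹ := by group
            _ = x * inl (h * q * h⁻¹) * x⁻¹ := by
              rw [show x⁻¹ * inl q * x = inl q by conv_lhs => rw [← e0]
                                                  group, map_mul, map_mul, map_inv]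
            _ = _ := by rw [hfixQ _ hq', map_mul, map_mul, map_inv]
        simp only [hn, map_mul, map_inv]
        calc inl q * ((inl h)⁻¹ * inl h')
            = (inl h)⁻¹ * (inl h * inl q * (inl h)⁻¹) * inl h' := by group
          _ = (inl h)⁻¹ * inl h' * inl q := by rw [← e1]; group))
      have hstep : ∀ i : ℕ, x ^ i * inl h * (x ^ i)⁻¹ = inl h * inl n ^ i := by
        intro i
        induction i with
        | zero => simp
        | succ i ih =>
          calc x ^ (i + 1) * inl h * (x ^ (i + 1))⁻¹ = x * (x ^ i * inl h * (x ^ i)⁻¹) * x⁻¹ := by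
                rw [pow_succ']; group
            _ = (x * inl h * x⁻¹) * (x * inl n * x⁻¹) ^ i := by rw [ih, conj_pow]; group
            _ = inl h * inl n ^ (i + 1) := by
              rw [hfixQ n hnC, ← hh', pow_succ', ← mul_assoc (inl h)]
              congr 1
              rw [hn, map_mul, map_inv, mul_inv_cancel_left]
      rw [hstep, ← map_pow, show n ^ p ^ j = 1 from ?_, map_one, mul_one]
      have := pow_card_eq_one' (x := (⟨n, hnC⟩ : Q))
      rw [hj] at this
      exact congrArg Subtype.val this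
    set y := x ^ p ^ j with hy
    obtain ⟨g, b, hgb⟩ := hprod y
    have hπy : π y = b := by rw [← hgb, map_mul, (hπ _).1 ⟨g, rfl⟩, hπr, one_mul]
    have hinner : (b : MulAut G) = MulAut.conj g⁻¹ := by
      refine MulEquiv.ext fun h => hinl ?_
      have e := hcent h
      rw [← hgb] at e
      rw [MulAut.conj_apply, inv_inv, map_mul, map_mul, map_inv, ← hconjr]
      conv_rhs => rw [← e]
      group
    have hb1 : b = 1 := by
      refine eq_one_of_pow_coprime hA pow_card_eq_one' (Subtype.ext ?_)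
      rw [Subgroup.coe_pow, hinner, ← map_pow, pow_card_eq_one', map_one, Subgroup.coe_one]
    have hx1 : π x = 1 := by
      refine eq_one_of_pow_coprime (hAp.pow_right j) pow_card_eq_one' ?_
      rw [← map_pow, ← hy, hπy, hb1]
    obtain ⟨g', rfl⟩ := (hπ x).2 hx1
    refine Subgroup.mem_map_of_mem inl (hc (Subgroup.mem_centralizer_iff.2 fun q hq => hinl ?_))
    rw [map_mul, map_mul]
    exact Subgroup.mem_centralizer_iff.1 hx _ (Subgroup.mem_map_of_mem inl hq)
  have hst : ∀ (V : Subgroup Γ) [V.Normal], IsPGroup p V → IsPStableOn p V := by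
    intro V hVn hV a ha
    obtain ⟨s, hsp, hsq, hsa⟩ := exists_pElement_quadratic hV ha
    rw [show (QuotientGroup.mk a : Γ ⧸ Subgroup.centralizer (V : Set Γ)) = QuotientGroup.mk s from
      QuotientGroup.eq.mpr hsa]
    have hsN : s ∈ N := hpsub _ hsp (Subgroup.mem_zpowers s)
    set K := CfsgLib.ConjFunctor.chiefKer V ⊓ N with hK
    have hKn : K.Normal := by
      have := CfsgLib.ConjFunctor.chiefKer_normal V
      exact Subgroup.normal_inf_normal _ _
    have hKp : IsPGroup p (K.map (QuotientGroup.mk' (Subgroup.centralizer (V : Set Γ)))) := by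
      rintro ⟨_, k, hk, rfl⟩
      obtain ⟨c, m, hpm, hkm⟩ := Nat.exists_eq_pow_mul_and_not_dvd (orderOf_pos k).ne' p hp.out.ne_one
      refine ⟨c, Subtype.ext ?_⟩
      show (QuotientGroup.mk' (Subgroup.centralizer (V : Set Γ)) k) ^ p ^ c = 1
      rw [← map_pow, QuotientGroup.mk'_apply, QuotientGroup.eq_one_iff]
      refine CfsgLib.ConjFunctor.mem_centralizer_of_chiefKer hV ?_ (pow_mem hk.1 _)
      refine ((Nat.Prime.coprime_iff_not_dvd hp.out).2 hpm).symm.coprime_dvd_left
        (orderOf_dvd_of_pow_eq_one ?_)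
      rw [← pow_mul, ← hkm, pow_orderOf_eq_one]
    have := hKn.map (QuotientGroup.mk' (Subgroup.centralizer (V : Set Γ)))
      (QuotientGroup.mk'_surjective _)
    refine le_pCore hKp ⟨s, Subgroup.mem_inf.2 ⟨?_, hsN⟩, rfl⟩
    rw [CfsgLib.ConjFunctor.mem_chiefKer]
    intro U W hUW hUV u hu
    by_contra hmov
    have hquad : ∀ v ∈ V, ⁅s, ⁅s, v⁆⁆ = 1 := by
      intro v hv
      have h1 : ⁅⁅v, s⁆, s⁆ = 1 := by
        rw [← Subgroup.mem_bot, ← hsq]
        exact Subgroup.commutator_mem_commutator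
          (Subgroup.commutator_mem_commutator hv (Subgroup.mem_zpowers s)) (Subgroup.mem_zpowers s)
      rw [commutatorElement_eq_one_iff_commute] at h1
      rw [commutatorElement_eq_one_iff_commute, ← commutatorElement_inv]
      exact h1.symm.inv_right
    refine hfix ?_
    have hsec := involves_of_quadratic_chief hp3 hdec hcop hUW (hV.to_le hUV) hsN
      (fun v hv => by rw [hquad v (hUV hv)]; exact W.one_mem) hu hmov
    have hmem : ∀ g : fixedBy A, inl (g : G) ∈ N ⊓ Subgroup.centralizer (Ai : Set Γ) := fun g => by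
      refine Subgroup.mem_inf.2 ⟨⟨g, rfl⟩, Subgroup.mem_centralizer_iff.2 ?_⟩
      rintro _ ⟨b, rfl⟩
      have := hconjr b g
      rw [g.2 _ b.2] at this
      exact mul_inv_eq_iff_eq_mul.1 this
    refine CfsgLib.ConjFunctor.involves_trans (CfsgLib.ConjFunctor.involves_of_surjective
      ((inl.comp (fixedBy A).subtype).codRestrict _ hmem) ?_) hsec
    rintro ⟨_, ⟨g, rfl⟩, hg⟩
    refine ⟨⟨g, mem_fixedBy.2 fun b hb => hinl ?_⟩, Subtype.ext rfl⟩
    rw [← hconjr ⟨b, hb⟩, Subgroup.mem_centralizer_iff.1 hg _ ⟨⟨b, hb⟩, rfl⟩, mul_inv_cancel_right]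
  -- the Sylow subgroup
  obtain ⟨T, hT⟩ := ((S.isPGroup').map inl).exists_le_sylow
  have hTS : (T : Subgroup Γ) = (S : Subgroup G).map inl := by
    have h1 : ((T : Subgroup Γ).comap inl) = S :=
      S.is_maximal' (T.isPGroup'.comap_of_injective inl hinl)
        fun g hg => hT (Subgroup.mem_map_of_mem inl hg)
    rw [← h1, Subgroup.map_comap_eq, ← hN, inf_eq_right.2 (hpsub _ T.isPGroup')]
  have hchar := centerThompsonAOf_characteristic (p := p) (by omega) hcΓ hst T
  rw [hTS, ← map_centerThompsonAOf hinl] at hchar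
  have hn : ((centerThompsonAOf (S : Subgroup G)).map inl).Normal := inferInstance
  have := hn.comap inl
  rwa [Subgroup.comap_map_eq_self_of_injective hinl] at this


/-- `Z(J(S))` is normal when the fixed points have no `PSL₂(p)` section. -/
theorem centerThompsonAOf_normal (hp3 : 3 < p)
    (hc : Subgroup.centralizer (pCore p G : Set G) ≤ pCore p G) (S : Sylow p G)
    (A : Subgroup (MulAut G)) (hA : (Nat.card A).Coprime (Nat.card G))
    (hfix : ¬ Involves (Matrix.ProjectiveSpecialLinearGroup (Fin 2) (ZMod p)) ↥(fixedBy A)) :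
    (centerThompsonAOf (S : Subgroup G)).Normal := by
  classical
  by_cases hQ0 : pCore p G = ⊥
  · have hG : ∀ g : G, g = 1 := fun g => by
      refine Subgroup.mem_bot.1 (hQ0 ▸ hc ?_)
      rw [hQ0, Subgroup.mem_centralizer_iff]
      intro h hh
      rw [Subgroup.mem_bot.1 hh, one_mul, mul_one]
    exact ⟨fun x hx g => by rwa [hG g, one_mul, inv_one, mul_one]⟩
  have hpG : p ∣ Nat.card G := by
    obtain ⟨m, hm⟩ := IsPGroup.iff_card.1 (isPGroup_pCore p G)
    refine dvd_trans ?_ (Subgroup.card_subgroup_dvd_card (pCore p G))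
    rw [hm]
    refine dvd_pow_self p fun h0 => hQ0 (Subgroup.eq_bot_of_card_eq _ ?_)
    rw [hm, h0, pow_zero]
  have hAp : (Nat.card A).Coprime p := hA.coprime_dvd_right hpG
  let φ : A →* MulAut G := A.subtype
  have : Finite (G ⋊[φ] A) := Finite.of_equiv _ SemidirectProduct.equivProd.symm
  exact normal_of_extension hp3 hc S A hA hAp hfix (Γ := G ⋊[φ] A) SemidirectProduct.inl
    SemidirectProduct.inr SemidirectProduct.rightHom SemidirectProduct.inl_injective
    (fun a => SemidirectProduct.rightHom_inr a) (fun x => by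
      rw [SemidirectProduct.range_inl_eq_ker_rightHom]; exact Iff.rfl)
    (fun γ => ⟨γ.left, γ.right, SemidirectProduct.inl_left_mul_inr_right γ⟩)
    (fun a g => by rw [← map_inv]; exact (SemidirectProduct.inl_aut (φ := φ) a g).symm)

end CfsgLib.Flavell73
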