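import Cfsg.Agent.Coprime.Action
import Cfsg.Agent.PLocal.Cores
import Mathlib.GroupTheory.Nilpotent

/-!
The largest `p`-subgroup of `G` normalised by `R` and by `C_G(R)`, for a coprime `r`-group `R`.
-/

set_option autoImplicit false

open Pointwise

namespace CfsgLib.Flavell73

open Subgroup

variable {X : Type*} [Group X]

/-- `B` is mapped to itself by conjugation by `x`. -/
abbrev cnj (x : X) (B : Subgroup X) : Subgroup X := B.map (MulAut.conj x).toMonoidHom

theorem mem_cnj {x y : X} {B : Subgroup X} : y ∈ cnj x B ↔ x⁻¹ * y * x ∈ B := by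
  rw [cnj, Subgroup.mem_map_equiv, MulAut.conj_symm_apply]

theorem cnj_mul (x y : X) (B : Subgroup X) : cnj (x * y) B = cnj x (cnj y B) := by
  ext z; simp [mem_cnj, mul_assoc]

theorem cnj_one (B : Subgroup X) : cnj 1 B = B := by ext z; simp [mem_cnj]

theorem cnj_eq_iff {x : X} {B : Subgroup X} : cnj x B = B ↔ x ∈ Subgroup.normalizer (B : Set X) := by
  rw [Subgroup.mem_normalizer_iff'']
  constructor
  · intro h y
    conv_rhs => rw [← mem_cnj, h]
  · intro h
    ext y
    rw [mem_cnj, ← h y]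

theorem cnj_eq_of_mem {x : X} {B : Subgroup X} (hx : x ∈ B) : cnj x B = B :=
  cnj_eq_iff.2 (Subgroup.le_normalizer hx)

theorem cnj_mono {x : X} {A B : Subgroup X} (h : A ≤ B) : cnj x A ≤ cnj x B := Subgroup.map_mono h

/-- A subgroup mapped into itself by a group is normalised by it. -/
theorem le_normalizer_of_forall {A B : Subgroup X} (h : ∀ a ∈ A, ∀ b ∈ B, a * b * a⁻¹ ∈ B) :
    A ≤ Subgroup.normalizer (B : Set X) := fun a ha => by
  rw [Subgroup.mem_normalizer_iff]
  refine fun b => ⟨h a ha b, fun hb => ?_⟩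
  have := h a⁻¹ (inv_mem ha) _ hb
  simpa [mul_assoc] using this

/-- A coprime action of an `r`-group `R` on `G`. -/
structure CAct (r : ℕ) (R G : Subgroup X) : Prop where
  norm : R ≤ Subgroup.normalizer (G : Set X)
  rgroup : IsPGroup r R
  cop : (Nat.card G).Coprime r

namespace CAct

variable {r : ℕ} [hr : Fact r.Prime] {R G H : Subgroup X} [Finite X]

theorem cop' (h : CAct r R G) : (Nat.card R).Coprime (Nat.card G) := by
  obtain ⟨n, hn⟩ := IsPGroup.iff_card.1 h.rgroup
  rw [hn]
  exact (h.cop.pow_right n).symm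

omit [Finite X] in
theorem solv [Finite R] (h : CAct r R G) : Group.IsSolvable R :=
  have := h.rgroup.isNilpotent
  inferInstance

theorem mono (h : CAct r R G) (hH : H ≤ G) (hn : R ≤ Subgroup.normalizer (H : Set X)) :
    CAct r R H :=
  ⟨hn, h.rgroup, h.cop.coprime_dvd_left (Subgroup.card_dvd_of_le hH)⟩

end CAct

/-- An `R`-invariant Sylow `p`-subgroup of `G`. -/
structure IsInvSylow (p : ℕ) (R G S : Subgroup X) : Prop where
  le : S ≤ G
  norm : R ≤ Subgroup.normalizer (S : Set X)
  card : Nat.card S = p ^ (Nat.card G).factorization p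

/-- The intersection of the `R`-invariant Sylow `p`-subgroups of `G`. -/
def invCore (p : ℕ) (R G : Subgroup X) : Subgroup X :=
  G ⊓ ⨅ S ∈ {S | IsInvSylow p R G S}, S

theorem invCore_le {p : ℕ} {R G : Subgroup X} : invCore p R G ≤ G := inf_le_left

theorem invCore_le_of {p : ℕ} {R G S : Subgroup X} (h : IsInvSylow p R G S) :
    invCore p R G ≤ S :=
  inf_le_right.trans (iInf₂_le S h)

variable [Finite X] {p : ℕ} [hp : Fact p.Prime] {r : ℕ} [hr : Fact r.Prime] {R G H : Subgroup X}

theorem IsInvSylow.isPGroup {S : Subgroup X} (h : IsInvSylow p R G S) : IsPGroup p S :=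
  IsPGroup.of_card h.card

/-- An invariant Sylow subgroup is a maximal `p`-subgroup. -/
theorem IsInvSylow.maximal {S T : Subgroup X} (h : IsInvSylow p R G S) (hST : S ≤ T) (hT : T ≤ G)
    (hTp : IsPGroup p T) : T = S := by
  refine (Subgroup.eq_of_le_of_card_ge hST ?_).symm
  obtain ⟨n, hn⟩ := IsPGroup.iff_card.1 hTp
  rw [h.card, hn]
  refine Nat.pow_le_pow_right hp.out.pos ?_
  rw [← hp.out.pow_dvd_iff_le_factorization Nat.card_pos.ne', ← hn]
  exact Subgroup.card_dvd_of_le hT

omit hr in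
theorem isInvSylow_iff {S : Subgroup X} :
    IsInvSylow p R G S ↔
      ∃ T : Sylow p G, (T : Subgroup G).map G.subtype = S ∧ R ≤ Subgroup.normalizer (S : Set X) := by
  constructor
  · intro h
    have hc : Nat.card (S.subgroupOf G) = p ^ (Nat.card G).factorization p := by
      rw [Nat.card_congr (Subgroup.subgroupOfEquivOfLe h.le).toEquiv, h.card]
    refine ⟨Sylow.ofCard _ hc, ?_, h.norm⟩
    rw [Sylow.coe_ofCard, Subgroup.map_subgroupOf_eq_of_le h.le]
  · rintro ⟨T, rfl, hn⟩
    exact ⟨Subgroup.map_subtype_le _, hn,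
      by rw [Subgroup.card_map_of_injective G.subtype_injective, T.card_eq_multiplicity]⟩

theorem exists_isInvSylow (h : CAct r R G) : ∃ S, IsInvSylow p R G S := by
  obtain ⟨T, hT⟩ := CfsgLib.Coprime.exists_invariant_sylow h.norm h.cop' (Or.inl h.solv) p
  exact ⟨_, isInvSylow_iff.2 ⟨T, rfl, hT⟩⟩

omit hr in
theorem IsInvSylow.cnj {S : Subgroup X} (h : IsInvSylow p R G S) {x : X}
    (hxG : x ∈ Subgroup.normalizer (G : Set X)) (hxR : x ∈ Subgroup.normalizer (R : Set X)) :
    IsInvSylow p R G (Flavell73.cnj x S) := by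
  refine ⟨(cnj_mono h.le).trans (cnj_eq_iff.2 hxG).le, ?_, ?_⟩
  · have := (cnj_mono (x := x) h.norm)
    rw [cnj_eq_iff.2 hxR] at this
    exact this.trans (Subgroup.le_normalizer_map (MulAut.conj x).toMonoidHom)
  · rw [Flavell73.cnj, Subgroup.card_map_of_injective (MulAut.conj x).injective, h.card]

theorem isPGroup_invCore (h : CAct r R G) : IsPGroup p (invCore p R G) := by
  obtain ⟨S, hS⟩ := exists_isInvSylow (p := p) h
  exact hS.isPGroup.to_le (invCore_le_of hS)

omit hp hr in
theorem mem_normalizer_invCore {x : X} (hxG : x ∈ Subgroup.normalizer (G : Set X))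
    (hxR : x ∈ Subgroup.normalizer (R : Set X)) [Fact p.Prime] :
    x ∈ Subgroup.normalizer (invCore p R G : Set X) := by
  have key : ∀ x, x ∈ Subgroup.normalizer (G : Set X) → x ∈ Subgroup.normalizer (R : Set X) →
      ∀ b ∈ invCore p R G, x * b * x⁻¹ ∈ invCore p R G := by
    intro x hxG hxR b hb
    refine Subgroup.mem_inf.2 ⟨(Subgroup.mem_normalizer_iff.1 hxG b).1 hb.1, ?_⟩
    simp only [Subgroup.mem_iInf]
    intro S hS
    have := invCore_le_of (hS.cnj (inv_mem hxG) (inv_mem hxR)) hb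
    rw [mem_cnj] at this
    simpa [mul_assoc] using this
  rw [Subgroup.mem_normalizer_iff]
  refine fun b => ⟨key x hxG hxR b, fun hb => ?_⟩
  have := key x⁻¹ (inv_mem hxG) (inv_mem hxR) _ hb
  simpa [mul_assoc] using this

omit hr in
theorem CAct.le_normalizer_invCore (h : CAct r R G) :
    R ≤ Subgroup.normalizer (invCore p R G : Set X) := fun _ hx =>
  mem_normalizer_invCore (h.norm hx) (Subgroup.le_normalizer hx)

omit hr in
theorem centralizer_le_normalizer_invCore :
    G ⊓ Subgroup.centralizer (R : Set X) ≤ Subgroup.normalizer (invCore p R G : Set X) := fun _ hx =>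
  mem_normalizer_invCore (Subgroup.le_normalizer hx.1) (Subgroup.centralizer_le_normalizer _ hx.2)

/-- Every `p`-subgroup of `G` normalised by `R` and `C_G(R)` lies in the intersection. -/
theorem le_invCore (h : CAct r R G) {B : Subgroup X} (hB : B ≤ G) (hBp : IsPGroup p B)
    (hRB : R ≤ Subgroup.normalizer (B : Set X))
    (hCB : G ⊓ Subgroup.centralizer (R : Set X) ≤ Subgroup.normalizer (B : Set X)) :
    B ≤ invCore p R G := by
  refine le_inf hB (le_iInf₂ fun S hS => ?_)
  obtain ⟨T₀, hBT, hRT⟩ :=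
    CfsgLib.Coprime.exists_invariant_sylow_ge h.norm h.cop' (Or.inl h.solv) hB hBp hRB
  obtain ⟨T, rfl, hRS⟩ := isInvSylow_iff.1 hS
  obtain ⟨g, hg, hgT⟩ := CfsgLib.Coprime.exists_conj_map_sylow T₀ T
  obtain ⟨c, hc, hcT⟩ :=
    CfsgLib.Coprime.exists_conj_eq_of_invariant h.norm h.cop' (Or.inl h.solv) hRT hRS hg hgT
  rw [← hcT, ← CfsgLib.Coprime.conj_smul_eq_self (hCB hc)]
  exact Subgroup.pointwise_smul_le_pointwise_smul_iff.2 hBT

/-- The intersection meets an invariant subgroup inside the intersection of the latter. -/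
theorem inf_le_invCore (h : CAct r R G) (hH : H ≤ G) (hn : R ≤ Subgroup.normalizer (H : Set X)) :
    invCore p R G ⊓ H ≤ invCore p R H :=
  le_invCore (h.mono hH hn) inf_le_right ((isPGroup_invCore h).to_le inf_le_left)
    ((le_inf h.le_normalizer_invCore hn).trans Subgroup.inf_normalizer_le_normalizer_inf)
    ((le_inf ((inf_le_inf_right _ hH).trans centralizer_le_normalizer_invCore)
      (inf_le_left.trans Subgroup.le_normalizer)).trans Subgroup.inf_normalizer_le_normalizer_inf)

/-- Images of the intersection, under a homomorphism defined on a subgroup. -/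
theorem map_invCore_le {Y : Type*} [Group Y] [Finite Y] {N : Subgroup X} (f : N →* Y)
    (h : CAct r R G) (hG : G ≤ N) (hR : R ≤ N) :
    CAct r ((R.subgroupOf N).map f) ((G.subgroupOf N).map f) ∧
    ((invCore p R G).subgroupOf N).map f ≤
      invCore p ((R.subgroupOf N).map f) ((G.subgroupOf N).map f) := by
  have hn : R.subgroupOf N ≤ Subgroup.normalizer ((G.subgroupOf N : Subgroup N) : Set N) :=
    le_normalizer_of_forall fun a ha g hg => (Subgroup.mem_normalizer_iff.1 (h.norm ha) _).1 hg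
  have hcG : Nat.card (G.subgroupOf N) = Nat.card G :=
    Nat.card_congr (Subgroup.subgroupOfEquivOfLe hG).toEquiv
  have hcR : Nat.card (R.subgroupOf N) = Nat.card R :=
    Nat.card_congr (Subgroup.subgroupOfEquivOfLe hR).toEquiv
  have hN : CAct r (R.subgroupOf N) (G.subgroupOf N) :=
    ⟨hn, h.rgroup.of_equiv (Subgroup.subgroupOfEquivOfLe hR).symm, hcG ▸ h.cop⟩
  have hY : CAct r ((R.subgroupOf N).map f) ((G.subgroupOf N).map f) :=
    ⟨(Subgroup.map_mono hn).trans (Subgroup.le_normalizer_map f), hN.rgroup.map f,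
      hN.cop.coprime_dvd_left (Subgroup.card_map_dvd _ _)⟩
  refine ⟨hY, le_invCore hY (Subgroup.map_mono fun x hx => invCore_le (G := G) hx) ?_ ?_ ?_⟩
  · exact ((isPGroup_invCore h).comap_of_injective N.subtype N.subtype_injective).map f
  · refine (Subgroup.map_mono ?_).trans (Subgroup.le_normalizer_map f)
    exact le_normalizer_of_forall fun a ha g hg =>
      (Subgroup.mem_normalizer_iff.1 (h.le_normalizer_invCore ha) _).1 hg
  · rw [← CfsgLib.Coprime.map_inf_centralizer f hn
      (hN.cop'.coprime_dvd_right (Subgroup.card_dvd_of_le inf_le_left)) (Or.inl hN.solv)]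
    refine (Subgroup.map_mono ?_).trans (Subgroup.le_normalizer_map f)
    refine le_normalizer_of_forall fun a ha g hg => ?_
    have ha' : (a : X) ∈ G ⊓ Subgroup.centralizer (R : Set X) :=
      Subgroup.mem_inf.2 ⟨ha.1, Subgroup.mem_centralizer_iff.2 fun x hx =>
        congrArg Subtype.val (Subgroup.mem_centralizer_iff.1 ha.2 ⟨x, hR hx⟩ hx)⟩
    exact (Subgroup.mem_normalizer_iff.1 (centralizer_le_normalizer_invCore ha') _).1 hg

/-- An invariant coset contains a fixed point. -/
theorem exists_centralizer_mem_coset (h : CAct r R G) {N : Subgroup X} (hN : N ≤ G)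
    (hRN : R ≤ Subgroup.normalizer (N : Set X)) {g : X} (hg : g ∈ G)
    (hfix : ∀ a ∈ R, g⁻¹ * (a * g * a⁻¹) ∈ N) :
    ∃ c ∈ G ⊓ Subgroup.centralizer (R : Set X), g⁻¹ * c ∈ N := by
  obtain ⟨c, hc, hcN⟩ := CfsgLib.Coprime.exists_fixed_mem_coset hRN
    (h.mono hN hRN).cop' (Or.inl h.solv) hfix
  refine ⟨c, Subgroup.mem_inf.2 ⟨?_, hc⟩, hcN⟩
  have := G.mul_mem hg (hN hcN)
  simpa using this

/-- `O_p(G)`, as a subgroup of the ambient group. -/
def rad (p : ℕ) (G : Subgroup X) : Subgroup X := (Cfsg.pCore p G).map G.subtype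

omit [Finite X] hp in
theorem rad_le : rad p G ≤ G := Subgroup.map_subtype_le _

omit [Finite X] hp in
theorem isPGroup_rad : IsPGroup p (rad p G) := (PLocal.isPGroup_pCore p G).map _

omit [Finite X] hp in
theorem le_rad {U : Subgroup X} (hU : U ≤ G) (hUp : IsPGroup p U)
    (hn : G ≤ Subgroup.normalizer (U : Set X)) : U ≤ rad p G := by
  have : (U.subgroupOf G).Normal := Subgroup.normal_subgroupOf_of_le_normalizer hn
  intro x hx
  exact ⟨⟨x, hU hx⟩, PLocal.le_pCore (hUp.of_equiv (Subgroup.subgroupOfEquivOfLe hU).symm) hx, rfl⟩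

omit [Finite X] hp in
theorem le_normalizer_rad {x : X} (hx : x ∈ Subgroup.normalizer (G : Set X)) :
    x ∈ Subgroup.normalizer (rad p G : Set X) := by
  have hGn : G ≤ Subgroup.normalizer (rad p G : Set X) := by
    refine le_normalizer_of_forall ?_
    rintro g hg _ ⟨b, hb, rfl⟩
    exact ⟨⟨g, hg⟩ * b * ⟨g, hg⟩⁻¹,
      (inferInstance : (Cfsg.pCore p G).Normal).conj_mem b hb _, rfl⟩
  have key : ∀ x, x ∈ Subgroup.normalizer (G : Set X) → cnj x (rad p G) ≤ rad p G := fun x hx =>
    le_rad ((cnj_mono rad_le).trans (cnj_eq_iff.2 hx).le) (isPGroup_rad.map _) (by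
      have := cnj_mono (x := x) hGn
      rw [cnj_eq_iff.2 hx] at this
      exact this.trans (Subgroup.le_normalizer_map _))
  refine cnj_eq_iff.1 (le_antisymm (key x hx) ?_)
  have := cnj_mono (x := x) (key x⁻¹ (inv_mem hx))
  rwa [← cnj_mul, mul_inv_cancel, cnj_one] at this

omit [Finite X] hp in
theorem rad_le_rad (hH : H ≤ G) (hn : G ≤ Subgroup.normalizer (H : Set X)) :
    rad p H ≤ rad p G :=
  le_rad (rad_le.trans hH) isPGroup_rad fun _ hx => le_normalizer_rad (hn hx)

end CfsgLib.Flavell73
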