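import Cfsg.Agent.Flavell73.Unique

/-!
A reduced group has no minimal element in the intersection of the invariant Sylow subgroups.
-/

set_option autoImplicit false

namespace CfsgLib.Flavell73

open Cfsg CfsgLib.RootSubgroups CfsgLib.RootSubgroups.QuadPair

universe u

variable {k : Type u} [Field k] {p : ℕ} [hp : Fact p.Prime]
  {M : Type u} [AddCommGroup M] [Module k M] [FiniteDimensional k M]
  {G : Subgroup (LinearMap.GeneralLinearGroup k M)}
  {σ η : LinearMap.GeneralLinearGroup k M} {d : Module.End k M}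

/-- Conjugation on a stable family of subgroups. -/
@[reducible]
def famAction (Q : Subgroup (LinearMap.GeneralLinearGroup k M))
    (Ω : Set (Subgroup (LinearMap.GeneralLinearGroup k M)))
    (h : ∀ x ∈ Q, ∀ B ∈ Ω, conjBy B x ∈ Ω) : MulAction Q Ω where
  smul x B := ⟨conjBy B.1 (x : LinearMap.GeneralLinearGroup k M), h x x.2 B B.2⟩
  one_smul B := Subtype.ext (conjBy_one B.1)
  mul_smul x y B := Subtype.ext (conjBy_conjBy B.1 y x).symm

omit [FiniteDimensional k M] hp in
theorem fixed_normalizes {Q : Subgroup (LinearMap.GeneralLinearGroup k M)}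
    {B : Subgroup (LinearMap.GeneralLinearGroup k M)} (h : ∀ x ∈ Q, conjBy B x = B) :
    Q ≤ Subgroup.normalizer (B : Set (LinearMap.GeneralLinearGroup k M)) := fun x hx =>
  conjBy_eq_self_iff.1 (h x hx)

/-- The involution of an opposite pair. -/
theorem exists_pairInvolution (hk : PF k p) (h : InvPair G σ η d) :
    ∃ i ∈ sameActionSubgroup G σ ⊔ sameActionSubgroup G η, i * i = 1 ∧
      nil i = -((2 : k) • (nil σ * d + d * nil σ)) ∧
      ∀ x ∈ sameActionSubgroup G σ ⊔ sameActionSubgroup G η, i * x = x * i := by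
  set z := nil σ with hz
  set q := z * d + d * z with hq
  have hzz : z * z = 0 := h.zz
  have hdd : d * d = 0 := h.dd
  have hzdz : z * (d * z) = z := by rw [← mul_assoc]; exact h.zdz
  have hdzd : d * (z * d) = d := by rw [← mul_assoc]; exact h.dzd
  have hzz' : ∀ w, z * (z * w) = 0 := fun w => by rw [← mul_assoc, hzz, zero_mul]
  have hdd' : ∀ w, d * (d * w) = 0 := fun w => by rw [← mul_assoc, hdd, zero_mul]
  have hzdz' : ∀ w, z * (d * (z * w)) = z * w := fun w => by
    rw [← mul_assoc d, ← mul_assoc, hzdz]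
  have hdzd' : ∀ w, d * (z * (d * w)) = d * w := fun w => by
    rw [← mul_assoc z, ← mul_assoc, hdzd]
  obtain ⟨f, hf, ef⟩ : ∃ f ∈ sameActionSubgroup G η, nil f = -d := by
    obtain ⟨f, -, e⟩ := h.inRoot.neg.2.2.exists_elem
    exact ⟨f, (mem_E h.minη).2 (e ▸ h.inRoot.neg), e⟩
  set w := σ * f * σ with hw
  have ew : nil w = z - d - q := by
    rw [hw, nil_mul, nil_mul, ef, ← hz, hq]
    simp only [add_mul, neg_mul, mul_neg, mul_assoc, hzz, hzdz, zero_add]
    abel
  have hwK : w ∈ sameActionSubgroup G σ ⊔ sameActionSubgroup G η :=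
    mul_mem (mul_mem (Subgroup.mem_sup_left (minimal_mem_E h.minζ)) (Subgroup.mem_sup_right hf))
      (Subgroup.mem_sup_left (minimal_mem_E h.minζ))
  have ei : nil (w * w) = -((2 : k) • q) := by
    rw [nil_mul, ew, hq, two_smul]
    simp only [mul_sub, sub_mul, mul_add, add_mul, mul_assoc, hzz, hdd, hzdz, hdzd, hzz', hdd',
      hzdz', hdzd', mul_zero, sub_zero, zero_sub, add_zero, zero_add]
    abel
  have hqq : q * q = q := by
    rw [hq]
    simp only [add_mul, mul_add, mul_assoc, hzz, hdd, hzz', hdd', hzdz', hdzd', mul_zero, add_zero, zero_add]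
  refine ⟨w * w, mul_mem hwK hwK, nil_eq_zero_iff.1 ?_, ei, ?_⟩
  · rw [nil_mul, ei, neg_mul_neg, smul_mul_smul_comm, hqq, ← two_mul, mul_neg, two_mul,
      neg_add_eq_zero, ← add_smul]
    congr 1
    ring
  · suffices hle : sameActionSubgroup G σ ⊔ sameActionSubgroup G η ≤
        Subgroup.centralizer ({w * w} : Set (LinearMap.GeneralLinearGroup k M)) from
      fun x hx => Subgroup.mem_centralizer_iff.1 (hle hx) _ rfl
    have key : ∀ a : Module.End k M, q * a = a * q →
        ∀ y, nil y = a → y ∈ Subgroup.centralizer ({w * w} : Set (LinearMap.GeneralLinearGroup k M)) := by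
      intro a ha y hy
      refine Subgroup.mem_centralizer_iff.2 fun x hx => ?_
      rw [Set.mem_singleton_iff.1 hx]
      refine commute_iff_nil.2 ?_
      rw [hy, ei, neg_mul, mul_neg, smul_mul_assoc, mul_smul_comm, ha]
    obtain ⟨g, hg, eg, hkg, hrg⟩ := InRoot.exists_minimal h.minη h.inRoot h.ne
    have h' : InvPair G g σ z := ⟨hg, h.minζ, (opp_congr hkg hrg rfl rfl).2 h.opp.symm,
      inRoot_self h.minζ.1, quad_ne h.minζ.1.2.1, by rw [eg]; exact h.dzd, by rw [eg]; exact h.zdz⟩
    refine sup_le (fun y hy => key _ ?_ y rfl) (fun y hy => key _ ?_ y rfl)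
    · have ha := (mem_E h.minζ).1 hy
      obtain ⟨h1, h2⟩ := inRoot_proj h ha
      have e1 := InRoot.mul_eq_zero h.minζ (inRoot_self h.minζ.1) ha
      have e2 := InRoot.mul_eq_zero h.minζ ha (inRoot_self h.minζ.1)
      rw [← hz] at e1 e2 h1 h2
      rw [hq, add_mul, mul_add, h1, h2, mul_assoc d, e1, ← mul_assoc _ z, e2]
      simp
    · have hb := (mem_E h.minη).1 hy
      obtain ⟨h1, h2⟩ := inRoot_proj h' (hb.congr hkg.symm hrg.symm)
      have e1 := InRoot.mul_eq_zero h.minη h.inRoot hb
      have e2 := InRoot.mul_eq_zero h.minη hb h.inRoot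
      rw [eg] at h1 h2
      rw [hq, add_mul, mul_add, h1, h2, mul_assoc z, e1, ← mul_assoc _ d, e2]
      simp

variable (hk : PF k p)
include hk

/-- An element of the unipotent group commuting with the involution lies in the class. -/
theorem mem_E_of_commute_involution (h : InvPair G σ η d) {i n : LinearMap.GeneralLinearGroup k M}
    (ei : nil i = -((2 : k) • (nil σ * d + d * nil σ))) (hn : n ∈ coreGroup σ) (hnG : n ∈ G)
    (hc : i * n = n * i) : n ∈ sameActionSubgroup G σ := by
  set z := nil σ with hz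
  set N := nil n with hN
  have hcN : Core z N := hn
  have h0 := commute_iff_nil.1 hc
  rw [ei, neg_mul, mul_neg, neg_inj, smul_mul_assoc, mul_smul_comm,
    smul_right_inj (Ring.two_ne_zero hk.two), add_mul, mul_add, ← hN, mul_assoc d, hcN.left,
    mul_zero, add_zero, ← mul_assoc N, hcN.right, zero_mul, zero_add] at h0
  have hdz2 : d * z * (d * z) = d * z := by rw [← mul_assoc, h.dzd]
  have h2 : z * d * N * (d * z) = N * (d * z) := by rw [h0, mul_assoc N, hdz2]
  have h3 : N = z * d * N := by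
    have hs := hcN.step_eq h
    rw [← hz, mul_sub, mul_one, mul_sub, ← mul_assoc (z * d) N, h2, h0] at hs
    rw [h0]
    rw [sub_self, eq_comm, sub_eq_zero] at hs
    exact hs
  refine (mem_E h.minζ).2 (inRoot_of_mem hk h.minζ hnG (fun m hm => ?_) ?_)
  · show N m = 0
    rw [h3, h0, Module.End.mul_apply, Module.End.mul_apply, show z m = 0 from hm, map_zero, map_zero]
  · rw [← hN, h3, mul_assoc, Module.End.mul_eq_comp]
    exact LinearMap.range_comp_le_range _ _

variable {r : ℕ} [hr : Fact r.Prime] {R : Subgroup (LinearMap.GeneralLinearGroup k M)}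

/-- No minimal element lies in the intersection. -/
theorem false_of_minimal_mem_invCore (hR : CAct r R G) (hred : Reduced G)
    (IH : ∀ H < G, R ≤ Subgroup.normalizer (H : Set (LinearMap.GeneralLinearGroup k M)) →
      ∀ a ∈ invCore p R H, IsQuadraticOn a → a ∈ rad p H)
    {δ : LinearMap.GeneralLinearGroup k M} (hδP : δ ∈ invCore p R G)
    (hδ : δ ∈ minimalQuadraticElements G) : False := by
  classical
  have := hk.finiteGL (M := M)
  have hk2 := hk.two
  have hk3 := hk.three
  have hδ1 : δ ≠ 1 := fun h => quad_ne hδ.1.2.1 (by rw [h, nil_one])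
  have hradG : rad p G = ⊥ := eq_bot_of_reduced hk hred rad_le isPGroup_rad fun g hg =>
    conjBy_eq_self_iff.2 (le_normalizer_rad (Subgroup.le_normalizer hg))
  -- `G` is generated by its classes
  have hG0 : G0 G = G := by
    have hn : Subgroup.normalizer (G : Set (LinearMap.GeneralLinearGroup k M)) ≤
        Subgroup.normalizer (G0 G : Set (LinearMap.GeneralLinearGroup k M)) := by
      intro x hx
      have key : ∀ x ∈ Subgroup.normalizer (G : Set (LinearMap.GeneralLinearGroup k M)),
          conjBy (G0 G) x ≤ G0 G := fun x hx => by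
        rw [G0, conjBy, Subgroup.map_iSup]
        simp only [Subgroup.map_iSup]
        exact iSup₂_le fun B hB =>
          le_biSup (fun Z : Subgroup (LinearMap.GeneralLinearGroup k M) => Z)
            (root_conj_of_normalizes hk hB hx)
      refine conjBy_eq_self_iff.1 (le_antisymm (key x hx) ?_)
      have := conjBy_mono (key x⁻¹ (inv_mem hx)) x
      rwa [conjBy_conjBy_inv] at this
    by_contra hne
    have hle : G0 G ≤ G := sup_root_le
    have h1 := IH _ (lt_of_le_of_ne hle hne) (hR.norm.trans hn) δ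
      (inf_le_invCore hR hle (hR.norm.trans hn) ⟨hδP, minimal_mem_G0 hδ⟩) hδ.1.2.1
    have h2 := rad_le_rad hle (Subgroup.le_normalizer.trans hn) h1
    rw [hradG, Subgroup.mem_bot] at h2
    exact hδ1 h2
  have hGX : ∀ x ∈ G, x ∈ ⨆ B ∈ quadraticRootSubgroups G, B := fun x hx => by
    show x ∈ G0 G
    rw [hG0]; exact hx
  set D := sameActionSubgroup G δ with hD
  have hDq : D ∈ quadraticRootSubgroups G := E_mem_quadraticRootSubgroups hδ
  obtain ⟨S, hS⟩ := exists_isInvSylow (p := p) hR
  have hPS : invCore p R G ≤ S := invCore_le_of hS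
  set Ω := comp G D with hΩ
  have hΩG : ∀ x ∈ G, ∀ B ∈ Ω, conjBy B x ∈ Ω := fun x hx B hB =>
    comp_conj hk2 hk3 hred hB (hGX x hx)
  -- a Sylow subgroup fixes a member of the component
  obtain ⟨E, hEΩ, hSE⟩ : ∃ E ∈ Ω, ∀ x ∈ S, conjBy E x = E := by
    set V := compGroup G D ⊓ coreGroup δ with hV
    have hVp : IsPGroup p V := (isPGroup_coreGroup hk).to_le inf_le_right
    have hVG : V ≤ G := inf_le_left.trans compGroup_le_G
    have hcard : Nat.card Ω ≡ 1 [MOD p] := by
      letI := famAction V Ω fun x hx => hΩG x (hVG hx)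
      have h1 : MulAction.fixedPoints V Ω = {⟨D, comp_self hDq⟩} := by
        ext ⟨B, hB⟩
        refine ⟨fun h => ?_, fun h v => ?_⟩
        · obtain ⟨φ, hφ, rfl⟩ := hB.1
          exact Subtype.ext (eq_of_normalizes hk hred hδ hφ hB (fixed_normalizes fun x hx =>
            congrArg Subtype.val (h ⟨x, hx⟩)))
        · cases h
          exact Subtype.ext (conjBy_eq_of_commute fun e he =>
            (commute_coreGroup hδ he v.2.2).symm)
      have h := hVp.card_modEq_card_fixedPoints Ω
      rwa [h1, Nat.card_eq_fintype_card (α := ({⟨D, comp_self hDq⟩} : Set Ω)),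
        Set.card_singleton] at h
    letI := famAction S Ω fun x hx => hΩG x (hS.le hx)
    obtain ⟨⟨E, hE⟩, hfix⟩ := hS.isPGroup.nonempty_fixed_point_of_prime_not_dvd_card Ω fun hd => by
      have h0 := (Nat.modEq_zero_iff_dvd.2 hd).symm.trans hcard
      rw [Nat.ModEq, Nat.zero_mod, Nat.mod_eq_of_lt hp.out.one_lt] at h0
      omega
    exact ⟨E, hE, fun x hx => congrArg Subtype.val (hfix ⟨x, hx⟩)⟩
  -- two fixed members of one component are equal
  have huniq : ∀ A B : Subgroup (LinearMap.GeneralLinearGroup k M), A ∈ quadraticRootSubgroups G →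
      B ∈ comp G A → (∀ x ∈ S, conjBy A x = A) → (∀ x ∈ S, conjBy B x = B) → B = A := by
    intro A B hA hB hfA hfB
    obtain ⟨α, hα, rfl⟩ := hA
    obtain ⟨β, hβ, rfl⟩ := hB.1
    set V := compGroup G (sameActionSubgroup G α) ⊓ coreGroup α with hV
    have hVG : V ≤ G := inf_le_left.trans compGroup_le_G
    have hSV : S ≤ Subgroup.normalizer (V : Set (LinearMap.GeneralLinearGroup k M)) := fun x hx =>
      Subgroup.inf_normalizer_le_normalizer_inf
        ⟨mem_normalizer_compGroup hk (Subgroup.le_normalizer (hS.le hx)) (hfA x hx),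
          normalizer_E_le_coreGroup hα (conjBy_eq_self_iff.1 (hfA x hx))⟩
    have hSVeq := hS.maximal le_sup_left (sup_le hS.le hVG) (IsPGroup.to_sup_of_normal_right'
      hS.isPGroup ((isPGroup_coreGroup hk).to_le (inf_le_right : V ≤ coreGroup α)) hSV)
    exact eq_of_normalizes hk hred hα hβ hB fun x hx =>
      fixed_normalizes hfB (hSVeq ▸ Subgroup.mem_sup_right hx)
  obtain ⟨ε, hε, rfl⟩ := hEΩ.1
  set E := sameActionSubgroup G ε with hE
  set R1 := R ⊓ Subgroup.normalizer (E : Set (LinearMap.GeneralLinearGroup k M)) with hR1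
  have hpG : p ∣ Nat.card G := by
    obtain ⟨j, hj⟩ := exists_pow_eq_one hk (n := 2) (g := δ) (by rw [pow_two]; exact nil_sq hδ.1.2.1)
    obtain ⟨i, -, hi⟩ := (Nat.dvd_prime_pow hp.out).1 (orderOf_dvd_of_pow_eq_one hj)
    have hi0 : i ≠ 0 := fun h => hδ1 (orderOf_eq_one_iff.1 (by rw [hi, h, pow_zero]))
    refine (dvd_pow_self p hi0).trans ?_
    rw [← hi, ← Subgroup.orderOf_mk δ hδ.1.1]
    exact orderOf_dvd_natCard _
  have hcop1 : (Nat.card R1).Coprime p := by
    obtain ⟨m, hm⟩ := IsPGroup.iff_card.1 (hR.rgroup.to_le (inf_le_left : R1 ≤ R))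
    rw [hm]
    exact ((hR.cop.coprime_dvd_left hpG).symm).pow_left m
  have hsol1 : Group.IsSolvable R1 :=
    have := (hR.rgroup.to_le (inf_le_left : R1 ≤ R)).isNilpotent
    inferInstance
  obtain ⟨ε', hε', hop, hR1'⟩ := exists_fixed_partner hk hred hε
    (inf_le_left.trans hR.norm : R1 ≤ _) inf_le_right hsol1 hcop1
  set E' := sameActionSubgroup G ε' with hE'
  have hE'c : E' ∈ comp G E := mem_comp_of_opp hk hε hε' hop
  have hwd : ∀ a ∈ R, ∀ b ∈ R, conjBy E a = conjBy E b → conjBy E' a = conjBy E' b := by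
    intro a ha b hb e
    have h1 : a⁻¹ * b ∈ R1 := Subgroup.mem_inf.2 ⟨mul_mem (inv_mem ha) hb,
      conjBy_eq_self_iff.1 (by rw [← conjBy_conjBy, ← e, conjBy_inv_conjBy])⟩
    have h2 := conjBy_eq_self_iff.2 (hR1' h1)
    calc conjBy E' a = conjBy (conjBy E' (a⁻¹ * b)) a := by rw [h2]
      _ = conjBy E' b := by rw [conjBy_conjBy, mul_inv_cancel_left]
  have hSfix : ∀ a ∈ R, ∀ x ∈ S, conjBy (conjBy E a) x = conjBy E a := by
    intro a ha x hx
    have hx' : a⁻¹ * x * a⁻¹⁻¹ ∈ S :=
      (Subgroup.mem_normalizer_iff.1 (inv_mem (hS.norm ha)) x).1 hx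
    have := hSE _ hx'
    rw [inv_inv] at this
    conv_rhs => rw [← this]
    rw [conjBy_conjBy, conjBy_conjBy, ← mul_assoc, ← mul_assoc, mul_inv_cancel, one_mul]
  have hEq : E ∈ quadraticRootSubgroups G := E_mem_quadraticRootSubgroups hε
  have hroot : ∀ a ∈ R, conjBy E a ∈ quadraticRootSubgroups G := fun a ha =>
    root_conj_of_normalizes hk hEq (hR.norm ha)
  have hroot' : ∀ a ∈ R, conjBy E' a ∈ comp G (conjBy E a) := fun a ha =>
    comp_conj_of_normalizes hk (hR.norm ha) hE'c
  have hdist : ∀ a ∈ R, ∀ b ∈ R, conjBy E a ≠ conjBy E b →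
      comp G (conjBy E a) ≠ comp G (conjBy E b) := fun a ha b hb hne he =>
    hne (huniq _ _ (hroot b hb) (he ▸ comp_self (hroot a ha)) (hSfix b hb) (hSfix a ha))
  obtain ⟨h, hh, -, hsw, -⟩ := exists_swap hk2 hk3 hε hε' hop (minimal_mem_E hε)
    (fun h => quad_ne hε.1.2.1 (by rw [h, nil_one]))
  set w := ε * h⁻¹ with hwdef
  have hwX : w ∈ compGroup G E := mul_mem
    (le_compGroup (comp_self hEq) (minimal_mem_E hε)) (inv_mem (le_compGroup hE'c hh))
  have hwE : conjBy E w = E' := by rw [hwdef, ← conjBy_conjBy, hsw, conjBy_conjBy_inv]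
  have hKcomm : ∀ a ∈ R, ∀ b ∈ R, conjBy E a ≠ conjBy E b → ∀ x ∈ compGroup G (conjBy E a),
      ∀ y ∈ compGroup G (conjBy E b), x * y = y * x := fun a ha b hb hne =>
    commutator_eq_bot_iff_comm.1 (comp_groups_commute hk2 hk3 hred (hdist a ha b hb hne))
  have hwa : ∀ a ∈ R, a * w * a⁻¹ ∈ compGroup G (conjBy E a) := fun a ha => by
    have : conjBy (compGroup G E) a ≤ compGroup G (conjBy E a) := by
      rw [compGroup, conjBy, Subgroup.map_iSup]
      simp only [Subgroup.map_iSup]
      exact iSup₂_le fun B hB =>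
        le_biSup (fun Z : Subgroup (LinearMap.GeneralLinearGroup k M) => Z)
          (comp_conj_of_normalizes hk (hR.norm ha) hB)
    exact this (conj_mem_conjBy hwX a)
  -- one element of `G` carries the orbit to the orbit of the partner
  obtain ⟨g, hg, hgmap⟩ : ∃ g ∈ G, ∀ a ∈ R, conjBy (conjBy E a) g = conjBy E' a := by
    suffices key : ∀ T : Finset (LinearMap.GeneralLinearGroup k M), (∀ a ∈ T, a ∈ R) →
        ∃ g ∈ ⨆ a ∈ T, compGroup G (conjBy E a), ∀ a ∈ T, conjBy (conjBy E a) g = conjBy E' a by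
      obtain ⟨g, hg, hgm⟩ := key (Set.toFinite (R : Set (LinearMap.GeneralLinearGroup k M))).toFinset
        fun a ha => (Set.Finite.mem_toFinset _).1 ha
      exact ⟨g, (iSup₂_le fun a _ => compGroup_le_sup.trans sup_root_le) hg,
        fun a ha => hgm a ((Set.Finite.mem_toFinset _).2 ha)⟩
    intro T
    induction T using Finset.induction_on with
    | empty => exact fun _ => ⟨1, one_mem _, by simp⟩
    | @insert a T haT ih =>
      intro hTR
      have haR := hTR a (Finset.mem_insert_self _ _)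
      obtain ⟨g, hg, hgm⟩ := ih fun b hb => hTR b (Finset.mem_insert_of_mem hb)
      have hmono : (⨆ b ∈ T, compGroup G (conjBy E b)) ≤
          ⨆ b ∈ insert a T, compGroup G (conjBy E b) :=
        biSup_mono fun b hb => Finset.mem_insert_of_mem hb
      by_cases hold : ∃ b ∈ T, conjBy E b = conjBy E a
      · obtain ⟨b, hb, hba⟩ := hold
        refine ⟨g, hmono hg, fun c hc => ?_⟩
        rcases Finset.mem_insert.1 hc with rfl | hc
        · rw [← hba, hgm b hb, hwd b (hTR b (Finset.mem_insert_of_mem hb)) _ haR hba]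
        · exact hgm c hc
      push Not at hold
      set v := a * w * a⁻¹ with hv
      refine ⟨v * g, mul_mem ?_ (hmono hg), fun c hc => ?_⟩
      · exact le_iSup₂ (f := fun b (_ : b ∈ insert a T) => compGroup G (conjBy E b)) a
          (Finset.mem_insert_self _ _) (hwa a haR)
      rcases Finset.mem_insert.1 hc with rfl | hc
      · have hgfix : conjBy (conjBy E c) g = conjBy E c := conjBy_eq_of_commute fun x hx => by
          have : (⨆ b ∈ T, compGroup G (conjBy E b)) ≤
              Subgroup.centralizer ({x} : Set (LinearMap.GeneralLinearGroup k M)) :=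
            iSup₂_le fun b hb y hy => Subgroup.mem_centralizer_iff.2 fun x' hx' => by
              rw [Set.mem_singleton_iff.1 hx']
              exact (hKcomm b (hTR b (Finset.mem_insert_of_mem hb)) c haR (hold b hb) y hy x
                (le_compGroup (comp_self (hroot c haR)) hx)).symm
          exact (Subgroup.mem_centralizer_iff.1 (this hg) x rfl).symm
        rw [← conjBy_conjBy, hgfix, hv, conjBy_conjBy, inv_mul_cancel_right, ← conjBy_conjBy, hwE]
      · rw [← conjBy_conjBy, hgm c hc]
        have hcR := hTR c (Finset.mem_insert_of_mem hc)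
        exact conjBy_eq_of_commute fun x hx =>
          hKcomm a haR c hcR (hold c hc).symm v (hwa a haR) x (le_compGroup (hroot' c hcR) hx)
  set O := (fun a => conjBy E a) '' (R : Set (LinearMap.GeneralLinearGroup k M)) with hO
  set O' := (fun a => conjBy E' a) '' (R : Set (LinearMap.GeneralLinearGroup k M)) with hO'
  let N : Subgroup (LinearMap.GeneralLinearGroup k M) :=
    { carrier := {x | x ∈ G ∧ (fun B => conjBy B x) '' O = O}
      one_mem' := ⟨one_mem _, by simp [conjBy_one]⟩
      mul_mem' := fun {x y} hx hy => ⟨mul_mem hx.1 hy.1, by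
        rw [show (fun B => conjBy B (x * y)) = (fun B => conjBy B x) ∘ fun B => conjBy B y from
          funext fun B => (conjBy_conjBy B y x).symm, Set.image_comp, hy.2, hx.2]⟩
      inv_mem' := fun {x} hx => ⟨inv_mem hx.1, by
        conv_lhs => rw [← hx.2]
        rw [← Set.image_comp, show ((fun B => conjBy B x⁻¹) ∘ fun B => conjBy B x) = id from
          funext fun B => conjBy_inv_conjBy B x, Set.image_id]⟩ }
  have hOR : ∀ (F : Subgroup (LinearMap.GeneralLinearGroup k M)), ∀ a ∈ R,
      (fun B => conjBy B a) '' ((fun b => conjBy F b) '' (R : Set _)) =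
        (fun b => conjBy F b) '' (R : Set (LinearMap.GeneralLinearGroup k M)) := by
    intro F a ha
    rw [← Set.image_comp]
    ext B
    constructor
    · rintro ⟨b, hb, rfl⟩; exact ⟨a * b, mul_mem ha hb, (conjBy_conjBy F b a).symm⟩
    · rintro ⟨b, hb, rfl⟩
      refine ⟨a⁻¹ * b, mul_mem (inv_mem ha) hb, ?_⟩
      show conjBy (conjBy F (a⁻¹ * b)) a = conjBy F b
      rw [conjBy_conjBy, mul_inv_cancel_left]
  have hgO : (fun B => conjBy B g) '' O = O' := by
    rw [hO, ← Set.image_comp]
    exact Set.image_congr fun a ha => hgmap a ha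
  have hRN : R ≤ Subgroup.normalizer (N : Set (LinearMap.GeneralLinearGroup k M)) := by
    refine le_normalizer_of_forall fun a ha x hx =>
      ⟨(Subgroup.mem_normalizer_iff.1 (hR.norm ha) x).1 hx.1, ?_⟩
    rw [show (fun B => conjBy B (a * x * a⁻¹)) = (fun B => conjBy B a) ∘ (fun B => conjBy B x) ∘
      fun B => conjBy B a⁻¹ from funext fun B => by
        simp [conjBy_conjBy, Function.comp, mul_assoc], Set.image_comp, Set.image_comp,
      hOR E a⁻¹ (inv_mem ha), hx.2, hOR E a ha]
  obtain ⟨c, hc, hcN⟩ := exists_centralizer_mem_coset hR (N := N) (fun x hx => hx.1) hRN hg fun a ha => by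
    refine ⟨mul_mem (inv_mem hg) ((Subgroup.mem_normalizer_iff.1 (hR.norm ha) g).1 hg), ?_⟩
    rw [show (fun B => conjBy B (g⁻¹ * (a * g * a⁻¹))) = (fun B => conjBy B g⁻¹) ∘
      (fun B => conjBy B a) ∘ (fun B => conjBy B g) ∘ fun B => conjBy B a⁻¹ from funext fun B => by
        simp [conjBy_conjBy, Function.comp, mul_assoc], Set.image_comp, Set.image_comp,
      Set.image_comp, hOR E a⁻¹ (inv_mem ha), hgO, hO', hOR E' a ha, ← hO', ← hgO, ← Set.image_comp,
      show ((fun B => conjBy B g⁻¹) ∘ fun B => conjBy B g) = id from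
        funext fun B => conjBy_inv_conjBy B g, Set.image_id]
  have hcO : (fun B => conjBy B c) '' O = O' := by
    rw [show (fun B => conjBy B c) = (fun B => conjBy B g) ∘ fun B => conjBy B (g⁻¹ * c) from
      funext fun B => by simp [conjBy_conjBy, Function.comp], Set.image_comp, hcN.2, hgO]
  -- so the class of `δ` commutes with both orbits
  have hδfix' : ∀ a ∈ R, conjBy (conjBy E' a) δ = conjBy E' a := by
    intro a ha
    obtain ⟨_, ⟨b, hb, rfl⟩, e⟩ := (hcO.symm ▸ ⟨a, ha, rfl⟩ :
      conjBy E' a ∈ (fun B => conjBy B c) '' O)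
    replace e : conjBy (conjBy E b) c = conjBy E' a := e
    have hx' : c⁻¹ * δ * c⁻¹⁻¹ ∈ S := hPS
      ((Subgroup.mem_normalizer_iff.1 (inv_mem (centralizer_le_normalizer_invCore hc)) δ).1 hδP)
    have h1 := hSfix b hb _ hx'
    rw [inv_inv] at h1
    rw [← e]
    conv_rhs => rw [← h1]
    rw [conjBy_conjBy, conjBy_conjBy (g := c⁻¹ * δ * c), ← mul_assoc, ← mul_assoc, mul_inv_cancel,
      one_mul]
  have hDcomm : ∀ B ∈ quadraticRootSubgroups G, conjBy B δ = B → ∀ x ∈ D, ∀ y ∈ B, x * y = y * x := by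
    intro B hB hfix
    obtain ⟨β, hβ, rfl⟩ := hB
    exact commutator_eq_bot_iff_comm.1 (commute_of_hyp hk2 hk3 hδ hβ (Or.inr fun h => hδ1
      ((Subgroup.mem_bot).1 (h ▸ Subgroup.mem_inf.2
        ⟨minimal_mem_E hδ, conjBy_eq_self_iff.1 hfix⟩))))
  have hDE : ∀ a ∈ R, ∀ x ∈ D, ∀ y ∈ conjBy E a ⊔ conjBy E' a, x * y = y * x := by
    intro a ha x hx y hy
    have hle : conjBy E a ⊔ conjBy E' a ≤
        Subgroup.centralizer ({x} : Set (LinearMap.GeneralLinearGroup k M)) :=
      sup_le (fun y hy => Subgroup.mem_centralizer_iff.2 fun x' hx' => by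
          rw [Set.mem_singleton_iff.1 hx']
          exact hDcomm _ (hroot a ha) (hSfix a ha δ (hPS hδP)) x hx y hy)
        (fun y hy => Subgroup.mem_centralizer_iff.2 fun x' hx' => by
          rw [Set.mem_singleton_iff.1 hx']
          exact hDcomm _ (hroot' a ha).1 (hδfix' a ha) x hx y hy)
    exact Subgroup.mem_centralizer_iff.1 (hle hy) x rfl
  -- the involutions of the pairs
  obtain ⟨d, hd⟩ := exists_invPair hk hε hε' hop
  obtain ⟨i, hiK, hi2, ei, hiC⟩ := exists_pairInvolution hk hd
  have hKX : E ⊔ E' ≤ compGroup G E := sup_le (le_compGroup (comp_self hEq)) (le_compGroup hE'c)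
  have hiG : i ∈ G := compGroup_le_G (hKX hiK)
  set J := (fun a => a * i * a⁻¹) '' (R : Set (LinearMap.GeneralLinearGroup k M)) with hJ
  have hJK : ∀ a ∈ R, a * i * a⁻¹ ∈ conjBy E a ⊔ conjBy E' a := fun a _ => by
    rw [← conjBy_sup]; exact conj_mem_conjBy hiK a
  have hJc : ∀ x ∈ J, ∀ y ∈ J, x * y = y * x := by
    rintro _ ⟨a, ha, rfl⟩ _ ⟨b, hb, rfl⟩
    by_cases hab : conjBy E a = conjBy E b
    · have hmem : b * i * b⁻¹ ∈ conjBy (E ⊔ E') a := by
        rw [conjBy_sup, hab, hwd a ha b hb hab]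
        exact hJK b hb
      obtain ⟨y, hy, e⟩ := hmem
      replace e : a * y * a⁻¹ = b * i * b⁻¹ := e
      show a * i * a⁻¹ * (b * i * b⁻¹) = b * i * b⁻¹ * (a * i * a⁻¹)
      rw [← e]
      exact ((Commute.conj_iff (h := a)).2 (hiC y hy : Commute i y)).eq
    · exact hKcomm a ha b hb hab _ ((sup_le (le_compGroup (comp_self (hroot a ha)))
        (le_compGroup (hroot' a ha))) (hJK a ha)) _ ((sup_le (le_compGroup (comp_self (hroot b hb)))
        (le_compGroup (hroot' b hb))) (hJK b hb))
  set Y := Subgroup.closure J with hY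
  have hYc : IsMulCommutative Y := Subgroup.isMulCommutative_closure hJc
  have hY2 : ∀ y ∈ Y, y * y = 1 := by
    intro y hy
    induction hy using Subgroup.closure_induction with
    | mem x hx =>
      obtain ⟨a, -, rfl⟩ := hx
      rw [show a * i * a⁻¹ * (a * i * a⁻¹) = a * (i * i) * a⁻¹ by group, hi2]
      group
    | one => exact one_mul 1
    | mul x y hx hy hxy1 hxy2 =>
      have e : y * x = x * y := congrArg Subtype.val
        (hYc.is_comm.comm (⟨y, hy⟩ : Y) ⟨x, hx⟩)
      rw [show x * y * (x * y) = x * (y * x) * y by group, e,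
        show x * (x * y) * y = (x * x) * (y * y) by group, hxy1, hxy2, one_mul]
    | inv x _ hx => rw [← mul_inv_rev, hx, inv_one]
  have hYG : Y ≤ G := by
    rw [hY, Subgroup.closure_le]
    rintro _ ⟨a, ha, rfl⟩
    exact (Subgroup.mem_normalizer_iff.1 (hR.norm ha) i).1 hiG
  set H := G ⊓ Subgroup.centralizer (Y : Set (LinearMap.GeneralLinearGroup k M)) with hH
  have hRY : R ≤ Subgroup.normalizer (Y : Set (LinearMap.GeneralLinearGroup k M)) := by
    refine le_normalizer_of_forall fun a ha y hy => ?_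
    have : Y ≤ Y.comap (MulAut.conj a).toMonoidHom := by
      rw [hY, Subgroup.closure_le]
      rintro _ ⟨b, hb, rfl⟩
      refine Subgroup.subset_closure ⟨a * b, mul_mem ha hb, ?_⟩
      show a * b * i * (a * b)⁻¹ = a * (b * i * b⁻¹) * a⁻¹
      group
    exact this hy
  have hRH : R ≤ Subgroup.normalizer (H : Set (LinearMap.GeneralLinearGroup k M)) := fun a ha =>
    Subgroup.inf_normalizer_le_normalizer_inf ⟨hR.norm ha, mem_normalizer_centralizer (hRY ha)⟩
  have hDY : ∀ x ∈ D, ∀ y ∈ Y, x * y = y * x := by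
    intro x hx y hy
    have : Y ≤ Subgroup.centralizer ({x} : Set (LinearMap.GeneralLinearGroup k M)) := by
      rw [hY, Subgroup.closure_le]
      rintro _ ⟨a, ha, rfl⟩
      exact Subgroup.mem_centralizer_iff.2 fun x' hx' => by
        rw [Set.mem_singleton_iff.1 hx']; exact hDE a ha x hx _ (hJK a ha)
    exact Subgroup.mem_centralizer_iff.1 (this hy) x rfl
  have hlt : H < G := by
    refine lt_of_le_of_ne inf_le_left fun he => ?_
    have hiY : i ∈ Y := Subgroup.subset_closure ⟨1, one_mem R, by simp⟩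
    have hVE : compGroup G E ⊓ coreGroup ε ≤ E := fun n hn =>
      mem_E_of_commute_involution hk hd ei hn.2 (compGroup_le_G hn.1)
        (Subgroup.mem_centralizer_iff.1 ((he.symm ▸ compGroup_le_G hn.1 : n ∈ H)).2 i hiY)
    have hfix : ∀ x ∈ D, ∀ y ∈ E, x * y = y * x := fun x hx y hy => by
      have := hDE 1 (one_mem R) x hx y
      rw [conjBy_one, conjBy_one] at this
      exact this (Subgroup.mem_sup_left hy)
    have hDcE : D ∈ comp G E := ⟨hDq, fReach_symm hEΩ.2⟩
    have hDeq : D = E := eq_of_normalizes hk hred hε hδ hDcE fun n hn =>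
      conjBy_eq_self_iff.1 (conjBy_eq_of_commute fun x hx => (hfix x hx n (hVE hn)).symm)
    refine rankOnePair_not_commute (rankOnePair hk2 hk3 hε hε' hop)
      (commutator_eq_bot_iff_comm.2 fun x hx y hy => ?_)
    have := hDE 1 (one_mem R) x (by rw [hDeq]; exact hx) y
    rw [conjBy_one, conjBy_one] at this
    exact this (Subgroup.mem_sup_right hy)
  have hδH : δ ∈ H := Subgroup.mem_inf.2 ⟨hδ.1.1, Subgroup.mem_centralizer_iff.2 fun y hy =>
    (hDY δ (minimal_mem_E hδ) y hy).symm⟩
  have hδrad := IH H hlt hRH δ (inf_le_invCore hR inf_le_left hRH ⟨hδP, hδH⟩) hδ.1.2.1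
  -- a partner fixed by the involutions
  have hYD : Y ≤ Subgroup.normalizer (D : Set (LinearMap.GeneralLinearGroup k M)) :=
    fun y hy => conjBy_eq_self_iff.1 (conjBy_eq_of_commute fun x hx => (hDY x hx y hy).symm)
  have hYcop : (Nat.card Y).Coprime p := by
    have h2 : IsPGroup 2 Y := fun y => ⟨1, Subtype.ext (by
      rw [pow_one, Subgroup.coe_pow, Subgroup.coe_one, pow_two]; exact hY2 y y.2)⟩
    have : Fact (Nat.Prime 2) := ⟨Nat.prime_two⟩
    obtain ⟨m, hm⟩ := IsPGroup.iff_card.1 h2
    rw [hm]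
    refine Nat.Coprime.pow_left m ((Nat.coprime_primes Nat.prime_two hp.out).2 ?_)
    have := hk.big
    omega
  obtain ⟨δ', hδ', hop', hY'⟩ := exists_fixed_partner hk hred hδ
    (hYG.trans Subgroup.le_normalizer) hYD
    (Group.isSolvable_of_comm fun x y => hYc.is_comm.comm x y) hYcop
  have hδ'H : δ' ∈ H := Subgroup.mem_inf.2 ⟨hδ'.1.1, Subgroup.mem_centralizer_iff.2 fun y hy =>
    commute_partner hk hδ hδ' hop' (fun x hx => (hDY x hx y hy).symm)
      (conjBy_eq_self_iff.2 (hY' hy)) δ' (minimal_mem_E hδ')⟩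
  set Q := Subgroup.zpowers δ' ⊔ rad p H with hQ
  have hQp : IsPGroup p Q := IsPGroup.to_sup_of_normal_right'
    ((isPGroup_of_unipotent hk (isUnipotentOn_of_isPGroup hk
      (isPGroup_of_nilpotent hk (H := Subgroup.zpowers δ') fun g hg => ⟨2, by
        obtain ⟨n, rfl⟩ := (Subgroup.mem_zpowers_iff.1 hg)
        have := (mem_E hδ').1 ((sameActionSubgroup G δ').zpow_mem (minimal_mem_E hδ') n)
        rw [pow_two]
        exact InRoot.mul_eq_zero hδ' this this⟩))))
    isPGroup_rad (Subgroup.zpowers_le.2 (le_normalizer_rad (Subgroup.le_normalizer hδ'H)))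
  refine not_unipotent_of_injective hδ.1 hop'.injective
    (isUnipotentOn_mono ?_ (isUnipotentOn_of_isPGroup hk hQp))
  rw [Subgroup.closure_le]
  refine Set.union_subset (fun x hx => Subgroup.mem_sup_right ?_) (fun x hx => Subgroup.mem_sup_left ?_)
  · exact (quad_mem hk hδrad hδ.1.2.1).2.2 hx
  · exact (quad_mem hk (Subgroup.mem_zpowers δ') hδ'.1.2.1).2.2 hx

end CfsgLib.Flavell73
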