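import Mathlib.Algebra.Ring.Basic
import Mathlib.GroupTheory.Perm.Cycle.Type
import Mathlib.Tactic.NoncommRing
import Mathlib.Tactic.Abel

/-!
Square roots in a finite set of ring elements closed under `x y x` and having inverses.
-/

set_option autoImplicit false

namespace CfsgLib.Flavell73

theorem card_le_twice_image {α β : Type*} [DecidableEq β] (s : Finset α) (f : α → β)
    (h : ∀ a ∈ s, ∀ b ∈ s, ∀ c ∈ s, f a = f b → f a = f c → a ≠ b → a ≠ c → b = c) :
    s.card ≤ 2 * (s.image f).card := by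
  refine Finset.card_le_mul_card_image s 2 fun y _ => ?_
  by_contra! hlt
  obtain ⟨a, b, c, ha, hb, hc, hab, hac, hbc⟩ := Finset.two_lt_card_iff.1 hlt
  simp only [Finset.mem_filter] at ha hb hc
  exact hbc (h a ha.1 b hb.1 c hc.1 (ha.2.trans hb.2.symm) (ha.2.trans hc.2.symm) hab hac)

/-- In such a set an element is determined up to sign by its square. -/
theorem eq_or_eq_neg_of_mul_self_eq {R : Type*} [Ring R] {e : R} (J : AddSubgroup R) [Finite J]
    (he : e ∈ J) (hl : ∀ x ∈ J, e * x = x) (hr : ∀ x ∈ J, x * e = x)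
    (hJ : ∀ x ∈ J, ∀ y ∈ J, x * y * x ∈ J) (hhalf : ∀ x : R, x + x ∈ J → x ∈ J)
    (h2 : ∀ x : R, x + x = 0 → x = 0) (hinv : ∀ x ∈ J, x ≠ 0 → ∃ u ∈ J, u * x = e)
    {x y : R} (hx : x ∈ J) (hy : y ∈ J) (hxy : x * x = y * y) : y = x ∨ y = -x := by
  classical
  have hsq : ∀ a ∈ J, a * a ∈ J := fun a ha => by
    have := hJ a ha e he
    rwa [hr a ha] at this
  have hsym : ∀ a ∈ J, ∀ b ∈ J, a * b + b * a ∈ J := fun a ha b hb => by
    have := J.sub_mem (J.sub_mem (hsq _ (J.add_mem ha hb)) (hsq a ha)) (hsq b hb)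
    rwa [show (a + b) * (a + b) - a * a - b * b = a * b + b * a by noncomm_ring] at this
  have hcancel : ∀ a ∈ J, ∀ b ∈ J, a ≠ 0 → a * b = 0 → b = 0 := fun a ha b hb ha0 hab => by
    obtain ⟨u, -, hua⟩ := hinv a ha ha0
    rw [← hl b hb, ← hua, mul_assoc, hab, mul_zero]
  rcases eq_or_ne x 0 with rfl | hx0
  · rcases eq_or_ne y 0 with h | h
    · exact Or.inl h
    · exact absurd (hcancel y hy y hy h (by rw [← hxy, mul_zero])) h
  let F : AddSubgroup R :=
    { carrier := {f | f ∈ J ∧ f * x = x * f ∧ f * y = y * f ∧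
        ∀ c, c * x = x * c → c * y = y * c → f * c = c * f}
      add_mem' := fun {a b} ha hb => ⟨J.add_mem ha.1 hb.1,
        by rw [add_mul, mul_add, ha.2.1, hb.2.1], by rw [add_mul, mul_add, ha.2.2.1, hb.2.2.1],
        fun c h1 h2 => by rw [add_mul, mul_add, ha.2.2.2 c h1 h2, hb.2.2.2 c h1 h2]⟩
      zero_mem' := ⟨J.zero_mem, by simp, by simp, fun c _ _ => by simp⟩
      neg_mem' := fun {a} ha => ⟨J.neg_mem ha.1, by rw [neg_mul, mul_neg, ha.2.1],
        by rw [neg_mul, mul_neg, ha.2.2.1],
        fun c h1 h2 => by rw [neg_mul, mul_neg, ha.2.2.2 c h1 h2]⟩ }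
  have hFJ : ∀ {f}, f ∈ F → f ∈ J := fun hf => hf.1
  have hcomm : ∀ {f g}, f ∈ F → g ∈ F → f * g = g * f := fun hf hg => hf.2.2.2 _ hg.2.1 hg.2.2.1
  have hmul : ∀ {f g}, f ∈ F → g ∈ F → f * g ∈ F := fun {f g} hf hg => by
    refine ⟨hhalf _ ?_, ?_, ?_, fun c h1 h2 => ?_⟩
    · conv => enter [2, 2]; rw [hcomm hf hg]
      exact hsym f hf.1 g hg.1
    · rw [mul_assoc, hg.2.1, ← mul_assoc, hf.2.1, mul_assoc]
    · rw [mul_assoc, hg.2.2.1, ← mul_assoc, hf.2.2.1, mul_assoc]
    · rw [mul_assoc, hg.2.2.2 c h1 h2, ← mul_assoc, hf.2.2.2 c h1 h2, mul_assoc]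
  set w := x * x with hwdef
  set z := x * y + y * x with hzdef
  have hw : w ∈ F := by
    refine ⟨hsq x hx, mul_assoc x x x, ?_, fun c h1 _ => ?_⟩
    · rw [hxy, mul_assoc]
    · rw [hwdef, mul_assoc, ← h1, ← mul_assoc, ← h1, mul_assoc]
  have hz : z ∈ F := by
    refine ⟨hsym x hx y hy, ?_, ?_, fun c h1 h2 => ?_⟩
    · rw [hzdef, add_mul, mul_add, ← mul_assoc x x y, ← hwdef, hxy, mul_assoc y x x, ← hwdef, hxy,
        ← mul_assoc x y x, ← mul_assoc y y y, add_comm]
    · rw [hzdef, add_mul, mul_add, mul_assoc x y y, ← hxy, ← mul_assoc y y x, ← hxy,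
        ← mul_assoc y x y, ← mul_assoc x x x, add_comm]
    · have e1 : x * y * c = c * (x * y) := by
        rw [mul_assoc, ← h2, ← mul_assoc, ← h1, mul_assoc]
      have e2 : y * x * c = c * (y * x) := by
        rw [mul_assoc, ← h1, ← mul_assoc, ← h2, mul_assoc]
      rw [hzdef, add_mul, mul_add, e1, e2]
  have hw0 : w ≠ 0 := fun h => hx0 (hcancel x hx x hx hx0 h)
  -- two sets of values meet
  have : Finite F := Finite.Set.subset (J : Set R) fun f hf => hFJ hf
  have : Fintype F := Fintype.ofFinite F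
  obtain ⟨a, b, hab⟩ : ∃ a b : F,
      (a : R) * (a : R) = w * ((b : R) * (b : R)) + z * (b : R) + w := by
    by_contra! hno
    let sq : F → R := fun a => (a : R) * (a : R)
    let qd : F → R := fun b => w * ((b : R) * (b : R)) + z * (b : R) + w
    have key : ∀ {c : R}, c ∈ F → ∀ {u v : F}, u ≠ v →
        ((u : R) - (v : R)) * c = 0 → c = 0 := fun hc u v huv h =>
      hcancel _ (J.sub_mem (hFJ u.2) (hFJ v.2)) _ (hFJ hc)
        (sub_ne_zero.2 fun h => huv (Subtype.ext h)) h
    have h1 : Fintype.card F ≤ 2 * ((Finset.univ : Finset F).image sq).card := by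
      refine card_le_twice_image _ _ fun a _ b _ c _ hb hc hab hac => ?_
      have hs : ∀ v : F, sq a = sq v → a ≠ v → (a : R) + v = 0 := fun v hv hav => by
        refine key (F.add_mem a.2 v.2) hav ?_
        calc ((a : R) - v) * ((a : R) + v)
            = sq a - sq v + ((a : R) * v - v * a) := by simp only [sq]; noncomm_ring
          _ = 0 := by rw [hv, hcomm a.2 v.2, sub_self, sub_self, add_zero]
      exact Subtype.ext (add_left_cancel ((hs b hb hab).trans (hs c hc hac).symm))
    have h2' : Fintype.card F ≤ 2 * ((Finset.univ : Finset F).image qd).card := by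
      refine card_le_twice_image _ _ fun a _ b _ c _ hb hc hab hac => ?_
      have hs : ∀ v : F, qd a = qd v → a ≠ v → w * ((a : R) + v) + z = 0 := fun v hv hav => by
        refine key (F.add_mem (hmul hw (F.add_mem a.2 v.2)) hz) hav ?_
        calc ((a : R) - v) * (w * ((a : R) + v) + z)
            = ((a : R) - v) * w * ((a : R) + v) + ((a : R) - v) * z := by noncomm_ring
          _ = w * ((a : R) - v) * ((a : R) + v) + z * ((a : R) - v) := by
            rw [hcomm (F.sub_mem a.2 v.2) hw, hcomm (F.sub_mem a.2 v.2) hz]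
          _ = qd a - qd v + w * ((a : R) * v - v * a) := by simp only [qd]; noncomm_ring
          _ = 0 := by rw [hv, hcomm a.2 v.2, sub_self, sub_self, mul_zero, add_zero]
      have h3 : w * ((b : R) - c) = 0 := by
        have hb' := hs b hb hab
        have hc' := hs c hc hac
        calc w * ((b : R) - c) = (w * ((a : R) + b) + z) - (w * ((a : R) + c) + z) := by
              noncomm_ring
          _ = 0 := by rw [hb', hc', sub_self]
      exact Subtype.ext (sub_eq_zero.1
        (hcancel w (hFJ hw) _ (J.sub_mem (hFJ b.2) (hFJ c.2)) hw0 h3))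
    have hd : Disjoint ((Finset.univ : Finset F).image sq) ((Finset.univ : Finset F).image qd) := by
      rw [Finset.disjoint_left]
      intro t ht ht'
      obtain ⟨a, -, rfl⟩ := Finset.mem_image.1 ht
      obtain ⟨b, -, hb⟩ := Finset.mem_image.1 ht'
      exact hno a b hb.symm
    have h3 : (((Finset.univ : Finset F).image sq) ∪ ((Finset.univ : Finset F).image qd)).card ≤
        Fintype.card F := by
      refine le_trans (Finset.card_le_card (t := (Finset.univ : Finset F).image Subtype.val) ?_)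
        Finset.card_image_le
      intro t ht
      refine Finset.mem_image.2 ⟨⟨t, ?_⟩, Finset.mem_univ _, rfl⟩
      rcases Finset.mem_union.1 ht with ht | ht <;> obtain ⟨a, -, rfl⟩ := Finset.mem_image.1 ht
      · exact hmul a.2 a.2
      · exact F.add_mem (F.add_mem (hmul hw (hmul a.2 a.2)) (hmul hz a.2)) hw
    rw [Finset.card_union_of_disjoint hd] at h3
    have heven : 2 ∣ Nat.card F := by
      rw [Nat.card_eq_fintype_card]
      exact ⟨((Finset.univ : Finset F).image sq).card, by omega⟩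
    obtain ⟨t, ht⟩ := exists_prime_addOrderOf_dvd_card' 2 heven
    have ht2 : (t : R) + t = 0 := by
      have := congrArg Subtype.val (addOrderOf_nsmul_eq_zero t)
      rwa [ht, two_nsmul] at this
    have ht0 : t = 0 := Subtype.ext (h2 _ ht2)
    rw [ht0, addOrderOf_zero] at ht
    omega
  obtain ⟨a, ha⟩ := a
  obtain ⟨b, hb⟩ := b
  change a * a = w * (b * b) + z * b + w at hab
  set u := b * x + y with hu
  have hbx : b * x ∈ J := hhalf _ (by
    conv => enter [2, 2]; rw [hb.2.1]
    exact hsym b hb.1 x hx)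
  have hau : a * u = u * a := by
    rw [hu, mul_add, add_mul, ← mul_assoc, hcomm ha hb, mul_assoc, ha.2.1, ← mul_assoc, ha.2.2.1]
  have huu : u * u = a * a := by
    calc u * u = b * (x * b) * x + b * (x * y) + (y * b) * x + y * y := by rw [hu]; noncomm_ring
      _ = b * (b * x) * x + b * (x * y) + (b * y) * x + w := by rw [hb.2.1, hb.2.2.1, hxy]
      _ = b * b * w + b * z + w := by rw [hwdef, hzdef]; noncomm_ring
      _ = a * a := by rw [hab, hcomm (hmul hb hb) hw, hcomm hb hz]
  have hvv : (a + u) * (a - u) = 0 := by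
    calc (a + u) * (a - u) = a * a - u * u + (u * a - a * u) := by noncomm_ring
      _ = 0 := by rw [huu, hau, sub_self, sub_self, add_zero]
  have hcom : y * x = x * y := by
    have huJ : u ∈ J := J.add_mem hbx hy
    have hy' : y = -a - b * x ∨ y = a - b * x := by
      rcases eq_or_ne (a + u) 0 with h | h
      · exact Or.inl (eq_sub_of_add_eq' (eq_neg_of_add_eq_zero_right h))
      · exact Or.inr (eq_sub_of_add_eq' (sub_eq_zero.1
          (hcancel _ (J.add_mem ha.1 huJ) _ (J.sub_mem ha.1 huJ) h hvv)).symm)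
    have hbxx : b * x * x = x * (b * x) := by rw [← mul_assoc x b x, hb.2.1]
    rcases hy' with h | h <;>
      simp only [h, sub_mul, mul_sub, neg_mul, mul_neg, ha.2.1, hbxx]
  rcases eq_or_ne (y - x) 0 with h | h
  · exact Or.inl (sub_eq_zero.1 h)
  refine Or.inr (eq_neg_of_add_eq_zero_left (hcancel _ (J.sub_mem hy hx) _ (J.add_mem hy hx) h ?_))
  calc (y - x) * (y + x) = y * y - x * x + (y * x - x * y) := by noncomm_ring
    _ = 0 := by rw [← hxy, hcom, sub_self, sub_self, add_zero]

end CfsgLib.Flavell73
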