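import Cfsg.Agent.Flavell73.RootInP
import Cfsg.Agent.Flavell73.Endgame

/-!
Quadratic elements in the intersection of the invariant Sylow subgroups lie in the radical.
-/

set_option autoImplicit false

namespace CfsgLib.Flavell73

open Cfsg CfsgLib.RootSubgroups CfsgLib.RootSubgroups.QuadPair

universe u

variable {k : Type u} [Field k] {p : ℕ} [hp : Fact p.Prime]
  {M : Type u} [AddCommGroup M] [Module k M] [FiniteDimensional k M]

/-- The stabiliser of a subspace. -/
def stabSub (W : Submodule k M) : Subgroup (LinearMap.GeneralLinearGroup k M) where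
  carrier := {g | W.map (g : M →ₗ[k] M) = W}
  one_mem' := by
    show W.map ((1 : LinearMap.GeneralLinearGroup k M) : M →ₗ[k] M) = W
    rw [Units.val_one, Module.End.one_eq_id, Submodule.map_id]
  mul_mem' := fun {g h} hg hh => by
    show W.map ((g * h : LinearMap.GeneralLinearGroup k M) : M →ₗ[k] M) = W
    rw [Units.val_mul, Module.End.mul_eq_comp, Submodule.map_comp,
      show W.map (h : M →ₗ[k] M) = W from hh, show W.map (g : M →ₗ[k] M) = W from hg]
  inv_mem' := fun {g} hg => by
    show W.map ((g⁻¹ : LinearMap.GeneralLinearGroup k M) : M →ₗ[k] M) = W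
    conv_lhs => arg 2; rw [← show W.map (g : M →ₗ[k] M) = W from hg]
    rw [← Submodule.map_comp, ← Module.End.mul_eq_comp, Units.inv_mul, Module.End.one_eq_id,
      Submodule.map_id]

omit [FiniteDimensional k M] hp in
theorem stabSub_apply {W : Submodule k M} {g : LinearMap.GeneralLinearGroup k M} (hg : g ∈ stabSub W)
    {m : M} (hm : m ∈ W) : (g : M →ₗ[k] M) m ∈ W := by
  have h := Submodule.mem_map_of_mem (f := (g : M →ₗ[k] M)) hm
  rwa [show W.map (g : M →ₗ[k] M) = W from hg] at h

/-- The action on an invariant subspace. -/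
noncomputable def restHom (W : Submodule k M) : stabSub W →* LinearMap.GeneralLinearGroup k W :=
  MonoidHom.toHomUnits
    { toFun := fun g => ((g : LinearMap.GeneralLinearGroup k M) : M →ₗ[k] M).restrict
        fun m hm => stabSub_apply g.2 hm
      map_one' := by ext m; simp
      map_mul' := fun g h => by ext m; simp }

/-- The action on the quotient by an invariant subspace. -/
noncomputable def quotHom (W : Submodule k M) : stabSub W →* LinearMap.GeneralLinearGroup k (M ⧸ W) :=
  MonoidHom.toHomUnits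
    { toFun := fun g => Submodule.mapQ W W ((g : LinearMap.GeneralLinearGroup k M) : M →ₗ[k] M)
        fun m hm => stabSub_apply g.2 hm
      map_one' := by ext m; simp
      map_mul' := fun g h => by ext m; simp }

omit [FiniteDimensional k M] hp in
theorem restHom_apply {W : Submodule k M} (g : stabSub W) (m : W) :
    ((restHom W g : W →ₗ[k] W) m : M) =
      ((g : LinearMap.GeneralLinearGroup k M) : M →ₗ[k] M) (m : M) := rfl

omit [FiniteDimensional k M] hp in
theorem quotHom_apply {W : Submodule k M} (g : stabSub W) (m : M) :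
    (quotHom W g : (M ⧸ W) →ₗ[k] M ⧸ W) (Submodule.Quotient.mk m) =
      Submodule.Quotient.mk (((g : LinearMap.GeneralLinearGroup k M) : M →ₗ[k] M) m) := rfl

/-- An element some `p`-power of which is quadratic or trivial is a `p`-element. -/
theorem isPGroup_of_pow_sq (hk : PF k p) {H : Subgroup (LinearMap.GeneralLinearGroup k M)}
    (h : ∀ g ∈ H, ∃ n : ℕ, nil (g ^ p ^ n) * nil (g ^ p ^ n) = 0) : IsPGroup p H := fun g => by
  obtain ⟨n, hn⟩ := h g g.2
  obtain ⟨j, hj⟩ := exists_pow_eq_one hk (n := 2) (by rw [pow_two]; exact hn)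
  exact ⟨n + j, Subtype.ext (by rw [Subgroup.coe_pow, Subgroup.coe_one, pow_add, pow_mul, hj])⟩

/-- A quadratic element of the intersection of the invariant Sylow subgroups lies in the radical. -/
theorem quadratic_mem_rad (hk : PF k p) {r : ℕ} [Fact r.Prime]
    {G R : Subgroup (LinearMap.GeneralLinearGroup k M)} (hR : CAct r R G)
    {a : LinearMap.GeneralLinearGroup k M} (ha : a ∈ invCore p R G) (hq : IsQuadraticOn a) :
    a ∈ rad p G := by
  generalize hn : Nat.card G + Module.finrank k M = n
  induction n using Nat.strong_induction_on generalizing M with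
  | _ n ih =>
  classical
  have hfin := hk.finiteGL (M := M)
  have haG : a ∈ G := invCore_le ha
  by_cases hU : rad p G = ⊥
  · exfalso
    have hred : Reduced G := reduced_of_forall hk fun U hUG hUp hUn => eq_bot_iff.2 (hU ▸
      le_rad hUG hUp fun g hg => conjBy_eq_self_iff.1 (hUn g hg))
    have IH : ∀ H < G, R ≤ Subgroup.normalizer (H : Set (LinearMap.GeneralLinearGroup k M)) →
        ∀ b ∈ invCore p R H, IsQuadraticOn b → b ∈ rad p H := fun H hH hRH b hb hbq => by
      refine ih (Nat.card H + Module.finrank k M) ?_ (hR.mono hH.le hRH) hb hbq rfl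
      have hle := Subgroup.card_le_of_le hH.le
      have hne : Nat.card H ≠ Nat.card G := fun h =>
        hH.ne (Subgroup.eq_of_le_of_card_ge hH.le h.ge)
      omega
    obtain ⟨δ, hδ, hδm⟩ := exists_minimal_mem_invCore hk hR hred IH ha hq
    exact false_of_minimal_mem_invCore hk hR hred IH hδ hδm
  set U := rad p G with hUdef
  let W : Submodule k M := ⨅ u ∈ U, LinearMap.ker (nil u)
  have hW : ∀ m, m ∈ W ↔ ∀ u ∈ U, nil u m = 0 := fun m => by simp [W, Submodule.mem_iInf]
  have hWtop : W ≠ ⊤ := fun h => hU ((Subgroup.eq_bot_iff_forall U).2 fun u hu =>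
    nil_eq_zero_iff.1 (LinearMap.ext fun m => (hW m).1 (h ▸ Submodule.mem_top) u hu))
  have hWbot : W ≠ ⊥ := by
    intro h
    have : Nontrivial M := by
      rcases subsingleton_or_nontrivial M with hM | hM
      · exact absurd (Subsingleton.elim W ⊤) hWtop
      · exact hM
    have := hk.finiteM (M := M)
    have hd : p ∣ Nat.card M := by
      have := hk.finite
      rw [Module.natCard_eq_pow_finrank (K := k) (V := M), hk.card]
      exact dvd_pow_self p (Module.finrank_pos (R := k) (M := M)).ne'
    let ψ : U →* Module.End k M := (Units.coeHom _).comp U.subtype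
    letI : MulAction U M := MulAction.compHom M ψ
    obtain ⟨b, hb, hb0⟩ := (isPGroup_rad : IsPGroup p U).exists_fixed_point_of_prime_dvd_card_of_fixed_point
      M hd (a := 0) (fun g => show ψ g 0 = 0 from map_zero _)
    have hbW : b ∈ W := (hW b).2 fun u hu => by
      have := hb ⟨u, hu⟩
      replace this : (u : M →ₗ[k] M) b = b := this
      rw [nil, LinearMap.sub_apply, this, Module.End.one_apply, sub_self]
    exact hb0 ((Submodule.mem_bot k).1 (h ▸ hbW)).symm
  have hN : ∀ g ∈ Subgroup.normalizer (G : Set (LinearMap.GeneralLinearGroup k M)), g ∈ stabSub W := by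
    intro g hg
    have key : ∀ g ∈ Subgroup.normalizer (G : Set (LinearMap.GeneralLinearGroup k M)),
        W.map (g : M →ₗ[k] M) ≤ W := by
      rintro g hg _ ⟨m, hm, rfl⟩
      refine (hW _).2 fun u hu => ?_
      have h := (hW m).1 hm _
        ((Subgroup.mem_normalizer_iff.1 (inv_mem (le_normalizer_rad hg)) u).1 hu)
      rw [conj_val, inv_inv, Module.End.mul_apply, Module.End.mul_apply] at h
      have h' := congrArg (g : M →ₗ[k] M) h
      rwa [coe_apply_inv, map_zero] at h'
    refine le_antisymm (key g hg) fun m hm => ?_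
    exact ⟨_, key g⁻¹ (inv_mem hg) ⟨m, hm, rfl⟩, coe_apply_inv g m⟩
  have hGN : G ≤ stabSub W := fun g hg => hN g (Subgroup.le_normalizer hg)
  have hRN : R ≤ stabSub W := fun g hg => hN g (hR.norm hg)
  have := hk.finiteGL (M := W)
  have := hk.finiteGL (M := M ⧸ W)
  have step : ∀ (V : Type u) [AddCommGroup V] [Module k V] [FiniteDimensional k V]
      (f : stabSub W →* LinearMap.GeneralLinearGroup k V), Module.finrank k V < Module.finrank k M →
      nil (f ⟨a, hGN haG⟩) * nil (f ⟨a, hGN haG⟩) = 0 →
      f ⟨a, hGN haG⟩ ∈ rad p ((G.subgroupOf (stabSub W)).map f) := by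
    intro V _ _ _ f hV hsq
    have := hk.finiteGL (M := V)
    rcases eq_or_ne (f ⟨a, hGN haG⟩) 1 with h1 | h1
    · rw [h1]; exact one_mem _
    obtain ⟨hY, hmap⟩ := map_invCore_le (p := p) f hR hGN hRN
    refine ih _ ?_ hY (hmap ⟨⟨a, hGN haG⟩, ha, rfl⟩) ⟨hsq, fun h => h1 (nil_eq_zero_iff.1 h)⟩ rfl
    have h2 : Nat.card ((G.subgroupOf (stabSub W)).map f) ≤ Nat.card G := by
      refine (Nat.le_of_dvd Nat.card_pos (Subgroup.card_map_dvd _ _)).trans ?_
      rw [Nat.card_congr (Subgroup.subgroupOfEquivOfLe hGN).toEquiv]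
    omega
  have hsqa : nil a * nil a = 0 := hq.1
  have hsub : ∀ g : stabSub W, ∀ m : W,
      (nil (restHom W g) m : M) = nil (g : LinearMap.GeneralLinearGroup k M) (m : M) := fun g m => by
    rw [nil, nil, LinearMap.sub_apply, LinearMap.sub_apply, Submodule.coe_sub, restHom_apply]; rfl
  have hquo : ∀ (g : stabSub W) (m : M), nil (quotHom W g) (Submodule.Quotient.mk m) =
      Submodule.Quotient.mk (nil (g : LinearMap.GeneralLinearGroup k M) m) := fun g m => by
    rw [nil, nil, LinearMap.sub_apply, LinearMap.sub_apply, quotHom_apply,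
      Submodule.Quotient.mk_sub]; rfl
  have h1 := step W (restHom W) (Submodule.finrank_lt hWtop) (LinearMap.ext fun m => Subtype.ext (by
    rw [Module.End.mul_apply, hsub, hsub]; exact LinearMap.congr_fun hsqa _))
  have h2 := step (M ⧸ W) (quotHom W) (by
      have := Submodule.finrank_quotient_add_finrank W
      have : 0 < Module.finrank k W := Nat.pos_of_ne_zero fun h =>
        hWbot (Submodule.finrank_eq_zero.1 h)
      omega) (LinearMap.ext fun m => by
    obtain ⟨m, rfl⟩ := Submodule.Quotient.mk_surjective _ m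
    rw [Module.End.mul_apply, hquo, hquo, ← Module.End.mul_apply, hsqa]
    rfl)
  set G1 := (G.subgroupOf (stabSub W)).map (restHom W) with hG1
  set G2 := (G.subgroupOf (stabSub W)).map (quotHom W) with hG2
  set K := (G.subgroupOf (stabSub W) ⊓ (rad p G1).comap (restHom W) ⊓
    (rad p G2).comap (quotHom W)).map (stabSub W).subtype with hK
  suffices h : K ≤ rad p G from h ⟨⟨a, hGN haG⟩, ⟨⟨haG, h1⟩, h2⟩, rfl⟩
  refine le_rad ?_ (isPGroup_of_pow_sq hk ?_) (le_normalizer_of_forall ?_)
  · rintro _ ⟨g, hg, rfl⟩; exact hg.1.1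
  · rintro _ ⟨g, hg, rfl⟩
    obtain ⟨i, hi⟩ := isPGroup_rad ⟨_, hg.1.2⟩
    obtain ⟨j, hj⟩ := isPGroup_rad ⟨_, hg.2⟩
    replace hi : restHom W g ^ p ^ i = 1 := congrArg Subtype.val hi
    replace hj : quotHom W g ^ p ^ j = 1 := congrArg Subtype.val hj
    refine ⟨i + j, ?_⟩
    have e1 : restHom W (g ^ p ^ (i + j)) = 1 := by
      rw [map_pow, pow_add, pow_mul, hi, one_pow]
    have e2 : quotHom W (g ^ p ^ (i + j)) = 1 := by
      rw [map_pow, pow_add, mul_comm, pow_mul, hj, one_pow]
    refine LinearMap.ext fun m => ?_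
    have hm : nil ((g ^ p ^ (i + j) : stabSub W) : LinearMap.GeneralLinearGroup k M) m ∈ W := by
      rw [← Submodule.Quotient.mk_eq_zero, ← hquo, e2, nil_one]; rfl
    have := hsub (g ^ p ^ (i + j)) ⟨_, hm⟩
    rw [e1, nil_one] at this
    rw [Module.End.mul_apply]
    exact this.symm
  · rintro x hx _ ⟨g, hg, rfl⟩
    refine ⟨⟨x, hGN hx⟩ * g * ⟨x, hGN hx⟩⁻¹, Subgroup.mem_inf.2 ⟨Subgroup.mem_inf.2 ⟨mul_mem (mul_mem hx hg.1.1) (inv_mem hx), ?_⟩, ?_⟩, rfl⟩
    · show restHom W _ ∈ rad p G1
      rw [map_mul, map_mul, map_inv]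
      exact (Subgroup.mem_normalizer_iff.1 (le_normalizer_rad (Subgroup.le_normalizer
        (Subgroup.mem_map_of_mem (restHom W) (show (⟨x, hGN hx⟩ : stabSub W) ∈ G.subgroupOf _ from hx))))
        _).1 hg.1.2
    · show quotHom W _ ∈ rad p G2
      rw [map_mul, map_mul, map_inv]
      exact (Subgroup.mem_normalizer_iff.1 (le_normalizer_rad (Subgroup.le_normalizer
        (Subgroup.mem_map_of_mem (quotHom W) (show (⟨x, hGN hx⟩ : stabSub W) ∈ G.subgroupOf _ from hx))))
        _).1 hg.2
end CfsgLib.Flavell73
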