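import Mathlib.GroupTheory.NoncommPiCoprod
import Mathlib.GroupTheory.Coset.Card
import Mathlib.Data.Fintype.EquivFin
import Mathlib.Algebra.Group.End
import Mathlib.Tactic.Group

/-!
The product of the commuting translates of a homomorphism under a group.
-/

set_option autoImplicit false

namespace CfsgLib.Flavell73

variable {Γ L : Type*} [Group Γ] [Group L]

/-- A homomorphism invariant under `A` assembled from the translates of `ψ`. -/
theorem exists_translate_prod (ψ : L →* Γ) (A : Subgroup Γ) [Finite A] (st : Subgroup A)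
    (hst : ∀ a ∈ st, ∀ x, (a : Γ) * ψ x = ψ x * (a : Γ))
    (hcomm : ∀ a b : A, a⁻¹ * b ∉ st → ∀ x y,
      Commute ((a : Γ) * ψ x * (a : Γ)⁻¹) ((b : Γ) * ψ y * (b : Γ)⁻¹)) :
    ∃ Φ : L →* Γ, (∀ a ∈ A, ∀ x, a * Φ x = Φ x * a) ∧
      (∀ X : Subgroup Γ, A ≤ Subgroup.normalizer (X : Set Γ) → ψ.range ≤ X → Φ.range ≤ X) ∧
      ∀ x, Φ x = 1 → ∀ y, Commute (ψ x) (ψ y) := by
  classical
  have : Fintype (A ⧸ st) := Fintype.ofFinite _
  let φ : A ⧸ st → L →* Γ := fun q => (MulAut.conj ((q.out : A) : Γ)).toMonoidHom.comp ψ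
  have hφ : ∀ (c : A) (x : L), φ (QuotientGroup.mk c) x = (c : Γ) * ψ x * (c : Γ)⁻¹ := by
    intro c x
    obtain ⟨s, hs⟩ := QuotientGroup.mk_out_eq_mul st c
    show ((Quotient.out (QuotientGroup.mk c : A ⧸ st) : A) : Γ) * ψ x * _ = _
    rw [hs, Subgroup.coe_mul]
    have e : ((s : A) : Γ) * ψ x * ((s : A) : Γ)⁻¹ = ψ x := by rw [hst s s.2 x, mul_inv_cancel_right]
    conv_rhs => rw [← e]
    group
  have hc : Pairwise fun i j => ∀ x y, Commute (φ i x) (φ j y) := by
    intro i j hij x y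
    obtain ⟨a, rfl⟩ := QuotientGroup.mk_surjective i
    obtain ⟨b, rfl⟩ := QuotientGroup.mk_surjective j
    rw [hφ, hφ]
    exact hcomm a b (fun h => hij (QuotientGroup.eq.2 h)) x y
  set π : (A ⧸ st → L) →* Γ := MonoidHom.noncommPiCoprod φ hc with hπ
  set Δ : L →* (A ⧸ st → L) := Pi.monoidHom fun _ => MonoidHom.id L with hΔ
  refine ⟨π.comp Δ, fun a ha x => ?_, fun X hAX hψ => ?_, fun x hx y => ?_⟩
  · let re : (A ⧸ st → L) →* (A ⧸ st → L) :=
      Pi.monoidHom fun q => Pi.evalMonoidHom (fun _ => L) ((⟨a, ha⟩ : A)⁻¹ • q)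
    have e : (MulAut.conj a).toMonoidHom.comp π = π.comp re := by
      refine MonoidHom.noncommPiCoprodEquiv.symm.injective
        (Subtype.ext (funext fun q => MonoidHom.ext fun y => ?_))
      obtain ⟨c, rfl⟩ := QuotientGroup.mk_surjective q
      show (MulAut.conj a).toMonoidHom (π (Pi.mulSingle (QuotientGroup.mk c) y)) =
        π (re (Pi.mulSingle (QuotientGroup.mk c) y))
      have he : re (Pi.mulSingle (QuotientGroup.mk c) y) =
          Pi.mulSingle (QuotientGroup.mk (⟨a, ha⟩ * c) : A ⧸ st) y := by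
        funext r
        show Pi.mulSingle (M := fun _ : A ⧸ st => L) (QuotientGroup.mk c) y ((⟨a, ha⟩ : A)⁻¹ • r) = _
        have hiff : ((⟨a, ha⟩ : A)⁻¹ • r = QuotientGroup.mk c) ↔
            r = QuotientGroup.mk (⟨a, ha⟩ * c) := by
          rw [inv_smul_eq_iff, MulAction.Quotient.smul_mk, smul_eq_mul]
        simp only [Pi.mulSingle_apply, hiff]
      rw [he, hπ, MonoidHom.noncommPiCoprod_mulSingle, MonoidHom.noncommPiCoprod_mulSingle, hφ, hφ]
      show a * ((c : Γ) * ψ y * (c : Γ)⁻¹) * a⁻¹ = a * (c : Γ) * ψ y * (a * (c : Γ))⁻¹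
      group
    have e2 := DFunLike.congr_fun e (Δ x)
    simp only [MonoidHom.comp_apply] at e2 ⊢
    rw [show re (Δ x) = Δ x from rfl] at e2
    exact mul_inv_eq_iff_eq_mul.1 e2
  · refine le_trans (show (π.comp Δ).range ≤ π.range by rintro _ ⟨y, rfl⟩; exact ⟨_, rfl⟩) ?_
    rw [hπ, MonoidHom.noncommPiCoprod_range]
    refine iSup_le ?_
    intro q
    rintro _ ⟨y, rfl⟩
    exact (Subgroup.mem_normalizer_iff.1 (hAX (q.out).2) _).1 (hψ ⟨y, rfl⟩)
  · set q₀ : A ⧸ st := QuotientGroup.mk (1 : A)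
    have hq : ∀ z, φ q₀ z = ψ z := fun z => by rw [hφ]; simp
    set f' : A ⧸ st → L := (Pi.mulSingle q₀ x)⁻¹ * Δ x with hf'
    have hfc : Commute f' (Pi.mulSingle q₀ y) := by
      funext r
      rcases eq_or_ne r q₀ with rfl | hr
      · simp [hf', hΔ, Pi.monoidHom]
      · simp [hf', Pi.mulSingle_eq_of_ne hr]
    have h1 := hfc.map π
    rw [hf', map_mul, map_inv, hπ, MonoidHom.noncommPiCoprod_mulSingle,
      MonoidHom.noncommPiCoprod_mulSingle, hq, hq, ← hπ] at h1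
    rw [show π (Δ x) = 1 from hx, mul_one] at h1
    simpa using h1.inv_left

end CfsgLib.Flavell73
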