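import Cfsg.Agent.Flavell73.Unique
import Cfsg.Agent.Flavell73.Jordan
import Cfsg.Agent.S0205

/-!
The diagonal group of two opposite classes has at most two orbits on the non-identity elements of
one of them; so an odd coprime group normalising both fixes an element.
-/

set_option autoImplicit false

namespace CfsgLib.Flavell73

open Cfsg CfsgLib.RootSubgroups CfsgLib.RootSubgroups.QuadPair

universe u

variable {k : Type u} [Field k] {p : ℕ} [hp : Fact p.Prime]
  {M : Type u} [AddCommGroup M] [Module k M] [FiniteDimensional k M]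
  {G : Subgroup (LinearMap.GeneralLinearGroup k M)}
  {σ η τ : LinearMap.GeneralLinearGroup k M} {d a b x x' : Module.End k M}

variable (hk : PF k p)
include hk

/-- `a b a` for `b` in the opposite class. -/
theorem inRoot_sandwich (hσ : σ ∈ minimalQuadraticElements G) (hτ : τ ∈ minimalQuadraticElements G)
    (hop : Opp σ τ) (ha : InRoot G σ a) (hb : InRoot G τ b) : InRoot G σ (a * b * a) := by
  rcases eq_or_ne a 0 with rfl | ha0
  · simpa using (inRoot_zero : InRoot G σ (0 : Module.End k M))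
  rcases eq_or_ne b 0 with rfl | hb0
  · simpa using (inRoot_zero : InRoot G σ (0 : Module.End k M))
  obtain ⟨g, hg, rfl, hkg, hrg⟩ := InRoot.exists_minimal hσ ha ha0
  obtain ⟨g', hg', rfl, hkg', hrg'⟩ := InRoot.exists_minimal hτ hb hb0
  have := upper_word hg hg' hk.two hk.three ((opp_congr hkg hrg hkg' hrg').2 hop).injective
    Polynomial.X
  rw [Polynomial.aeval_X] at this
  exact this.congr hkg hrg

omit hk hp in
/-- The projections of an inverse pair in two classes. -/
theorem proj_of_inverse (hσ : σ ∈ minimalQuadraticElements G) (hη : η ∈ minimalQuadraticElements G)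
    (hop : Opp σ η) (hx : InRoot G σ x) (hx0 : x ≠ 0) (hx' : InRoot G η x')
    (h1 : x * x' * x = x) (h2 : x' * x * x' = x') (ha : InRoot G σ a) :
    x * x' * a = a ∧ a * (x' * x) = a := by
  obtain ⟨g, hg, rfl, hkg, hrg⟩ := InRoot.exists_minimal hσ hx hx0
  have hne : x' ≠ 0 := fun h => hx0 (by rw [← h1, h, mul_zero, zero_mul])
  exact inRoot_proj (η := η) ⟨hg, hη, (opp_congr hkg hrg rfl rfl).2 hop, hx', hne, h1, h2⟩
    (ha.congr hkg.symm hrg.symm)

/-- The element exchanging the classes by an inverse pair. -/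
theorem exists_weyl (hσ : σ ∈ minimalQuadraticElements G) (hη : η ∈ minimalQuadraticElements G)
    (hop : Opp σ η) (hx : InRoot G σ x) (hx0 : x ≠ 0) (hx' : InRoot G η x')
    (h1 : x * x' * x = x) (h2 : x' * x * x' = x') :
    ∃ w ∈ sameActionSubgroup G σ ⊔ sameActionSubgroup G η,
      (∀ g ∈ sameActionSubgroup G σ, nil (w * g * w⁻¹) = -(x' * nil g * x') ∧
        w * g * w⁻¹ ∈ sameActionSubgroup G η) ∧
      (∀ g ∈ sameActionSubgroup G η, nil (w * g * w⁻¹) = -(x * nil g * x) ∧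
        w * g * w⁻¹ ∈ sameActionSubgroup G σ) := by
  obtain ⟨u, -, eu⟩ := hx.2.2.exists_elem
  obtain ⟨v, -, ev⟩ := hx'.neg.2.2.exists_elem
  have huE : u ∈ sameActionSubgroup G σ := (mem_E hσ).2 (eu ▸ hx)
  have hvE : v ∈ sameActionSubgroup G η := (mem_E hη).2 (ev ▸ hx'.neg)
  have hne : x' ≠ 0 := fun h => hx0 (by rw [← h1, h, mul_zero, zero_mul])
  have hxx : x * x = 0 := InRoot.mul_eq_zero hσ hx hx
  have hxx' : x' * x' = 0 := InRoot.mul_eq_zero hη hx' hx'
  have ew : nil (u * v * u) = x - x' - x * x' - x' * x := by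
    rw [nil_mul, nil_mul, eu, ev]
    simp only [add_mul, neg_mul, mul_neg, hxx, h1, zero_add]
    abel
  refine ⟨u * v * u, mul_mem (mul_mem (Subgroup.mem_sup_left huE) (Subgroup.mem_sup_right hvE))
    (Subgroup.mem_sup_left huE), fun g hg => ?_, fun g hg => ?_⟩
  · have ha := (mem_E hσ).1 hg
    obtain ⟨q1, q2⟩ := proj_of_inverse hσ hη hop hx hx0 hx' h1 h2 ha
    have e1 : x * nil g = 0 := InRoot.mul_eq_zero hσ hx ha
    have e : nil (u * v * u * g * (u * v * u)⁻¹) = -(x' * nil g * x') := by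
      have key : (1 + (x - x' - x * x' - x' * x)) * nil g =
          -(x' * nil g * x') * (1 + (x - x' - x * x' - x' * x)) := by
        have l : (1 + (x - x' - x * x' - x' * x)) * nil g = -(x' * nil g) := by
          simp only [add_mul, sub_mul, one_mul, e1, q1, mul_assoc x' x, mul_zero]
          abel
        have r1 : x' * nil g * x' * x = x' * nil g := by rw [mul_assoc, mul_assoc, q2]
        rw [l, neg_mul, mul_add, mul_one]
        simp only [mul_sub, ← mul_assoc, r1]
        rw [mul_assoc _ x' x', hxx', mul_zero, zero_mul]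
        abel
      rw [conj_val, coe_eq_one_add (u * v * u), ew, key, ← ew, ← coe_eq_one_add, mul_assoc,
        Units.mul_inv, mul_one]
    exact ⟨e, (mem_E hη).2 (e ▸ (inRoot_sandwich hk hη hσ hop.symm hx' ha).neg)⟩
  · have hb := (mem_E hη).1 hg
    obtain ⟨q1, q2⟩ := proj_of_inverse hη hσ hop.symm hx' hne hx h2 h1 hb
    have e1 : x' * nil g = 0 := InRoot.mul_eq_zero hη hx' hb
    have e : nil (u * v * u * g * (u * v * u)⁻¹) = -(x * nil g * x) := by
      have key : (1 + (x - x' - x * x' - x' * x)) * nil g =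
          -(x * nil g * x) * (1 + (x - x' - x * x' - x' * x)) := by
        have l : (1 + (x - x' - x * x' - x' * x)) * nil g = x * nil g := by
          simp only [add_mul, sub_mul, one_mul, e1, q1, mul_assoc x x', mul_zero]
          abel
        have r1 : x * nil g * x * x' = x * nil g := by rw [mul_assoc, mul_assoc, q2]
        rw [l, neg_mul, mul_add, mul_one]
        simp only [mul_sub, ← mul_assoc, r1]
        rw [mul_assoc _ x x, hxx, mul_zero, zero_mul]
        abel
      rw [conj_val, coe_eq_one_add (u * v * u), ew, key, ← ew, ← coe_eq_one_add, mul_assoc,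
        Units.mul_inv, mul_one]
    exact ⟨e, (mem_E hσ).2 (e ▸ (inRoot_sandwich hk hσ hη hop hx hb).neg)⟩

omit hk hp [FiniteDimensional k M] in
theorem mem_normalizer_of_maps [Finite (LinearMap.GeneralLinearGroup k M)]
    {S : Subgroup (LinearMap.GeneralLinearGroup k M)} {h : LinearMap.GeneralLinearGroup k M}
    (hS : ∀ g ∈ S, h * g * h⁻¹ ∈ S) :
    h ∈ Subgroup.normalizer (S : Set (LinearMap.GeneralLinearGroup k M)) := by
  refine conjBy_eq_self_iff.1 (Subgroup.eq_of_le_of_card_ge ?_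
    (Subgroup.card_map_of_injective (MulAut.conj h).injective).ge)
  rintro _ ⟨g, hg, rfl⟩
  exact hS g hg

/-- The diagonal group of two classes. -/
abbrev diagGroup (G : Subgroup (LinearMap.GeneralLinearGroup k M))
    (σ η : LinearMap.GeneralLinearGroup k M) : Subgroup (LinearMap.GeneralLinearGroup k M) :=
  rankOneDiagonal (sameActionSubgroup G σ) (sameActionSubgroup G η)

omit hk hp [FiniteDimensional k M] in
theorem mem_diagGroup {h : LinearMap.GeneralLinearGroup k M} :
    h ∈ diagGroup G σ η ↔ h ∈ sameActionSubgroup G σ ⊔ sameActionSubgroup G η ∧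
      h ∈ Subgroup.normalizer (sameActionSubgroup G σ : Set (LinearMap.GeneralLinearGroup k M)) ∧
      h ∈ Subgroup.normalizer (sameActionSubgroup G η : Set (LinearMap.GeneralLinearGroup k M)) := by
  simp only [diagGroup, rankOneDiagonal, Subgroup.mem_inf, and_assoc]

/-- The element of the diagonal group taking `a` to `x d a d x`. -/
theorem exists_diag (h : InvPair G σ η d) (hx : InRoot G σ x) (hx0 : x ≠ 0) :
    ∃ t ∈ diagGroup G σ η, ∀ g ∈ sameActionSubgroup G σ,
      nil (t * g * t⁻¹) = x * d * nil g * (d * x) := by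
  have := hk.finiteGL (M := M)
  obtain ⟨x', hx', -, h1, h2⟩ := exists_inverse hk.two hk.three h.minζ h.minη h.opp hx hx0
  obtain ⟨w, hw, hwσ, hwη⟩ := exists_weyl hk h.minζ h.minη h.opp hx hx0 hx' h1 h2
  obtain ⟨v, hv, hvσ, hvη⟩ := exists_weyl hk h.minζ h.minη h.opp (inRoot_self h.minζ.1)
    (quad_ne h.minζ.1.2.1) h.inRoot h.zdz h.dzd
  have hconj : ∀ g, w * v * g * (w * v)⁻¹ = w * (v * g * v⁻¹) * w⁻¹ := fun g => by group
  refine ⟨w * v, mem_diagGroup.2 ⟨mul_mem hw hv, mem_normalizer_of_maps fun g hg => ?_,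
    mem_normalizer_of_maps fun g hg => ?_⟩, fun g hg => ?_⟩
  · rw [hconj]; exact (hwη _ (hvσ g hg).2).2
  · rw [hconj]; exact (hwσ _ (hvη g hg).2).2
  · rw [hconj, (hwη _ (hvσ g hg).2).1, (hvσ g hg).1]
    simp [mul_assoc]

omit hk hp in
theorem conj_mem_class {g t : LinearMap.GeneralLinearGroup k M} (ht : t ∈ diagGroup G σ η)
    (hg : g ∈ sameActionSubgroup G σ) : t * g * t⁻¹ ∈ sameActionSubgroup G σ :=
  (Subgroup.mem_normalizer_iff.1 (mem_diagGroup.1 ht).2.1 g).1 hg

/-- The orbit of `σ` contains at least half of the non-identity elements of its class. -/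
theorem ncard_le_twice_orbit (h : InvPair G σ η d) :
    {g | g ∈ sameActionSubgroup G σ ∧ g ≠ 1}.ncard ≤
      2 * ((fun t => t * σ * t⁻¹) '' (diagGroup G σ η : Set _)).ncard := by
  classical
  have := hk.finiteGL (M := M)
  have := hk.finiteM (M := M)
  have : Finite (Module.End k M) :=
    Finite.of_injective (fun f => (f : M → M)) DFunLike.coe_injective
  have hσ := h.minζ
  set z := nil σ with hz
  have hzR : InRoot G σ z := inRoot_self hσ.1
  let J : AddSubgroup (Module.End k M) :=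
    { carrier := {r | ∃ a, InRoot G σ a ∧ a * d = r}
      add_mem' := by
        rintro _ _ ⟨a, ha, rfl⟩ ⟨b, hb, rfl⟩
        exact ⟨a + b, InRoot.add hσ ha hb, add_mul a b d⟩
      zero_mem' := ⟨0, inRoot_zero, zero_mul d⟩
      neg_mem' := by
        rintro _ ⟨a, ha, rfl⟩
        exact ⟨-a, ha.neg, neg_mul a d⟩ }
  have hsign : ∀ {a b}, InRoot G σ a → InRoot G σ b → a * d * a = b * d * b → b = a ∨ b = -a := by
    intro a b ha hb hab
    have hrec : ∀ {a}, InRoot G σ a → a * d * z = a := fun ha => by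
      rw [mul_assoc]; exact (inRoot_proj h ha).2
    refine (eq_or_eq_neg_of_mul_self_eq J (e := z * d) ⟨z, hzR, rfl⟩ ?_ ?_ ?_ ?_ ?_ ?_
      (x := a * d) (y := b * d) ⟨a, ha, rfl⟩ ⟨b, hb, rfl⟩ (by
        rw [← mul_assoc, ← mul_assoc, hab])).imp (fun he => ?_) fun he => ?_
    · rintro _ ⟨c, hc, rfl⟩
      rw [← mul_assoc, (inRoot_proj h hc).1]
    · rintro _ ⟨c, hc, rfl⟩
      rw [mul_assoc, ← mul_assoc d z d, h.dzd]
    · rintro _ ⟨c, hc, rfl⟩ _ ⟨c', hc', rfl⟩
      refine ⟨c * (d * c' * d) * c, inRoot_sandwich hk hσ h.minη h.opp hc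
        (inRoot_sandwich hk h.minη hσ h.opp.symm h.inRoot hc'), ?_⟩
      simp only [mul_assoc]
    · rintro r ⟨c, hc, e⟩
      refine ⟨(2 : k)⁻¹ • c, hc.smul _, ?_⟩
      rw [smul_mul_assoc, e, ← two_smul k r, smul_smul, inv_mul_cancel₀ (Ring.two_ne_zero hk.two),
        one_smul]
    · intro r hr
      rw [← two_smul k r] at hr
      exact (smul_eq_zero.1 hr).resolve_left (Ring.two_ne_zero hk.two)
    · rintro _ ⟨c, hc, rfl⟩ hne
      have hc0 : c ≠ 0 := fun h0 => hne (by rw [h0, zero_mul])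
      obtain ⟨c', hc', -, h1, h2⟩ := exists_inverse hk.two hk.three hσ h.minη h.opp hc hc0
      refine ⟨z * c' * z * d, ⟨_, inRoot_sandwich hk hσ h.minη h.opp hzR hc', rfl⟩, ?_⟩
      rw [show z * c' * z * d * (c * d) = z * c' * (z * d * c) * d by simp only [mul_assoc],
        (inRoot_proj h hc).1, mul_assoc z c' c,
        (proj_of_inverse hσ h.minη h.opp hc hc0 hc' h1 h2 hzR).2]
    · rw [← hrec hb, he, hrec ha]
    · rw [← hrec hb, he, neg_mul, hrec ha]
  set S : Set (LinearMap.GeneralLinearGroup k M) := {g | g ∈ sameActionSubgroup G σ ∧ g ≠ 1} with hS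
  set O := (fun t => t * σ * t⁻¹) '' (diagGroup G σ η : Set _) with hO
  have himg : ∀ g ∈ S, ∃ y ∈ O, nil y = nil g * d * nil g := fun g hg => by
    obtain ⟨t, ht, e⟩ := exists_diag hk h ((mem_E hσ).1 hg.1) fun h0 => hg.2 (nil_eq_zero_iff.1 h0)
    refine ⟨_, ⟨t, ht, rfl⟩, ?_⟩
    rw [e σ (minimal_mem_E hσ), ← hz, mul_assoc (nil g * d), ← mul_assoc z,
      (inRoot_proj h ((mem_E hσ).1 hg.1)).1]
  choose! φ hφO hφ using himg
  rw [Set.ncard_eq_toFinset_card S, Set.ncard_eq_toFinset_card O]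
  refine le_trans (card_le_twice_image _ φ fun g₁ h1 g₂ h2 g₃ h3 e2 e3 n2 n3 => ?_)
    (Nat.mul_le_mul_left 2 (Finset.card_le_card ?_))
  · rw [Set.Finite.mem_toFinset] at h1 h2 h3
    have hne : ∀ g ∈ S, φ g₁ = φ g → g₁ ≠ g → nil g = -nil g₁ := fun g hg e n =>
      (hsign ((mem_E hσ).1 h1.1) ((mem_E hσ).1 hg.1)
        (by rw [← hφ g₁ h1, ← hφ g hg, e])).resolve_left fun e' => n (nil_injective e').symm
    exact nil_injective ((hne g₂ h2 e2 n2).trans (hne g₃ h3 e3 n3).symm)
  · intro y hy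
    obtain ⟨g, hg, rfl⟩ := Finset.mem_image.1 hy
    rw [Set.Finite.mem_toFinset] at hg ⊢
    exact hφO g hg

/-- An odd coprime group normalising two opposite classes fixes a non-identity element of the first. -/
theorem exists_fixed_element (h : InvPair G σ η d)
    {A : Subgroup (LinearMap.GeneralLinearGroup k M)}
    (hAσ : A ≤ Subgroup.normalizer (sameActionSubgroup G σ : Set (LinearMap.GeneralLinearGroup k M)))
    (hAη : A ≤ Subgroup.normalizer (sameActionSubgroup G η : Set (LinearMap.GeneralLinearGroup k M)))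
    (hodd : Odd (Nat.card A)) (hcop : (Nat.card A).Coprime (Nat.card G)) :
    ∃ e ∈ sameActionSubgroup G σ, e ≠ 1 ∧ ∀ a ∈ A, a * e = e * a := by
  have := hk.finiteGL (M := M)
  have hσ := h.minζ
  set H := diagGroup G σ η with hH
  have hHG : H ≤ G := fun t ht =>
    sup_le (E_le hσ) (E_le h.minη) (mem_diagGroup.1 ht).1
  have hAH : A ≤ Subgroup.normalizer (H : Set (LinearMap.GeneralLinearGroup k M)) := by
    intro a ha
    refine mem_normalizer_of_maps fun t ht => ?_
    obtain ⟨t1, t2, t3⟩ := mem_diagGroup.1 ht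
    have e1 := conjBy_eq_self_iff.2 (hAσ ha)
    have e2 := conjBy_eq_self_iff.2 (hAη ha)
    have e : conjBy (sameActionSubgroup G σ ⊔ sameActionSubgroup G η) a =
        sameActionSubgroup G σ ⊔ sameActionSubgroup G η := by rw [conjBy_sup, e1, e2]
    refine mem_diagGroup.2 ⟨(Subgroup.mem_normalizer_iff.1 (conjBy_eq_self_iff.1 e) t).1 t1,
      mul_mem (mul_mem (hAσ ha) t2) (inv_mem (hAσ ha)),
      mul_mem (mul_mem (hAη ha) t3) (inv_mem (hAη ha))⟩
  let orb : LinearMap.GeneralLinearGroup k M → Set (LinearMap.GeneralLinearGroup k M) := fun g =>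
    (fun t => t * g * t⁻¹) '' (H : Set _)
  have horbE : ∀ g ∈ sameActionSubgroup G σ, g ≠ 1 →
      orb g ⊆ {x | x ∈ sameActionSubgroup G σ ∧ x ≠ 1} := by
    rintro g hg hg1 _ ⟨t, ht, rfl⟩
    exact ⟨conj_mem_class ht hg, fun e => hg1 (conj_eq_one_iff.1 e)⟩
  have hself : ∀ g, g ∈ orb g := fun g => ⟨1, H.one_mem, by group⟩
  have hsymm : ∀ {g g'}, g' ∈ orb g → g ∈ orb g' := by
    rintro g _ ⟨t, ht, rfl⟩
    exact ⟨t⁻¹, H.inv_mem ht, by group⟩
  have htr : ∀ {g g' g''}, g' ∈ orb g → g'' ∈ orb g' → g'' ∈ orb g := by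
    rintro g _ _ ⟨t, ht, rfl⟩ ⟨t', ht', rfl⟩
    exact ⟨t' * t, H.mul_mem ht' ht, by group⟩
  have hmove : ∀ {a}, a ∈ A → ∀ g, orb (a * g * a⁻¹) = (fun x => a * x * a⁻¹) '' orb g := by
    intro a ha g
    ext x
    constructor
    · rintro ⟨t, ht, rfl⟩
      refine ⟨_, ⟨a⁻¹ * t * a⁻¹⁻¹, (Subgroup.mem_normalizer_iff.1 (hAH (inv_mem ha)) t).1 ht, rfl⟩, ?_⟩
      group
    · rintro ⟨_, ⟨t, ht, rfl⟩, rfl⟩
      exact ⟨a * t * a⁻¹, (Subgroup.mem_normalizer_iff.1 (hAH ha) t).1 ht, by group⟩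
  have hconjE : ∀ {a}, a ∈ A → ∀ g ∈ sameActionSubgroup G σ, g ≠ 1 →
      a * g * a⁻¹ ∈ sameActionSubgroup G σ ∧ a * g * a⁻¹ ≠ 1 := fun ha g hg hg1 =>
    ⟨(Subgroup.mem_normalizer_iff.1 (hAσ ha) g).1 hg, fun e => hg1 (conj_eq_one_iff.1 e)⟩
  have hσE := minimal_mem_E hσ
  have hσ1 : σ ≠ 1 := fun e => quad_ne hσ.1.2.1 (by rw [e, nil_one])
  have hstab : ∀ a ∈ A, a * σ * a⁻¹ ∈ orb σ := by
    intro a ha
    by_contra h1
    set τ₁ := a * σ * a⁻¹ with hτ₁
    set τ₂ := a * τ₁ * a⁻¹ with hτ₂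
    by_cases h2 : τ₂ ∈ orb σ
    · have hpow : ∀ m : ℕ, (a * a) ^ m * σ * ((a * a) ^ m)⁻¹ ∈ orb σ := by
        intro m
        induction m with
        | zero => simpa using hself σ
        | succ m ih =>
          have h3 : (a * a) * ((a * a) ^ m * σ * ((a * a) ^ m)⁻¹) * (a * a)⁻¹ ∈
              orb ((a * a) * σ * (a * a)⁻¹) := by
            rw [hmove (A.mul_mem ha ha)]
            exact ⟨_, ih, rfl⟩
          rw [show (a * a) ^ (m + 1) * σ * ((a * a) ^ (m + 1))⁻¹ =
            (a * a) * ((a * a) ^ m * σ * ((a * a) ^ m)⁻¹) * (a * a)⁻¹ by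
              simp only [pow_succ', mul_inv_rev, mul_assoc]]
          refine htr ?_ h3
          rwa [show a * a * σ * (a * a)⁻¹ = τ₂ by rw [hτ₂, hτ₁]; group]
      obtain ⟨m, hm⟩ : Odd (orderOf (⟨a, ha⟩ : A)) := hodd.of_dvd_nat (orderOf_dvd_natCard _)
      have hm' : (a * a) ^ (m + 1) = a := by
        have e : (⟨a, ha⟩ : A) ^ (2 * m + 1) = 1 := by rw [← hm]; exact pow_orderOf_eq_one _
        replace e : a ^ (2 * m + 1) = 1 := congrArg Subtype.val e
        rw [← pow_two, ← pow_mul, show 2 * (m + 1) = 2 * m + 1 + 1 by omega, pow_succ, e, one_mul]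
      have := hpow (m + 1)
      rw [hm'] at this
      exact h1 this
    · have h3 : τ₂ ∉ orb τ₁ := fun hmem => by
        rw [hτ₂, hτ₁, hmove ha] at hmem
        obtain ⟨x, hx, e⟩ := hmem
        rw [mul_left_cancel (mul_right_cancel e)] at hx
        exact h1 hx
      have hdisj : ∀ {g g'}, g' ∉ orb g → Disjoint (orb g) (orb g') := fun hn =>
        Set.disjoint_left.2 fun x hx hx' => hn (htr hx (hsymm hx'))
      have hcard : ∀ g, (orb (a * g * a⁻¹)).ncard = (orb g).ncard := fun g => by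
        rw [hmove ha, Set.ncard_image_of_injective _ fun x y e =>
          mul_left_cancel (mul_right_cancel e)]
      have hle := Set.ncard_le_ncard (Set.union_subset (Set.union_subset (horbE σ hσE hσ1)
          (horbE τ₁ (hconjE ha σ hσE hσ1).1 (hconjE ha σ hσE hσ1).2))
        (horbE τ₂ (hconjE ha τ₁ (hconjE ha σ hσE hσ1).1 (hconjE ha σ hσE hσ1).2).1
          (hconjE ha τ₁ (hconjE ha σ hσE hσ1).1 (hconjE ha σ hσE hσ1).2).2)) (Set.toFinite _)
      rw [Set.ncard_union_eq (Set.disjoint_union_left.2 ⟨hdisj h2, hdisj h3⟩) (Set.toFinite _)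
          (Set.toFinite _), Set.ncard_union_eq (hdisj h1) (Set.toFinite _) (Set.toFinite _)] at hle
      simp only [hτ₂, hτ₁, hcard] at hle
      have hpos : 0 < (orb σ).ncard := (Set.ncard_pos (Set.toFinite _)).2 ⟨σ, hself σ⟩
      have := ncard_le_twice_orbit hk h
      simp only [orb, H] at hle this hpos
      omega
  letI : MulAction (LinearMap.GeneralLinearGroup k M) (LinearMap.GeneralLinearGroup k M) :=
    { smul := fun x g => x * g * x⁻¹
      one_smul := fun g => by show 1 * g * 1⁻¹ = g; group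
      mul_smul := fun x y g => by show x * y * g * (x * y)⁻¹ = x * (y * g * y⁻¹) * x⁻¹; group }
  obtain ⟨e, he, hfix⟩ := CfsgLib.Coprime.exists_fixed_of_transitive hAH
    (hcop.coprime_dvd_right (Subgroup.card_dvd_of_le hHG))
    (Or.inl (Cfsg.Agent.S0205.result hodd)) (orb σ) ⟨σ, hself σ⟩
    (fun a ha x hx => by
      show a * x * a⁻¹ ∈ orb σ
      refine htr (hstab a ha) ?_
      rw [hmove ha]
      exact ⟨x, hx, rfl⟩)
    (fun t ht x hx => htr hx ⟨t, ht, rfl⟩)
    (fun x hx y hy => by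
      obtain ⟨t, ht, e⟩ := htr (hsymm hx) hy
      exact ⟨t, ht, e⟩)
  obtain ⟨h1, h2⟩ := horbE σ hσE hσ1 he
  exact ⟨e, h1, h2, fun a ha => mul_inv_eq_iff_eq_mul.1 (hfix a ha)⟩

end CfsgLib.Flavell73
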