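import Cfsg.Agent.Flavell73.RootInP
import Cfsg.Agent.Flavell73.Endgame
import Cfsg.Agent.Flavell73.TwoClass
import Cfsg.Agent.Flavell73.TranslateProd
import Cfsg.Agent.RootSubgroups.Steinberg
import Cfsg.Agent.ConjFunctor.Sections

/-!
A reduced group with quadratic elements has a `PSL₂(p)` section fixed by a coprime operator group.
-/

set_option autoImplicit false

namespace CfsgLib.Flavell73

open Cfsg CfsgLib.RootSubgroups CfsgLib.RootSubgroups.QuadPair

universe u

section
variable {k : Type u} [Field k] {R : Type*} [Ring R] [Algebra k R]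

/-- `1 + s a`. -/
def oneAdd (a : R) (haa : a * a = 0) (s : k) : Rˣ where
  val := 1 + s • a
  inv := 1 - s • a
  val_inv := by simp [mul_sub, add_mul, haa]
  inv_val := by simp [sub_mul, mul_add, haa]

/-- Steinberg data of an inverse pair of square-zero elements. -/
def pairData (a b : R) (haa : a * a = 0) (hbb : b * b = 0) (haba : a * b * a = a)
    (hbab : b * a * b = b) : Steinberg.RootData k Rˣ where
  x := oneAdd a haa
  y := oneAdd b hbb
  x_add s t := by
    ext; simp [oneAdd, add_smul, mul_add, add_mul, haa, add_assoc, add_comm, add_left_comm]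
  y_add s t := by
    ext; simp [oneAdd, add_smul, mul_add, add_mul, hbb, add_assoc, add_comm, add_left_comm]
  braid t ht := by
    ext
    simp only [oneAdd, Units.val_mul, add_mul, mul_add, one_mul, mul_one, smul_mul_assoc,
      mul_smul_comm, smul_smul, haa, hbb, haba, hbab, smul_zero, zero_mul, add_zero]
    match_scalars <;> field_simp <;> ring
  conj t ht s := by
    rw [mul_inv_eq_iff_eq_mul]
    ext
    simp only [oneAdd, Units.val_mul, add_mul, mul_add, one_mul, mul_one, smul_mul_assoc,
      mul_smul_comm, smul_smul, haa, hbb, haba, hbab, smul_zero, zero_mul, add_zero]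
    have haa' : ∀ w, a * (a * w) = 0 := fun w => by rw [← mul_assoc, haa, zero_mul]
    have hbb' : ∀ w, b * (b * w) = 0 := fun w => by rw [← mul_assoc, hbb, zero_mul]
    have haba' : ∀ w, a * (b * (a * w)) = a * w := fun w => by rw [← mul_assoc, ← mul_assoc, haba]
    have hbab' : ∀ w, b * (a * (b * w)) = b * w := fun w => by rw [← mul_assoc, ← mul_assoc, hbab]
    have haba1 : a * (b * a) = a := by rw [← mul_assoc, haba]
    have hbab1 : b * (a * b) = b := by rw [← mul_assoc, hbab]
    simp only [mul_assoc, haa, hbb, haa', hbb', haba', hbab', haba1, hbab1, smul_zero, mul_zero,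
      zero_mul, add_zero]
    match_scalars <;> field_simp <;> ring

end

variable {k : Type u} [Field k] {p : ℕ} [hp : Fact p.Prime]
  {M : Type u} [AddCommGroup M] [Module k M] [FiniteDimensional k M]
  {G A : Subgroup (LinearMap.GeneralLinearGroup k M)}
  {σ η : LinearMap.GeneralLinearGroup k M} {d : Module.End k M}

omit [FiniteDimensional k M] hp in
theorem comp_eq_of_mem {B C : Subgroup (LinearMap.GeneralLinearGroup k M)} (h : C ∈ comp G B) :
    comp G C = comp G B :=
  (componentOf_eq_of_reach h.2).symm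

omit [FiniteDimensional k M] hp in
theorem compGroup_congr {B C : Subgroup (LinearMap.GeneralLinearGroup k M)}
    (h : comp G B = comp G C) : compGroup G B = compGroup G C := by
  simp only [compGroup, h]

variable (hk : PF k p)
include hk

theorem conjBy_compGroup_le {B : Subgroup (LinearMap.GeneralLinearGroup k M)}
    {x : LinearMap.GeneralLinearGroup k M}
    (hx : x ∈ Subgroup.normalizer (G : Set (LinearMap.GeneralLinearGroup k M))) :
    conjBy (compGroup G B) x ≤ compGroup G (conjBy B x) := by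
  rw [compGroup, conjBy, Subgroup.map_iSup]
  simp only [Subgroup.map_iSup]
  exact iSup₂_le fun C hC => le_compGroup (comp_conj_of_normalizes hk hx hC)

/-- A coprime odd group fixes a class such that it moves it only to other components. -/
theorem exists_fixed_class (hred : Reduced G) (hσ : σ ∈ minimalQuadraticElements G)
    (hAG : A ≤ Subgroup.normalizer (G : Set (LinearMap.GeneralLinearGroup k M)))
    (hodd : Odd (Nat.card A)) (hcop : (Nat.card A).Coprime (Nat.card G)) :
    ∃ φ ∈ minimalQuadraticElements G, ∀ a ∈ A,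
      conjBy (sameActionSubgroup G φ) a ∈ comp G (sameActionSubgroup G φ) →
        conjBy (sameActionSubgroup G φ) a = sameActionSubgroup G φ := by
  classical
  have := hk.finiteGL (M := M)
  set E := sameActionSubgroup G σ with hE
  have hEq : E ∈ quadraticRootSubgroups G := E_mem_quadraticRootSubgroups hσ
  let A₀ : Subgroup (LinearMap.GeneralLinearGroup k M) :=
    { carrier := {a | a ∈ A ∧ conjBy E a ∈ comp G E}
      one_mem' := ⟨A.one_mem, by rw [conjBy_one]; exact comp_self hEq⟩
      mul_mem' := fun {a b} ha hb => ⟨A.mul_mem ha.1 hb.1, by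
        rw [← conjBy_conjBy, ← comp_eq_of_mem ha.2]
        exact comp_conj_of_normalizes hk (hAG ha.1) hb.2⟩
      inv_mem' := fun {a} ha => ⟨A.inv_mem ha.1, by
        have h : E ∈ comp G (conjBy E a) := by rw [comp_eq_of_mem ha.2]; exact comp_self hEq
        have := comp_conj_of_normalizes hk (hAG (A.inv_mem ha.1)) h
        rwa [conjBy_inv_conjBy] at this⟩ }
  have hA₀ : ∀ a ∈ A₀, ∀ B ∈ comp G E, conjBy B a ∈ comp G E := fun a ha B hB => by
    rw [← comp_eq_of_mem ha.2]
    exact comp_conj_of_normalizes hk (hAG ha.1) hB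
  have hA₀X : A₀ ≤ Subgroup.normalizer (compGroup G E : Set (LinearMap.GeneralLinearGroup k M)) := by
    intro a ha
    refine mem_normalizer_of_maps fun g hg => ?_
    have := conjBy_compGroup_le hk (hAG ha.1) (conj_mem_conjBy hg a)
    rwa [compGroup_congr (comp_eq_of_mem ha.2)] at this
  have hA₀A : A₀ ≤ A := fun a ha => ha.1
  have hodd₀ : Odd (Nat.card A₀) := hodd.of_dvd_nat (Subgroup.card_dvd_of_le hA₀A)
  letI : MulAction (LinearMap.GeneralLinearGroup k M) (Subgroup (LinearMap.GeneralLinearGroup k M)) :=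
    { smul := fun a T => conjBy T a
      one_smul := conjBy_one
      mul_smul := fun a b T => (conjBy_conjBy T b a).symm }
  obtain ⟨B, hB, hfix⟩ := CfsgLib.Coprime.exists_fixed_of_transitive hA₀X
    ((hcop.coprime_dvd_left (Subgroup.card_dvd_of_le hA₀A)).coprime_dvd_right
      (Subgroup.card_dvd_of_le compGroup_le_G))
    (Or.inl (Cfsg.Agent.S0205.result hodd₀)) (comp G E) ⟨E, comp_self hEq⟩ hA₀
    (fun x hx B hB => comp_conj hk.two hk.three hred hB (compGroup_le_sup hx))
    (fun B hB C hC => by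
      obtain ⟨g, hg⟩ := (comp_root_class hk.two hk.three hred hEq).2.2 _ ⟨B, hB, rfl⟩ _ ⟨C, hC, rfl⟩
      rw [Transport.conjBy_subgroupOf (le_compGroup hB)] at hg
      exact ⟨g, g.2, (Transport.subgroupOf_inj (le_compGroup hC)
        (le_compGroup (comp_conj hk.two hk.three hred hB (compGroup_le_sup g.2))) hg).symm⟩)
  obtain ⟨φ, hφ, rfl⟩ := hB.1
  refine ⟨φ, hφ, fun a ha hmem => hfix a ⟨ha, ?_⟩⟩
  have hEB : E ∈ comp G (sameActionSubgroup G φ) := by
    rw [comp_eq_of_mem hB]; exact comp_self hEq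
  have h := comp_conj_of_normalizes hk (hAG ha) hEB
  rwa [comp_eq_of_mem hmem, comp_eq_of_mem hB] at h

/-- A coprime operator group of a reduced group with quadratic elements fixes a `PSL₂(p)` section. -/
theorem involves_psl2_fixed (hred : Reduced G)
    (hAG : A ≤ Subgroup.normalizer (G : Set (LinearMap.GeneralLinearGroup k M)))
    (hcop : (Nat.card A).Coprime (Nat.card G))
    {g : LinearMap.GeneralLinearGroup k M} (hg : g ∈ G) (hq : IsQuadraticOn g) :
    Cfsg.Involves (Matrix.ProjectiveSpecialLinearGroup (Fin 2) k)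
      ↥(G ⊓ Subgroup.centralizer (A : Set (LinearMap.GeneralLinearGroup k M))) := by
  classical
  have := hk.finiteGL (M := M)
  have := hk.finite
  obtain ⟨σ₀, hσ₀⟩ := exists_minimalQuadratic ⟨g, quad_mem hk hg hq⟩
  -- the group has even order
  have hodd : Odd (Nat.card A) := by
    obtain ⟨x, hx, hop⟩ := exists_opp hk.two hk.three hred hσ₀
    obtain ⟨d, hd⟩ := exists_invPair hk hσ₀ (conj_minimal hσ₀ hx) hop
    obtain ⟨i, hi, hii, ei, -⟩ := exists_pairInvolution hk hd
    have hi1 : i ≠ 1 := by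
      intro h1
      rw [h1, nil_one, eq_comm, neg_eq_zero, smul_eq_zero] at ei
      have e := congrArg (nil σ₀ * ·) (ei.resolve_left (Ring.two_ne_zero hk.two))
      simp only [mul_add, mul_zero, ← mul_assoc, hd.zz, zero_mul, zero_add, hd.zdz] at e
      exact quad_ne hσ₀.1.2.1 e
    have h2 : 2 ∣ Nat.card G := by
      have hord : orderOf (⟨i, sup_le (E_le hσ₀) (E_le (conj_minimal hσ₀ hx)) hi⟩ : G) = 2 :=
        orderOf_eq_prime (Subtype.ext (by rw [Subgroup.coe_pow, pow_two]; exact hii))
          fun h => hi1 (congrArg Subtype.val h)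
      exact hord ▸ orderOf_dvd_natCard _
    rcases Nat.even_or_odd (Nat.card A) with he | ho
    · exact absurd (Nat.dvd_gcd he.two_dvd h2) (by rw [hcop.gcd_eq_one]; omega)
    · exact ho
  have hcopp : (Nat.card A).Coprime p := by
    refine hcop.coprime_dvd_right ?_
    have hpow : σ₀ ^ p = 1 := nil_eq_zero_iff.1 (by
      have := hk.charP
      rw [nil_pow_of_sq (nil_sq hσ₀.1.2.1), CharP.cast_eq_zero k p, zero_smul])
    have hord : orderOf (⟨σ₀, hσ₀.1.1⟩ : G) = p := orderOf_eq_prime (Subtype.ext (by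
      rw [Subgroup.coe_pow]; exact hpow)) fun h => quad_ne hσ₀.1.2.1 (by
      rw [show σ₀ = 1 from congrArg Subtype.val h, nil_one])
    exact hord ▸ orderOf_dvd_natCard _
  obtain ⟨φ, hφ, hsel⟩ := exists_fixed_class hk hred hσ₀ hAG hodd hcop
  set E := sameActionSubgroup G φ with hE
  set A₁ := A ⊓ Subgroup.normalizer (E : Set (LinearMap.GeneralLinearGroup k M)) with hA₁
  have hA₁A : A₁ ≤ A := inf_le_left
  have hodd₁ : Odd (Nat.card A₁) := hodd.of_dvd_nat (Subgroup.card_dvd_of_le hA₁A)
  have hcop₁ : (Nat.card A₁).Coprime (Nat.card G) :=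
    hcop.coprime_dvd_left (Subgroup.card_dvd_of_le hA₁A)
  obtain ⟨η, hη, hop, hA₁η⟩ := exists_fixed_partner hk hred hφ (hA₁A.trans hAG) inf_le_right
    (Cfsg.Agent.S0205.result hodd₁) (hcopp.coprime_dvd_left (Subgroup.card_dvd_of_le hA₁A))
  obtain ⟨d₀, hd₀⟩ := exists_invPair hk hφ hη hop
  obtain ⟨e, heE, he1, hfix⟩ := exists_fixed_element hk hd₀ inf_le_right hA₁η hodd₁ hcop₁
  have heR := (mem_E hφ).1 heE
  obtain ⟨e', hem, ee, hke, hre⟩ := InRoot.exists_minimal hφ heR fun h => he1 (nil_eq_zero_iff.1 h)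
  obtain rfl := nil_injective ee
  have hop' : Opp e' η := (opp_congr hke hre rfl rfl).2 hop
  have hEe : sameActionSubgroup G e' = E := E_eq_of hke hre
  obtain ⟨d, hd⟩ := exists_invPair hk hem hη hop'
  -- the inverse is fixed
  have hdfix : ∀ a ∈ A₁, (a : M →ₗ[k] M) * d = d * (a : M →ₗ[k] M) := by
    intro a ha
    obtain ⟨f, -, ef⟩ := hd.inRoot.2.2.exists_elem
    have hfE : f ∈ sameActionSubgroup G η := (mem_E hη).2 (ef ▸ hd.inRoot)
    have hb := (mem_E hη).1 ((Subgroup.mem_normalizer_iff.1 (hA₁η ha) f).1 hfE)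
    rw [conj_val, ef] at hb
    set b := (a : M →ₗ[k] M) * d * ((a⁻¹ : LinearMap.GeneralLinearGroup k M) : M →ₗ[k] M) with hbdef
    have hae : (a : M →ₗ[k] M) * nil e' = nil e' * (a : M →ₗ[k] M) := by
      rw [nil, mul_sub, sub_mul, mul_one, one_mul, ← Units.val_mul, ← Units.val_mul, hfix a ha]
    have hai : ((a⁻¹ : LinearMap.GeneralLinearGroup k M) : M →ₗ[k] M) * nil e' =
        nil e' * ((a⁻¹ : LinearMap.GeneralLinearGroup k M) : M →ₗ[k] M) :=
      ((show Commute (a : M →ₗ[k] M) (nil e') from hae).units_inv_left).eq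
    have hebe : nil e' * b * nil e' = nil e' := by
      rw [hbdef, ← mul_assoc, ← mul_assoc, ← hae, mul_assoc _ _ (nil e'), hai, mul_assoc (a : M →ₗ[k] M),
        mul_assoc (a : M →ₗ[k] M), ← mul_assoc (nil e' * d), hd.zdz, ← mul_assoc, hae, mul_assoc,
        Units.mul_inv, mul_one]
    have hdne : d ≠ 0 := hd.ne
    obtain ⟨q1, q2⟩ := proj_of_inverse hη hem hop'.symm hd.inRoot hdne (inRoot_self hem.1)
      hd.dzd hd.zdz hb
    have hbd : b = d := by
      calc b = d * nil e' * b * (nil e' * d) := by rw [q1, q2]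
        _ = d * (nil e' * b * nil e') * d := by simp only [mul_assoc]
        _ = d := by rw [hebe, hd.dzd]
    conv_rhs => rw [← hbd, hbdef, mul_assoc, Units.inv_mul, mul_one]
  -- the homomorphism
  set D := pairData (k := k) (nil e') d hd.zz hd.dd hd.zdz hd.dzd with hD
  set ψ := D.hom with hψ
  have hgen : ∀ X : Subgroup (LinearMap.GeneralLinearGroup k M), (∀ s, D.x s ∈ X) → (∀ s, D.y s ∈ X) →
      ψ.range ≤ X := by
    intro X hx hy
    rw [MonoidHom.range_eq_map, ← SL2.lower_sup_upper, Subgroup.map_sup]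
    refine sup_le ?_ ?_ <;> rintro _ ⟨w, hw, rfl⟩
    · obtain ⟨s, rfl⟩ := SL2.mem_lower.1 hw
      rw [hψ, Steinberg.RootData.hom_L]; exact hy s
    · obtain ⟨s, rfl⟩ := SL2.mem_upper.1 hw
      rw [hψ, Steinberg.RootData.hom_U]; exact hx s
  have hxn : ∀ s, nil (D.x s) = s • nil e' := fun s => add_sub_cancel_left _ _
  have hyn : ∀ s, nil (D.y s) = s • d := fun s => add_sub_cancel_left _ _
  have hxE : ∀ s, D.x s ∈ sameActionSubgroup G e' := fun s =>
    (mem_E hem).2 (by rw [hxn]; exact (inRoot_self hem.1).smul s)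
  have hyE : ∀ s, D.y s ∈ sameActionSubgroup G η := fun s =>
    (mem_E hη).2 (by rw [hyn]; exact hd.inRoot.smul s)
  have hηc : sameActionSubgroup G η ∈ comp G E := hEe ▸ mem_comp_of_opp hk hem hη hop'
  have hψc : ψ.range ≤ compGroup G E := hgen _
    (fun s => le_compGroup (comp_self (E_mem_quadraticRootSubgroups hφ))
      (by have := hxE s; rwa [hEe] at this))
    fun s => le_compGroup hηc (hyE s)
  have hψfix : ψ.range ≤ Subgroup.centralizer (A₁ : Set (LinearMap.GeneralLinearGroup k M)) := by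
    refine hgen _ (fun s => Subgroup.mem_centralizer_iff.2 fun a ha => ?_)
      fun s => Subgroup.mem_centralizer_iff.2 fun a ha => ?_
    · refine Units.ext ?_
      rw [Units.val_mul, Units.val_mul, coe_eq_one_add (D.x s), hxn, mul_add, add_mul, mul_one,
        one_mul, mul_smul_comm, smul_mul_assoc]
      congr 2
      rw [nil, mul_sub, sub_mul, mul_one, one_mul, ← Units.val_mul, ← Units.val_mul, hfix a ha]
    · refine Units.ext ?_
      rw [Units.val_mul, Units.val_mul, coe_eq_one_add (D.y s), hyn, mul_add, add_mul, mul_one,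
        one_mul, mul_smul_comm, smul_mul_assoc, hdfix a ha]
  obtain ⟨Φ, hΦfix, hΦX, hΦker⟩ := exists_translate_prod ψ A (A₁.subgroupOf A)
    (fun a ha x => Subgroup.mem_centralizer_iff.1 (hψfix ⟨x, rfl⟩) _ ha)
    (fun a b hab x y => by
      have hmem : ∀ (c : A) (x), (c : LinearMap.GeneralLinearGroup k M) * ψ x *
          (c : LinearMap.GeneralLinearGroup k M)⁻¹ ∈ compGroup G (conjBy E c) := fun c x =>
        conjBy_compGroup_le hk (hAG c.2) (conj_mem_conjBy (hψc ⟨x, rfl⟩) _)
      have hne : comp G (conjBy E (a : LinearMap.GeneralLinearGroup k M)) ≠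
          comp G (conjBy E (b : LinearMap.GeneralLinearGroup k M)) := by
        intro heq
        have hb : conjBy E (b : LinearMap.GeneralLinearGroup k M) ∈
            comp G (conjBy E (a : LinearMap.GeneralLinearGroup k M)) := by
          rw [heq]
          exact comp_self (root_conj_of_normalizes hk (E_mem_quadraticRootSubgroups hφ) (hAG b.2))
        have h' := comp_conj_of_normalizes hk (hAG (A.inv_mem a.2)) hb
        rw [conjBy_inv_conjBy, conjBy_conjBy] at h'
        exact hab (Subgroup.mem_inf.2 ⟨(a⁻¹ * b).2, conjBy_eq_self_iff.1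
          (hsel _ (a⁻¹ * b).2 h')⟩)
      exact commutator_eq_bot_iff_comm.1 (comp_groups_commute hk.two hk.three hred hne) _
        (hmem a x) _ (hmem b y))
  -- the kernel is central
  let N : Subgroup (Matrix.SpecialLinearGroup (Fin 2) k) :=
    (Subgroup.center ψ.range).comap ψ.rangeRestrict
  have hNmem : ∀ {x}, x ∈ N ↔ ∀ y, ψ y * ψ x = ψ x * ψ y := by
    intro x
    simp only [N, Subgroup.mem_comap, Subgroup.mem_center_iff]
    exact ⟨fun h y => congrArg Subtype.val (h ⟨_, y, rfl⟩),
      fun h => by rintro ⟨_, y, rfl⟩; exact Subtype.ext (h y)⟩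
  have hNn : N.Normal := (inferInstance : (Subgroup.center ψ.range).Normal).comap _
  have hNc : N ≤ Subgroup.center _ := by
    rcases normal_dichotomy_top SL2.rankOneGroup N with hN | hN
    · exfalso
      obtain ⟨u, hu, l, hl, hul⟩ := Subgroup.mem_sup_of_normal_left.1
        (show SL2.U (1 : k) ∈ N ⊔ lowerUnipotentSL2 k by rw [hN]; trivial)
      obtain ⟨s, rfl⟩ := SL2.mem_lower.1 hl
      have hL : ψ (SL2.L s) * ψ (SL2.L 1) = ψ (SL2.L 1) * ψ (SL2.L s) := by
        rw [← map_mul, ← map_mul, SL2.L_mul, SL2.L_mul, add_comm]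
      have hcom : ψ (SL2.U 1) * ψ (SL2.L 1) = ψ (SL2.L 1) * ψ (SL2.U 1) := by
        rw [← hul, map_mul, mul_assoc, hL, ← mul_assoc, ← hNmem.1 hu (SL2.L 1), mul_assoc]
      rw [hψ, Steinberg.RootData.hom_U, Steinberg.RootData.hom_L, commute_iff_nil, hxn, hyn,
        one_smul, one_smul] at hcom
      rcases Opp.not_comm hem hη hop' (inRoot_self hem.1) hd.inRoot hcom with h | h
      · exact quad_ne hem.1.2.1 h
      · exact hd.ne h
    · exact hN
  have hker : Φ.ker ≤ Subgroup.center _ := fun x hx =>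
    hNc (hNmem.2 fun y => ((hΦker x hx y).eq).symm)
  have hΦC : Φ.range ≤ G ⊓ Subgroup.centralizer (A : Set (LinearMap.GeneralLinearGroup k M)) :=
    le_inf (hΦX G hAG (hψc.trans compGroup_le_G))
      (by rintro _ ⟨x, rfl⟩; exact Subgroup.mem_centralizer_iff.2 fun a ha => hΦfix a ha x)
  set Y := G ⊓ Subgroup.centralizer (A : Set (LinearMap.GeneralLinearGroup k M))
  set Φ' := Φ.codRestrict Y fun x => hΦC ⟨x, rfl⟩ with hΦ'
  have hker' : Φ'.ker ≤ Subgroup.center _ := by rw [hΦ', MonoidHom.ker_codRestrict]; exact hker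
  refine CfsgLib.ConjFunctor.involves_of_surjective_subgroup Φ'.range
    (((QuotientGroup.map Φ'.ker (Subgroup.center _) (MonoidHom.id _) hker').comp
      (QuotientGroup.quotientKerEquivRange Φ').symm.toMonoidHom)) fun y => ?_
  obtain ⟨x, rfl⟩ := QuotientGroup.mk'_surjective _ y
  refine ⟨QuotientGroup.quotientKerEquivRange Φ' (QuotientGroup.mk x), ?_⟩
  rw [MonoidHom.comp_apply, MulEquiv.coe_toMonoidHom, MulEquiv.symm_apply_apply]
  rfl

end CfsgLib.Flavell73
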