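import Cfsg.Agent.Flavell73.Radical
import Cfsg.Agent.RootSubgroups.QuadPairTheorems
import Cfsg.Agent.RootSubgroups.QuadComponents

/-!
A coprime group fixing a class fixes an opposite class.
-/

set_option autoImplicit false

namespace CfsgLib.Flavell73

open Cfsg CfsgLib.RootSubgroups CfsgLib.RootSubgroups.QuadPair

universe u

variable {k : Type u} [Field k] {p : ℕ} [hp : Fact p.Prime]
  {M : Type u} [AddCommGroup M] [Module k M] [FiniteDimensional k M]
  {G : Subgroup (LinearMap.GeneralLinearGroup k M)}
  {σ η τ : LinearMap.GeneralLinearGroup k M} {d : Module.End k M}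

variable (hk : PF k p)
include hk

/-- Opposite classes lie in the same component. -/
theorem mem_comp_of_opp (hσ : σ ∈ minimalQuadraticElements G) (hη : η ∈ minimalQuadraticElements G)
    (hop : Opp σ η) : sameActionSubgroup G η ∈ comp G (sameActionSubgroup G σ) :=
  ⟨E_mem_quadraticRootSubgroups hη, .single ⟨E_mem_quadraticRootSubgroups hσ,
    E_mem_quadraticRootSubgroups hη, rankOnePair hk.two hk.three hσ hη hop⟩⟩

/-- Normalisers of the group and of a class normalise the component group. -/
theorem mem_normalizer_compGroup {A : Subgroup (LinearMap.GeneralLinearGroup k M)}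
    {x : LinearMap.GeneralLinearGroup k M}
    (hx : x ∈ Subgroup.normalizer (G : Set (LinearMap.GeneralLinearGroup k M)))
    (hA : conjBy A x = A) :
    x ∈ Subgroup.normalizer (compGroup G A : Set (LinearMap.GeneralLinearGroup k M)) := by
  have key : ∀ y, y ∈ Subgroup.normalizer (G : Set (LinearMap.GeneralLinearGroup k M)) →
      conjBy A y = A → conjBy (compGroup G A) y ≤ compGroup G A := fun y hy hyA => by
    rw [compGroup, conjBy, Subgroup.map_iSup]
    simp only [Subgroup.map_iSup]
    exact iSup₂_le fun B hB => le_biSup (fun Z : Subgroup (LinearMap.GeneralLinearGroup k M) => Z)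
      (show conjBy B y ∈ comp G A from hyA ▸ comp_conj_of_normalizes hk hy hB)
  refine conjBy_eq_self_iff.1 (le_antisymm (key x hx hA) ?_)
  have := conjBy_mono (key x⁻¹ (inv_mem hx) (conjBy_inv_eq_self hA)) x
  rwa [conjBy_conjBy_inv] at this

omit hk hp in
theorem compGroup_le_G : compGroup G (sameActionSubgroup G σ) ≤ G :=
  compGroup_le_sup.trans sup_root_le

omit hk hp in
/-- Conjugation preserves opposition to a class fixed by the element. -/
theorem opp_conj_of_normalizes (hσ : σ ∈ minimalQuadraticElements G)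
    {x : LinearMap.GeneralLinearGroup k M}
    (hx : x ∈ Subgroup.normalizer (sameActionSubgroup G σ : Set (LinearMap.GeneralLinearGroup k M)))
    (hop : Opp σ η) : Opp σ (x * η * x⁻¹) := by
  obtain ⟨h1, h2⟩ := ker_range_of_normalizes hσ hx
  exact (opp_congr h1 h2 rfl rfl).1 (hop.conj x)

/-- A solvable `p'`-group fixing a class fixes an opposite one. -/
theorem exists_fixed_partner (hred : Reduced G) (hσ : σ ∈ minimalQuadraticElements G)
    {A : Subgroup (LinearMap.GeneralLinearGroup k M)}
    (hAG : A ≤ Subgroup.normalizer (G : Set (LinearMap.GeneralLinearGroup k M)))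
    (hAE : A ≤ Subgroup.normalizer (sameActionSubgroup G σ : Set (LinearMap.GeneralLinearGroup k M)))
    (hA : Group.IsSolvable A) (hcop : (Nat.card A).Coprime p) :
    ∃ η ∈ minimalQuadraticElements G, Opp σ η ∧
      A ≤ Subgroup.normalizer (sameActionSubgroup G η : Set (LinearMap.GeneralLinearGroup k M)) := by
  have := hk.finiteGL (M := M)
  set E := sameActionSubgroup G σ with hE
  set V := compGroup G E ⊓ coreGroup σ with hV
  have hVp : IsPGroup p V := (isPGroup_coreGroup hk).to_le inf_le_right
  have hAV : A ≤ Subgroup.normalizer (V : Set (LinearMap.GeneralLinearGroup k M)) := fun a ha =>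
    Subgroup.inf_normalizer_le_normalizer_inf
      ⟨mem_normalizer_compGroup hk (hAG ha) (conjBy_eq_self_iff.2 (hAE ha)),
        normalizer_E_le_coreGroup hσ (hAE ha)⟩
  have hcopV : (Nat.card A).Coprime (Nat.card V) := by
    obtain ⟨n, hn⟩ := IsPGroup.iff_card.1 hVp
    rw [hn]; exact hcop.pow_right n
  letI : MulAction (LinearMap.GeneralLinearGroup k M) (Subgroup (LinearMap.GeneralLinearGroup k M)) :=
    { smul := fun a T => conjBy T a
      one_smul := conjBy_one
      mul_smul := fun a b T => (conjBy_conjBy T b a).symm }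
  let s : Set (Subgroup (LinearMap.GeneralLinearGroup k M)) :=
    {T | ∃ η ∈ minimalQuadraticElements G, Opp σ η ∧ sameActionSubgroup G η = T}
  obtain ⟨g, hg, hop₀⟩ := exists_opp hk.two hk.three hred hσ
  obtain ⟨T, ⟨η, hη, hop, rfl⟩, hfix⟩ := CfsgLib.Coprime.exists_fixed_of_transitive hAV hcopV
    (Or.inl hA) s ⟨_, _, conj_minimal hσ hg, hop₀, rfl⟩
    (by
      rintro a ha _ ⟨η, hη, hop, rfl⟩
      exact ⟨_, minimal_conj_of_normalizes hk hη (hAG ha), opp_conj_of_normalizes hσ (hAE ha) hop,
        (conjBy_E_of_normalizes hk (hAG ha)).symm⟩)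
    (by
      rintro v hv _ ⟨η, hη, hop, rfl⟩
      have hvG : v ∈ G := compGroup_le_G hv.1
      refine ⟨_, conj_minimal hη hvG, ?_, (conjBy_E hη hvG).symm⟩
      have := hop.conj v
      rwa [show v * σ * v⁻¹ = σ by
        rw [← commute_coreGroup hσ (minimal_mem_E hσ) hv.2, mul_assoc, mul_inv_cancel, mul_one]] at this)
    (by
      rintro _ ⟨η, hη, hop, rfl⟩ _ ⟨η', hη', hop', rfl⟩
      obtain ⟨d, hd⟩ := exists_invPair hk hσ hη hop
      obtain ⟨u, hu, huX, e⟩ := exists_conj_opp hk hd hη' hop' compGroup_le_G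
        (le_compGroup (comp_self (E_mem_quadraticRootSubgroups hσ)))
        (le_compGroup (mem_comp_of_opp hk hσ hη hop)) (le_compGroup (mem_comp_of_opp hk hσ hη' hop'))
      exact ⟨u, ⟨huX, hu⟩, e⟩)
  exact ⟨η, hη, hop, fun a ha => conjBy_eq_self_iff.1 (hfix a ha)⟩

end CfsgLib.Flavell73
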