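import Cfsg.Agent.Flavell73.RootConj

/-!
The unipotent group attached to a class of minimal elements: it is transitive on the opposite classes.
-/

set_option autoImplicit false

namespace CfsgLib.Flavell73

open Cfsg CfsgLib.RootSubgroups CfsgLib.RootSubgroups.QuadPair

universe u

variable {k : Type u} [Field k] {p : ℕ} [hp : Fact p.Prime]
  {M : Type u} [AddCommGroup M] [Module k M] [FiniteDimensional k M]
  {G : Subgroup (LinearMap.GeneralLinearGroup k M)}
  {σ η τ : LinearMap.GeneralLinearGroup k M} {d : Module.End k M}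

omit [FiniteDimensional k M] in
theorem core_apply_range {z a : Module.End k M} (h : Core z a) (x : M) : a (z x) = 0 :=
  LinearMap.congr_fun h.right x

omit [FiniteDimensional k M] in
theorem core_range_ker {z a : Module.End k M} (h : Core z a) (x : M) : z (a x) = 0 :=
  LinearMap.congr_fun h.left x

/-- The elements moving the flag of `σ` one step down. -/
noncomputable def coreGroup (σ : LinearMap.GeneralLinearGroup k M) :
    Subgroup (LinearMap.GeneralLinearGroup k M) where
  carrier := {g | Core (nil σ) (nil g)}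
  one_mem' := ⟨by rw [nil_one, mul_zero], by rw [nil_one, zero_mul],
    fun m _ => by rw [nil_one]; exact zero_mem _⟩
  mul_mem' := fun {g g'} hg hg' => by
    refine ⟨?_, ?_, fun m hm => ?_⟩
    · rw [nil_mul, mul_add, mul_add, hg.left, hg'.left, ← mul_assoc, hg.left, zero_mul]; simp
    · rw [nil_mul, add_mul, add_mul, hg.right, hg'.right, mul_assoc, hg'.right, mul_zero]; simp
    · rw [nil_mul, LinearMap.add_apply, LinearMap.add_apply, Module.End.mul_apply]
      have hg₁ : Core (nil σ) (nil g) := hg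
      have hg₂ : Core (nil σ) (nil g') := hg'
      obtain ⟨x, hx⟩ := hg₂.step m hm
      refine add_mem (add_mem (hg₁.step m hm) (hg₂.step m hm)) ?_
      rw [← hx, core_apply_range hg]
      exact zero_mem _
  inv_mem' := fun {g} hg => by
    have e1 : nil g⁻¹ = -(((g⁻¹ : LinearMap.GeneralLinearGroup k M) : M →ₗ[k] M) * nil g) := by
      rw [nil, nil, mul_sub, Units.inv_mul, mul_one, neg_sub]
    have e2 : nil g⁻¹ = -(nil g * ((g⁻¹ : LinearMap.GeneralLinearGroup k M) : M →ₗ[k] M)) := by
      rw [nil, nil, sub_mul, Units.mul_inv, one_mul, neg_sub]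
    refine ⟨?_, ?_, fun m hm => ?_⟩
    · rw [e2, mul_neg, ← mul_assoc, hg.left, zero_mul, neg_zero]
    · rw [e1, neg_mul, mul_assoc, hg.right, mul_zero, neg_zero]
    · obtain ⟨x, hx⟩ := (show Core (nil σ) (nil g) from hg).step m hm
      rw [e1, LinearMap.neg_apply, Module.End.mul_apply]
      refine neg_mem ⟨x, ?_⟩
      rw [← hx]
      have hfix : (g : M →ₗ[k] M) (nil σ x) = nil σ x := by
        rw [coe_eq_one_add g, LinearMap.add_apply, core_apply_range hg, add_zero, Module.End.one_apply]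
      conv_rhs => rw [← hfix, coe_inv_apply]

omit [FiniteDimensional k M] in
theorem mem_coreGroup {g : LinearMap.GeneralLinearGroup k M} :
    g ∈ coreGroup σ ↔ Core (nil σ) (nil g) := Iff.rfl

omit [FiniteDimensional k M] in
/-- The condition only depends on the kernel and the commutator space. -/
theorem coreGroup_congr {σ' : LinearMap.GeneralLinearGroup k M}
    (hk : LinearMap.ker (nil σ') = LinearMap.ker (nil σ)) (hr : cspace σ' = cspace σ) :
    coreGroup σ' = coreGroup σ := by
  have key : ∀ {s s' : LinearMap.GeneralLinearGroup k M}, LinearMap.ker (nil s') = LinearMap.ker (nil s) →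
      cspace s' = cspace s → ∀ {a : Module.End k M}, Core (nil s) a → Core (nil s') a := by
    intro s s' hk hr a h
    refine ⟨LinearMap.ext fun m => ?_, LinearMap.ext fun m => ?_, fun m hm => ?_⟩
    · show nil s' (a m) = 0
      rw [← LinearMap.mem_ker, hk]; exact core_range_ker h m
    · obtain ⟨x, hx⟩ : nil s' m ∈ cspace s := hr ▸ ⟨m, rfl⟩
      show a (nil s' m) = 0
      rw [← hx]; exact core_apply_range h x
    · rw [← LinearMap.mem_ker, hk] at hm
      show a m ∈ cspace s'
      rw [hr]; exact h.step m hm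
  ext g
  exact ⟨key hk.symm hr.symm, key hk hr⟩

omit [FiniteDimensional k M] in
theorem coreGroup_conj (x : LinearMap.GeneralLinearGroup k M) {g : LinearMap.GeneralLinearGroup k M}
    (hg : g ∈ coreGroup σ) : x * g * x⁻¹ ∈ coreGroup (x * σ * x⁻¹) := by
  refine ⟨?_, ?_, fun m hm => ?_⟩
  · rw [conj_val, conj_val]
    simp only [mul_assoc, Units.inv_mul_cancel_left]
    rw [← mul_assoc (nil σ), hg.left, zero_mul, mul_zero]
  · rw [conj_val, conj_val]
    simp only [mul_assoc, Units.inv_mul_cancel_left]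
    rw [← mul_assoc (nil g), hg.right, zero_mul, mul_zero]
  · rw [← LinearMap.mem_ker, conj_ker, Submodule.mem_comap, LinearMap.mem_ker] at hm
    show _ ∈ cspace (x * σ * x⁻¹)
    rw [conj_range, conj_val, Module.End.mul_apply, Module.End.mul_apply]
    exact Submodule.mem_map_of_mem ((show Core (nil σ) (nil g) from hg).step _ hm)

theorem conj_mem_coreGroup (hσ : σ ∈ minimalQuadraticElements G) {x g : LinearMap.GeneralLinearGroup k M}
    (hx : x ∈ Subgroup.normalizer (sameActionSubgroup G σ : Set (LinearMap.GeneralLinearGroup k M)))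
    (hg : g ∈ coreGroup σ) : x * g * x⁻¹ ∈ coreGroup σ := by
  obtain ⟨h1, h2⟩ := ker_range_of_normalizes hσ hx
  exact coreGroup_congr h1 h2 ▸ coreGroup_conj x hg

theorem normalizer_E_le_coreGroup (hσ : σ ∈ minimalQuadraticElements G) :
    Subgroup.normalizer (sameActionSubgroup G σ : Set (LinearMap.GeneralLinearGroup k M)) ≤
      Subgroup.normalizer (coreGroup σ : Set (LinearMap.GeneralLinearGroup k M)) :=
  le_normalizer_of_forall fun _ hx _ hg => conj_mem_coreGroup hσ hx hg

theorem core_inRoot (hσ : σ ∈ minimalQuadraticElements G) {a : Module.End k M} (ha : InRoot G σ a) :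
    Core (nil σ) a :=
  ⟨InRoot.mul_eq_zero hσ (inRoot_self hσ.1) ha, InRoot.mul_eq_zero hσ ha (inRoot_self hσ.1),
    fun m hm => by rw [show a m = 0 from ha.1 hm]; exact zero_mem _⟩

theorem E_le_coreGroup (hσ : σ ∈ minimalQuadraticElements G) :
    sameActionSubgroup G σ ≤ coreGroup σ := fun _ hg => core_inRoot hσ ((mem_E hσ).1 hg)

/-- The class commutes with the group. -/
theorem commute_coreGroup (hσ : σ ∈ minimalQuadraticElements G)
    {e g : LinearMap.GeneralLinearGroup k M} (he : e ∈ sameActionSubgroup G σ)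
    (hg : g ∈ coreGroup σ) : e * g = g * e := by
  have hc := (mem_E hσ).1 he
  refine commute_iff_nil.2 ?_
  obtain ⟨h1, h2⟩ := Core.kill hg hc
  rw [h1, h2]

/-- Products of two lowering maps vanish on the kernel and fall into the commutator space. -/
theorem core_mul {z a b : Module.End k M} (ha : Core z a) (hb : Core z b) :
    LinearMap.ker z ≤ LinearMap.ker (a * b) ∧ LinearMap.range (a * b) ≤ LinearMap.range z := by
  refine ⟨fun m hm => ?_, ?_⟩
  · obtain ⟨x, hx⟩ := hb.step m hm
    show a (b m) = 0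
    rw [← hx, core_apply_range ha]
  · rintro _ ⟨m, rfl⟩
    exact ha.step _ (core_range_ker hb m)

omit [FiniteDimensional k M] in
theorem nil_cube {g : LinearMap.GeneralLinearGroup k M} (hg : g ∈ coreGroup σ) : nil g ^ 3 = 0 := by
  refine LinearMap.ext fun m => ?_
  obtain ⟨x, hx⟩ := (show Core (nil σ) (nil g) from hg).step _ (core_range_ker hg m)
  show nil g (nil g (nil g m)) = 0
  rw [← hx, core_apply_range hg]

variable (hk : PF k p)
include hk

theorem isPGroup_coreGroup : IsPGroup p (coreGroup σ) :=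
  isPGroup_of_nilpotent hk fun _ hg => ⟨3, nil_cube hg⟩

/-- Commutators in the group lie in the class. -/
theorem commutator_mem_E (hσ : σ ∈ minimalQuadraticElements G) {g g' : LinearMap.GeneralLinearGroup k M}
    (hg : g ∈ coreGroup σ) (hg' : g' ∈ coreGroup σ) (hmem : g * g' * g⁻¹ * g'⁻¹ ∈ G) :
    g * g' * g⁻¹ * g'⁻¹ ∈ sameActionSubgroup G σ := by
  set x : LinearMap.GeneralLinearGroup k M := (g' * g)⁻¹ with hx
  have hxU : Core (nil σ) (nil x) := (coreGroup σ).inv_mem ((coreGroup σ).mul_mem hg' hg)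
  have e : nil (g * g' * g⁻¹ * g'⁻¹) = (nil g * nil g' - nil g' * nil g) * (x : M →ₗ[k] M) := by
    rw [show g * g' * g⁻¹ * g'⁻¹ = g * g' * x by rw [hx]; group, nil, Units.val_mul,
      ← Units.mul_inv (g' * g), ← hx, ← sub_mul, coe_eq_one_add (g * g'), coe_eq_one_add (g' * g),
      nil_mul, nil_mul]
    congr 1
    abel
  refine (mem_E hσ).2 (inRoot_of_mem hk hσ hmem (fun m hm => ?_) ?_)
  · rw [e, LinearMap.mem_ker, Module.End.mul_apply]
    have hm' : (x : M →ₗ[k] M) m ∈ LinearMap.ker (nil σ) := by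
      rw [coe_eq_one_add x, LinearMap.add_apply]
      exact add_mem hm (core_range_ker hxU m)
    rw [LinearMap.sub_apply, show (nil g * nil g') ((x : M →ₗ[k] M) m) = 0 from (core_mul hg hg').1 hm',
      show (nil g' * nil g) ((x : M →ₗ[k] M) m) = 0 from (core_mul hg' hg).1 hm', sub_zero]
  · rw [e]
    rintro _ ⟨m, rfl⟩
    exact sub_mem ((core_mul hg hg').2 ⟨_, rfl⟩) ((core_mul hg' hg).2 ⟨_, rfl⟩)

/-- The torus element of an inverse pair. -/
theorem exists_torus (h : InvPair G σ η d) :
    ∃ t ∈ sameActionSubgroup G σ ⊔ sameActionSubgroup G η,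
      nil t = nil σ * d - (2 : k)⁻¹ • (d * nil σ) ∧ t ^ (p - 1) = 1 := by
  set z := nil σ with hz
  have hzz : z * z = 0 := h.zz
  have hdd : d * d = 0 := h.dd
  have h2 : (2 : k) ≠ 0 := Ring.two_ne_zero hk.two
  have hzdz : z * (d * z) = z := by rw [← mul_assoc]; exact h.zdz
  have hdzd : d * (z * d) = d := by rw [← mul_assoc]; exact h.dzd
  have hzz' : ∀ w, z * (z * w) = 0 := fun w => by rw [← mul_assoc, hzz, zero_mul]
  have hdd' : ∀ w, d * (d * w) = 0 := fun w => by rw [← mul_assoc, hdd, zero_mul]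
  have hzdz' : ∀ w, z * (d * (z * w)) = z * w := fun w => by
    rw [← mul_assoc d, ← mul_assoc, hzdz]
  have hdzd' : ∀ w, d * (z * (d * w)) = d * w := fun w => by
    rw [← mul_assoc z, ← mul_assoc, hdzd]
  have hE : ∀ c : k, ∃ g ∈ sameActionSubgroup G σ, nil g = c • z := fun c => by
    obtain ⟨g, -, e⟩ := ((inRoot_self h.minζ.1).smul c).2.2.exists_elem
    exact ⟨g, (mem_E h.minζ).2 (e ▸ (inRoot_self h.minζ.1).smul c), e⟩
  have hF : ∀ c : k, ∃ g ∈ sameActionSubgroup G η, nil g = c • d := fun c => by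
    obtain ⟨g, -, e⟩ := (h.inRoot.smul c).2.2.exists_elem
    exact ⟨g, (mem_E h.minη).2 (e ▸ h.inRoot.smul c), e⟩
  have hw : ∀ s : k, s ≠ 0 → ∃ w ∈ sameActionSubgroup G σ ⊔ sameActionSubgroup G η,
      nil w = s • z - s⁻¹ • d - z * d - d * z := by
    intro s hs
    obtain ⟨g, hg, eg⟩ := hE s
    obtain ⟨f, hf, ef⟩ := hF (-s⁻¹)
    refine ⟨g * f * g, mul_mem (mul_mem (Subgroup.mem_sup_left hg) (Subgroup.mem_sup_right hf))
      (Subgroup.mem_sup_left hg), ?_⟩
    rw [nil_mul, nil_mul, eg, ef]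
    simp only [smul_mul_assoc, mul_smul_comm, smul_smul, mul_add, add_mul, mul_assoc, hzz, hdd,
      hzdz, hdzd, smul_zero, add_zero]
    rw [show -s⁻¹ * s = -1 by rw [neg_mul, inv_mul_cancel₀ hs]]
    simp only [mul_neg, neg_mul, mul_one, one_mul, neg_smul, one_smul,
      mul_inv_cancel₀ hs, inv_mul_cancel₀ hs]
    match_scalars <;> field_simp <;> ring
  obtain ⟨w, hwX, ew⟩ := hw 2 h2
  obtain ⟨w', hw'X, ew'⟩ := hw (-1) (by simp)
  have e0 : nil (w * w') = z * d - (2 : k)⁻¹ • (d * z) := by
    rw [nil_mul, ew, ew']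
    simp only [inv_neg, inv_one, neg_smul, one_smul, sub_mul, mul_sub, neg_mul, mul_neg,
      smul_mul_assoc, mul_smul_comm, mul_assoc, hzz, hdd, hzdz, hdzd, hzz', hdd', hzdz', hdzd',
      smul_zero, mul_zero, sub_zero, zero_sub, neg_neg, neg_zero, add_zero, zero_add]
    match_scalars <;> field_simp <;> norm_num
  refine ⟨w * w', mul_mem hwX hw'X, e0, ?_⟩
  have key : ∀ n : ℕ, nil ((w * w') ^ n) =
      ((2 : k) ^ n - 1) • (z * d) + ((2 : k)⁻¹ ^ n - 1) • (d * z) := by
    intro n
    induction n with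
    | zero => simp [nil_one]
    | succ n ih =>
      rw [pow_succ, nil_mul, ih, e0]
      simp only [add_mul, mul_sub, smul_mul_assoc, mul_smul_comm, mul_assoc, hzdz', hdd', hzz',
        hdzd', smul_zero, mul_zero, add_zero, zero_add, sub_zero, zero_sub, smul_neg]
      match_scalars <;> simp only [pow_succ, inv_pow] <;> field_simp <;> ring
  refine nil_eq_zero_iff.1 ?_
  rw [key]
  have := hk.finite
  have := Fintype.ofFinite k
  have hone : ∀ c : k, c ≠ 0 → c ^ (p - 1) = 1 := fun c hc => by
    rw [← hk.card, Nat.card_eq_fintype_card]; exact FiniteField.pow_card_sub_one_eq_one c hc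
  rw [hone _ h2, hone _ (inv_ne_zero h2), sub_self, zero_smul, zero_smul, add_zero]

omit hk hp in
/-- The map from one inverse to the other. -/
theorem exists_transporter (h : InvPair G σ η d) {b : Module.End k M}
    (h' : InvPair G σ τ b) :
    ∃ u ∈ coreGroup σ, (u : M →ₗ[k] M) * d = b * (u : M →ₗ[k] M) ∧
      (u : M →ₗ[k] M) * nil σ = nil σ ∧ nil σ * (u : M →ₗ[k] M) = nil σ := by
  set z := nil σ with hz
  have hzz : z * z = 0 := h.zz
  have hdd : d * d = 0 := h.dd
  have hbb : b * b = 0 := h'.dd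
  have hzdz : z * (d * z) = z := by rw [← mul_assoc]; exact h.zdz
  have hdzd : d * (z * d) = d := by rw [← mul_assoc]; exact h.dzd
  have hzbz : z * (b * z) = z := by rw [← mul_assoc]; exact h'.zdz
  have hbzb : b * (z * b) = b := by rw [← mul_assoc]; exact h'.dzd
  have hzz' : ∀ w, z * (z * w) = 0 := fun w => by rw [← mul_assoc, hzz, zero_mul]
  have hdd' : ∀ w, d * (d * w) = 0 := fun w => by rw [← mul_assoc, hdd, zero_mul]
  have hbb' : ∀ w, b * (b * w) = 0 := fun w => by rw [← mul_assoc, hbb, zero_mul]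
  have hzdz' : ∀ w, z * (d * (z * w)) = z * w := fun w => by
    rw [← mul_assoc d, ← mul_assoc, hzdz]
  have hdzd' : ∀ w, d * (z * (d * w)) = d * w := fun w => by
    rw [← mul_assoc z, ← mul_assoc, hdzd]
  have hzbz' : ∀ w, z * (b * (z * w)) = z * w := fun w => by
    rw [← mul_assoc b, ← mul_assoc, hzbz]
  have hbzb' : ∀ w, b * (z * (b * w)) = b * w := fun w => by
    rw [← mul_assoc z, ← mul_assoc, hbzb]
  set e0 : Module.End k M := 1 - z * d - d * z with he0
  set N : Module.End k M := b * z - d * z - z * b * e0 with hN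
  have hcore : Core z N := by
    refine ⟨?_, ?_, fun m hm => ?_⟩
    · rw [hN]; simp only [mul_sub, mul_assoc, hzbz, hzdz, hzz', sub_self, sub_zero]
    · rw [hN, he0]
      simp only [sub_mul, mul_sub, mul_assoc, one_mul, mul_one, hzz, mul_zero, hzdz, sub_self,
        sub_zero]
    · rw [hN]
      refine ⟨-(b (e0 m)), ?_⟩
      simp only [LinearMap.sub_apply, Module.End.mul_apply, show z m = 0 from hm, map_zero, map_neg,
        sub_zero, zero_sub]
  have hN3 : N * N * N = 0 := by
    refine LinearMap.ext fun m => ?_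
    obtain ⟨x, hx⟩ := hcore.step _ (core_range_ker hcore m)
    show N (N (N m)) = 0
    rw [← hx, core_apply_range hcore]
  let u : LinearMap.GeneralLinearGroup k M :=
    ⟨1 + N, 1 - N + N * N, by
      calc (1 + N) * (1 - N + N * N) = 1 + N * N * N := by noncomm_ring
        _ = 1 := by rw [hN3, add_zero], by
      calc (1 - N + N * N) * (1 + N) = 1 + N * N * N := by noncomm_ring
        _ = 1 := by rw [hN3, add_zero]⟩
  have hu : nil u = N := add_sub_cancel_left 1 N
  refine ⟨u, show Core z (nil u) by rw [hu]; exact hcore, ?_, ?_, ?_⟩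
  · show (1 + N) * d = b * (1 + N)
    rw [hN, he0]
    simp only [mul_add, add_mul, sub_mul, mul_sub, mul_assoc, one_mul, mul_one, hdd, hbb', hbzb',
      hbzb, hdzd, hdzd', hdd', mul_zero, sub_zero]
    abel
  · show (1 + N) * z = z
    rw [add_mul, one_mul, hcore.right, add_zero]
  · show z * (1 + N) = z
    rw [mul_add, mul_one, hcore.left, add_zero]

/-- An inverse of `σ - 1` in an opposite class. -/
theorem exists_invPair (hσ : σ ∈ minimalQuadraticElements G) (hτ : τ ∈ minimalQuadraticElements G)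
    (hop : Opp σ τ) : ∃ b, InvPair G σ τ b := by
  obtain ⟨b, hb, hb0, h1, h2⟩ :=
    exists_inverse hk.two hk.three hσ hτ hop (inRoot_self hσ.1) (quad_ne hσ.1.2.1)
  exact ⟨b, hσ, hτ, hop, hb, hb0, h1, h2⟩

/-- Transitivity on the opposite classes, with the transporter in any group containing the three
classes. -/
theorem exists_conj_opp (h : InvPair G σ η d) (hτ : τ ∈ minimalQuadraticElements G) (hop : Opp σ τ)
    {X : Subgroup (LinearMap.GeneralLinearGroup k M)} (hXG : X ≤ G)
    (hσX : sameActionSubgroup G σ ≤ X) (hηX : sameActionSubgroup G η ≤ X)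
    (hτX : sameActionSubgroup G τ ≤ X) :
    ∃ u ∈ coreGroup σ, u ∈ X ∧ conjBy (sameActionSubgroup G η) u = sameActionSubgroup G τ := by
  have := hk.finiteGL (M := M)
  obtain ⟨b, h'⟩ := exists_invPair hk h.minζ hτ hop
  obtain ⟨u, hu, hud, huz, hzu⟩ := exists_transporter h h'
  obtain ⟨t, htL, et, htp⟩ := exists_torus hk h
  obtain ⟨t', ht'L, et', -⟩ := exists_torus hk h'
  set z := nil σ with hz
  have htX : t ∈ X := sup_le hσX hηX htL
  have ht'X : t' ∈ X := sup_le hσX hτX ht'L
  -- conjugation takes one torus element to the other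
  have hconj : u * t * u⁻¹ = t' := by
    refine nil_injective ?_
    rw [conj_val, et, et']
    have e1 : (u : M →ₗ[k] M) * (z * d) = z * b * (u : M →ₗ[k] M) := by
      rw [← mul_assoc, huz]
      conv_lhs => rw [← hzu, mul_assoc, hud]
      rw [mul_assoc]
    have e2 : (u : M →ₗ[k] M) * (d * z) = b * z * (u : M →ₗ[k] M) := by
      rw [← mul_assoc, hud, mul_assoc, huz, mul_assoc, hzu]
    rw [mul_sub, mul_smul_comm, e1, e2, sub_mul, smul_mul_assoc, mul_assoc, Units.mul_inv, mul_one,
      mul_assoc, Units.mul_inv, mul_one]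
  have htz : (t : M →ₗ[k] M) * z * ((t⁻¹ : LinearMap.GeneralLinearGroup k M) : M →ₗ[k] M) =
      ((2 : k) * 2) • z := by
    have h1 : (t : M →ₗ[k] M) * z = (2 : k) • z := by
      rw [coe_eq_one_add t, et, add_mul, one_mul, sub_mul, smul_mul_assoc, h.zdz, mul_assoc d,
        h.zz, mul_zero, smul_zero, sub_zero, two_smul]
    have h2 : z * (t : M →ₗ[k] M) = (2 : k)⁻¹ • z := by
      rw [coe_eq_one_add t, et, mul_add, mul_one, mul_sub, mul_smul_comm, ← mul_assoc, h.zz,
        zero_mul, ← mul_assoc, h.zdz, zero_sub]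
      nth_rewrite 1 [← one_smul k z]
      rw [← sub_eq_add_neg, ← sub_smul]
      congr 1
      have := Ring.two_ne_zero hk.two
      field_simp; norm_num
    have h3 : z = (2 : k) • (z * (t : M →ₗ[k] M)) := by
      rw [h2, smul_smul, mul_inv_cancel₀ (Ring.two_ne_zero hk.two), one_smul]
    conv_lhs => rw [h1, h3, smul_smul, smul_mul_assoc, mul_assoc, Units.mul_inv, mul_one]
  have htN : t ∈ Subgroup.normalizer (sameActionSubgroup G σ : Set (LinearMap.GeneralLinearGroup k M)) := by
    rw [← cnj_eq_iff]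
    show conjBy _ t = _
    rw [conjBy_E h.minζ (hXG htX)]
    have e : nil (t * σ * t⁻¹) = ((2 : k) * 2) • z := by rw [conj_val, htz]
    have h4 : ((2 : k) * 2) ≠ 0 :=
      mul_ne_zero (Ring.two_ne_zero hk.two) (Ring.two_ne_zero hk.two)
    exact E_eq_of (by rw [e, LinearMap.ker_smul _ _ h4])
      (by show LinearMap.range _ = LinearMap.range _; rw [e, LinearMap.range_smul _ _ h4])
  set V := X ⊓ coreGroup σ with hV
  have hVp : IsPGroup p V := (isPGroup_coreGroup hk).to_le inf_le_right
  have hTV : Subgroup.zpowers t ≤ Subgroup.normalizer (V : Set (LinearMap.GeneralLinearGroup k M)) :=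
    Subgroup.zpowers_le.2 (Subgroup.inf_normalizer_le_normalizer_inf
      ⟨Subgroup.le_normalizer htX, normalizer_E_le_coreGroup h.minζ htN⟩)
  have hcop : (Nat.card (Subgroup.zpowers t)).Coprime (Nat.card V) := by
    obtain ⟨n, hn⟩ := IsPGroup.iff_card.1 hVp
    rw [hn, Nat.card_zpowers]
    refine (Nat.Coprime.coprime_dvd_left (orderOf_dvd_of_pow_eq_one htp) ?_).pow_right n
    have := hk.big
    exact ((Nat.Prime.coprime_iff_not_dvd hp.out).2 fun hd => by
      have := Nat.le_of_dvd (by omega) hd; omega).symm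
  have hsolv : Group.IsSolvable (Subgroup.zpowers t) :=
    Group.isSolvable_of_comm fun x y => Std.Commutative.comm x y
  have hx : u * t * u⁻¹ * t⁻¹ ∈ V := by
    refine Subgroup.mem_inf.2 ⟨mul_mem (hconj ▸ ht'X) (inv_mem htX), ?_⟩
    rw [show u * t * u⁻¹ * t⁻¹ = u * (t * u⁻¹ * t⁻¹) by group]
    exact mul_mem hu (conj_mem_coreGroup h.minζ htN (inv_mem hu))
  obtain ⟨c, hc, hcV⟩ := CfsgLib.Coprime.exists_fixed_mem_coset (k := u⁻¹) hTV hcop (Or.inl hsolv) (by
    rintro a ⟨i, rfl⟩
    have hz' : u * t ^ i * u⁻¹ = t' ^ i := by rw [← hconj, conj_zpow]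
    refine Subgroup.mem_inf.2 ⟨?_, ?_⟩
    · rw [show u⁻¹⁻¹ * (t ^ i * u⁻¹ * (t ^ i)⁻¹) = u * t ^ i * u⁻¹ * (t ^ i)⁻¹ by group, hz']
      exact mul_mem (X.zpow_mem ht'X i) (inv_mem (X.zpow_mem htX i))
    · rw [inv_inv]
      exact mul_mem hu (conj_mem_coreGroup h.minζ ((Subgroup.normalizer _).zpow_mem htN i) (inv_mem hu)))
  rw [inv_inv] at hcV
  -- a fixed element is trivial
  have hcU : c ∈ coreGroup σ := by
    have := mul_mem (inv_mem hu) hcV.2
    simpa using this
  have hc1 : c = 1 := by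
    refine nil_eq_zero_iff.1 ?_
    set N := nil c
    have hcomm : N * (z * d - (2 : k)⁻¹ • (d * z)) = (z * d - (2 : k)⁻¹ • (d * z)) * N := by
      rw [← et]
      exact commute_iff_nil.1 (Subgroup.mem_centralizer_iff.1 hc t (Subgroup.mem_zpowers t)).symm
    have hzN : z * N = 0 := hcU.left
    have hNz : N * z = 0 := hcU.right
    rw [mul_sub, sub_mul, mul_smul_comm, smul_mul_assoc, ← mul_assoc N, hNz, zero_mul, zero_sub,
      mul_assoc d, hzN, mul_zero, smul_zero, sub_zero] at hcomm
    -- hcomm : -(2⁻¹ • (N * (d * z))) = z * d * N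
    have e1 : z * d * N * (d * z) = -((2 : k)⁻¹ • (N * (d * z))) := by
      rw [← hcomm, neg_mul, smul_mul_assoc, mul_assoc N,
        show d * z * (d * z) = d * z by rw [← mul_assoc, h.dzd]]
    have hN0 : z * d * N = 0 := by
      have e3 : z * d * N * (d * z) = z * d * N := e1.trans hcomm
      have e4 : z * d * (z * d * N) = z * d * N := by rw [← mul_assoc, ← mul_assoc, h.zdz]
      have e5 : z * d * (N * (d * z)) = z * d * N := by rw [← mul_assoc]; exact e3
      have h6 := congrArg (z * d * ·) hcomm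
      simp only [mul_neg, mul_smul_comm, e4, e5] at h6
      have h2 := Ring.two_ne_zero hk.two
      have h7 : ((2 : k)⁻¹ + 1) • (z * d * N) = 0 := by
        rw [add_smul, one_smul, ← neg_eq_iff_add_eq_zero]; exact h6
      refine (smul_eq_zero.1 h7).resolve_left fun h8 => ?_
      have h9 : (3 : k) = 0 := by
        have := congrArg ((2 : k) * ·) h8
        simp only [mul_add, mul_inv_cancel₀ h2, mul_one, mul_zero] at this
        rw [← this]; norm_num
      have := hk.charP
      have hd := (CharP.cast_eq_zero_iff k p 3).1 (by exact_mod_cast h9)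
      have := Nat.le_of_dvd (by omega) hd
      have := hk.big
      omega
    have hNdz : N * (d * z) = 0 := by
      rw [hN0, neg_eq_zero] at hcomm
      exact (smul_eq_zero.1 hcomm).resolve_left (inv_ne_zero (Ring.two_ne_zero hk.two))
    refine LinearMap.ext fun m => ?_
    have hm : z (m - d (z m)) = 0 := by
      rw [map_sub, sub_eq_zero]; exact (LinearMap.congr_fun h.zdz m).symm
    obtain ⟨x, hx⟩ := (show Core z N from hcU).step _ hm
    have e : N (d (z m)) = 0 := LinearMap.congr_fun hNdz m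
    rw [map_sub, e, sub_zero] at hx
    have hfix : (z * d) (z x) = z x := LinearMap.congr_fun h.zdz x
    rw [LinearMap.zero_apply, ← hx, ← hfix, hx]
    exact LinearMap.congr_fun hN0 m
  rw [hc1, mul_one] at hcV
  refine ⟨u, hu, hcV.1, ?_⟩
  have huG : u ∈ G := hXG hcV.1
  rw [conjBy_E h.minη huG]
  have e : nil (u * η * u⁻¹) = (u : M →ₗ[k] M) * nil η * ((u⁻¹ : LinearMap.GeneralLinearGroup k M) : M →ₗ[k] M) :=
    conj_val u η
  obtain ⟨g, hg, eg, hkg, hrg⟩ := InRoot.exists_minimal h.minη h.inRoot h.ne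
  have e' : nil (u * g * u⁻¹) = b := by
    rw [conj_val, eg, hud, mul_assoc, Units.mul_inv, mul_one]
  obtain ⟨hkb, hrb⟩ := InRoot.ker_range hτ h'.inRoot h'.ne
  rw [← E_eq_of (G := G) (σ := u * η * u⁻¹) (σ' := u * g * u⁻¹)
    (by rw [conj_ker, conj_ker, hkg]) (by rw [conj_range, conj_range, hrg])]
  exact E_eq_of (by rw [e', hkb]) (by show LinearMap.range _ = _; rw [e', hrb])

end CfsgLib.Flavell73
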