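import Cfsg.Agent.Flavell73.Basic
import Cfsg.Agent.Flavell73.Coprime

/-!
Minimal quadratic elements and root subgroups under the normaliser of the group.
-/

set_option autoImplicit false

namespace CfsgLib.Flavell73

open Cfsg CfsgLib.RootSubgroups CfsgLib.RootSubgroups.QuadPair

universe u

variable {k : Type u} [Field k] {p : ℕ} [hp : Fact p.Prime]
  {M : Type u} [AddCommGroup M] [Module k M] [FiniteDimensional k M]
  {G : Subgroup (LinearMap.GeneralLinearGroup k M)}

omit [FiniteDimensional k M] hp in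
theorem isQuadraticOn_conj {σ : LinearMap.GeneralLinearGroup k M} (h : IsQuadraticOn σ)
    (x : LinearMap.GeneralLinearGroup k M) : IsQuadraticOn (x * σ * x⁻¹) := by
  refine ⟨?_, ?_⟩
  · show nil (x * σ * x⁻¹) * nil (x * σ * x⁻¹) = 0
    rw [conj_val]
    simp only [mul_assoc, Units.inv_mul_cancel_left]
    rw [← mul_assoc (nil σ), show nil σ * nil σ = 0 from h.1, zero_mul, mul_zero]
  · intro h0
    refine h.2 ?_
    show nil σ = 0
    replace h0 : nil (x * σ * x⁻¹) = 0 := h0
    rw [nil_eq_zero_iff, conj_eq_one_iff] at h0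
    rw [h0, nil_one]

omit [FiniteDimensional k M] hp in
theorem commutatorRank_conj (σ x : LinearMap.GeneralLinearGroup k M) :
    commutatorRank (x * σ * x⁻¹) = commutatorRank σ := by
  show Module.finrank k (cspace (x * σ * x⁻¹)) = Module.finrank k (cspace σ)
  rw [conj_range]
  exact (Submodule.equivMapOfInjective _
    (Function.LeftInverse.injective (g := ((x⁻¹ : LinearMap.GeneralLinearGroup k M) : M →ₗ[k] M))
      fun m => by rw [← Module.End.mul_apply, Units.inv_mul, Module.End.one_apply]) _).finrank_eq.symm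

/-- An element of `G` in `H` minimal for `H` and minimal quadratic elements under conjugation. -/
theorem minimal_conj_of_normalizes (hk : PF k p) {H : Subgroup (LinearMap.GeneralLinearGroup k M)}
    {σ x : LinearMap.GeneralLinearGroup k M} (hσ : σ ∈ minimalQuadraticElements H)
    (hx : x ∈ Subgroup.normalizer (H : Set (LinearMap.GeneralLinearGroup k M))) :
    x * σ * x⁻¹ ∈ minimalQuadraticElements H := by
  refine ⟨quad_mem hk ((Subgroup.mem_normalizer_iff.1 hx σ).1 hσ.1.1)
    (isQuadraticOn_conj hσ.1.2.1 x), fun τ hτ => ?_⟩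
  rw [commutatorRank_conj]
  have hτ' : x⁻¹ * τ * x⁻¹⁻¹ ∈ quadraticElements H := quad_mem hk
    (by simpa using (Subgroup.mem_normalizer_iff.1 (inv_mem hx) τ).1 hτ.1)
    (isQuadraticOn_conj hτ.2.1 x⁻¹)
  have := hσ.2 _ hτ'
  rwa [commutatorRank_conj] at this

variable (hk : PF k p)
include hk

theorem conjBy_E_of_normalizes {σ x : LinearMap.GeneralLinearGroup k M}
    (hx : x ∈ Subgroup.normalizer (G : Set (LinearMap.GeneralLinearGroup k M))) :
    conjBy (sameActionSubgroup G σ) x = sameActionSubgroup G (x * σ * x⁻¹) := by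
  have key : ∀ (s : LinearMap.GeneralLinearGroup k M) (g : LinearMap.GeneralLinearGroup k M),
      g ∈ Subgroup.normalizer (G : Set (LinearMap.GeneralLinearGroup k M)) →
      ∀ y ∈ sameActionClass G s, g * y * g⁻¹ ∈ sameActionClass G (g * s * g⁻¹) := fun s g hg y hy => by
    refine ⟨minimal_conj_of_normalizes hk hy.1 hg, ?_, ?_⟩
    · show LinearMap.ker (nil (g * y * g⁻¹)) = LinearMap.ker (nil (g * s * g⁻¹))
      rw [conj_ker, conj_ker, show LinearMap.ker (nil y) = LinearMap.ker (nil s) from hy.2.1]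
    · show cspace (g * y * g⁻¹) = cspace (g * s * g⁻¹)
      rw [conj_range, conj_range, show cspace y = cspace s from hy.2.2]
  rw [sameActionSubgroup, conjBy, MonoidHom.map_closure, sameActionSubgroup]
  congr 1
  ext y
  constructor
  · rintro ⟨w, hw, rfl⟩; exact key σ x hx w hw
  · intro hy
    refine ⟨x⁻¹ * y * x⁻¹⁻¹, ?_, by simp [mul_assoc]⟩
    have := key _ x⁻¹ (inv_mem hx) y hy
    rwa [show x⁻¹ * (x * σ * x⁻¹) * x⁻¹⁻¹ = σ by group] at this

theorem root_conj_of_normalizes {A : Subgroup (LinearMap.GeneralLinearGroup k M)}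
    (hA : A ∈ quadraticRootSubgroups G) {x : LinearMap.GeneralLinearGroup k M}
    (hx : x ∈ Subgroup.normalizer (G : Set (LinearMap.GeneralLinearGroup k M))) :
    conjBy A x ∈ quadraticRootSubgroups G := by
  obtain ⟨σ, hσ, rfl⟩ := hA
  exact ⟨_, minimal_conj_of_normalizes hk hσ hx, conjBy_E_of_normalizes hk hx⟩

theorem comp_conj_of_normalizes {A B : Subgroup (LinearMap.GeneralLinearGroup k M)}
    {x : LinearMap.GeneralLinearGroup k M}
    (hx : x ∈ Subgroup.normalizer (G : Set (LinearMap.GeneralLinearGroup k M)))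
    (hB : B ∈ comp G A) : conjBy B x ∈ comp G (conjBy A x) := by
  refine ⟨root_conj_of_normalizes hk hB.1 hx, ?_⟩
  have h := hB.2
  induction h with
  | refl => exact .refl
  | tail hab hbc ih =>
    exact (ih ⟨hbc.1, hab⟩).tail ⟨root_conj_of_normalizes hk hbc.1 hx,
      root_conj_of_normalizes hk hbc.2.1 hx, rankOnePair_conj hbc.2.2 x⟩

omit hk hp in
/-- An element normalising a class fixes its kernel and commutator space. -/
theorem ker_range_of_normalizes {σ x : LinearMap.GeneralLinearGroup k M}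
    (hσ : σ ∈ minimalQuadraticElements G)
    (hx : x ∈ Subgroup.normalizer (sameActionSubgroup G σ : Set (LinearMap.GeneralLinearGroup k M))) :
    LinearMap.ker (nil (x * σ * x⁻¹)) = LinearMap.ker (nil σ) ∧ cspace (x * σ * x⁻¹) = cspace σ := by
  have h1 := (mem_E hσ).1 ((Subgroup.mem_normalizer_iff.1 hx σ).1 (minimal_mem_E hσ))
  refine InRoot.ker_range hσ h1 fun h0 => ?_
  rw [nil_eq_zero_iff, conj_eq_one_iff] at h0
  exact quad_ne hσ.1.2.1 (by rw [h0, nil_one])

/-- An element of `G` between the kernel and commutator space of a class belongs to it. -/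
theorem inRoot_of_mem {σ g : LinearMap.GeneralLinearGroup k M}
    (hσ : σ ∈ minimalQuadraticElements G) (hg : g ∈ G)
    (h1 : LinearMap.ker (nil σ) ≤ LinearMap.ker (nil g)) (h2 : LinearMap.range (nil g) ≤ cspace σ) :
    InRoot G σ (nil g) := by
  rcases eq_or_ne (nil g) 0 with h0 | h0
  · rw [h0]; exact inRoot_zero
  have hsq : nil g * nil g = 0 :=
    LinearMap.ext fun m => h1 (range_le_ker hσ (h2 ⟨m, rfl⟩))
  exact ⟨h1, h2, hasFamily_nil (quad_mem hk hg ⟨hsq, h0⟩)⟩

end CfsgLib.Flavell73
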