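import Cfsg.Agent.Flavell73.RootConj
import Cfsg.Agent.RootSubgroups.QuadPairTheorems

/-!
A quadratic element in the intersection of the invariant Sylow subgroups yields a minimal one.
-/

set_option autoImplicit false

namespace CfsgLib.Flavell73

open Cfsg CfsgLib.RootSubgroups CfsgLib.RootSubgroups.QuadPair Polynomial

universe u

variable {k : Type u} [Field k] {p : ℕ} [hp : Fact p.Prime]
  {M : Type u} [AddCommGroup M] [Module k M] [FiniteDimensional k M]
  {G H : Subgroup (LinearMap.GeneralLinearGroup k M)}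
  {σ τ : LinearMap.GeneralLinearGroup k M}

omit [FiniteDimensional k M] hp in
theorem exists_minimalQuadratic (hne : (quadraticElements H).Nonempty) :
    ∃ σ, σ ∈ minimalQuadraticElements H := by
  classical
  have h : ∃ n, ∃ σ ∈ quadraticElements H, commutatorRank σ = n :=
    ⟨_, _, hne.choose_spec, rfl⟩
  obtain ⟨σ, hσ, e⟩ := Nat.find_spec h
  exact ⟨σ, hσ, fun τ hτ => e ▸ Nat.find_min' h ⟨τ, hτ, rfl⟩⟩

/-- A minimal element below `τ`, when `σ τ σ` does not vanish on `σ - 1`. -/
theorem exists_piece (hk2 : ringChar k ≠ 2) (hk3 : Nat.card k ≠ 3)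
    (hσ : σ ∈ minimalQuadraticElements G) (hτ : τ ∈ quadraticElements G)
    (hbeb : nil σ * nil τ * nil σ ≠ 0) :
    ∃ a : Module.End k M, a ≠ 0 ∧ a * a = 0 ∧ HasFamily G a ∧
      LinearMap.range a ≤ LinearMap.range (nil τ) ∧ LinearMap.ker (nil τ) ≤ LinearMap.ker a ∧
      Module.finrank k (LinearMap.range a) ≤ Module.finrank k (cspace σ) := by
  set φ := phi σ τ with hφ
  have hne : φ ≠ 0 := fun h => hbeb (by
    refine LinearMap.ext fun m => ?_
    have e := aeval_word_apply σ τ (X : k[X]) m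
    rw [aeval_X, aeval_X, ← hφ, h] at e
    exact e)
  obtain ⟨hinj, hirr, hX⟩ := (phi_cases hσ hτ hk2 hk3).resolve_left hne
  have hm : aeval φ (minpoly k φ) = 0 := minpoly.aeval k φ
  obtain ⟨f, hf⟩ : ∃ f : k[X], aeval φ f * φ = 1 := by
    obtain ⟨f, r, hfr⟩ := (Prime.coprime_iff_not_dvd Polynomial.prime_X).2 hX
    refine ⟨f, ?_⟩
    have := congrArg (aeval φ) hfr
    rwa [map_add, map_mul, map_mul, hm, mul_zero, add_zero, aeval_X, map_one] at this
  set s := nil σ with hs'
  set t := nil τ with ht'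
  have ht : t * t = 0 := nil_sq hτ.2.1
  set g : k[X] := X ^ 2 * f ^ 3 with hg
  have hgφ : aeval φ g * φ = 1 := by
    have hc : Commute (aeval φ f) φ := by
      have := congrArg (aeval φ) (mul_comm f (X : k[X]))
      simpa [map_mul, Commute, SemiconjBy] using this
    rw [hg, map_mul, map_pow, map_pow, aeval_X]
    have h1 : φ ^ 2 * aeval φ f ^ 3 * φ = (aeval φ f * φ) ^ 3 := by
      rw [hc.mul_pow, (hc.pow_pow 3 2).symm.eq, mul_assoc, ← pow_succ]
    rw [h1, hf, one_pow]
  have hlo : ∀ c : k, ∃ x ∈ G, (x : M →ₗ[k] M) = 1 + t * aeval (s * t) (C c * (g * X)) := fun c =>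
    word_mem_lower hσ hτ hm _ (by
      rw [hg, show X * (C c * (X ^ 2 * f ^ 3 * X)) = X ^ 2 * (C c * f ^ 3 * X ^ 2) by ring]
      exact (Gen2.sq_mem hirr hX hk2 hk3 _).2)
  set b := aeval (s * t) g * s with hb
  set a := t * b * t with ha
  have haX : a = t * aeval (s * t) (g * X) := by
    rw [ha, hb, map_mul _ g X, aeval_X]; simp only [mul_assoc]
  have hval : ∀ m, b m = ((aeval φ g ⟨s m, LinearMap.mem_range_self _ _⟩ : cspace σ) : M) :=
    fun m => aeval_word_apply σ τ g m
  have hfa : HasFamily G a := fun c => by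
    obtain ⟨x, hx, e⟩ := hlo c
    refine ⟨x, hx, ?_⟩
    rw [e, map_mul, aeval_C, ← mul_assoc t, ← Algebra.commutes c t, mul_assoc, ← haX,
      ← Algebra.smul_def]
  have hbtb : b * t * b = b := by
    refine LinearMap.ext fun m => ?_
    rw [Module.End.mul_apply, Module.End.mul_apply, hval (t (b m))]
    set y := aeval φ g ⟨s m, LinearMap.mem_range_self _ _⟩
    have hy : b m = (y : M) := hval m
    have e : (⟨s (t (b m)), LinearMap.mem_range_self _ _⟩ : cspace σ) = φ y :=
      Subtype.ext (by rw [hy]; rfl)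
    rw [e, ← Module.End.mul_apply, hgφ, Module.End.one_apply]
    exact hy.symm
  have hb0 : b ≠ 0 := by
    intro h
    apply quad_ne hσ.1.2.1
    refine LinearMap.ext fun m => ?_
    have h1 : aeval φ g ⟨s m, LinearMap.mem_range_self _ _⟩ = 0 := Subtype.ext (by
      rw [← hval, h]; rfl)
    have hc : φ * aeval φ g = aeval φ g * φ := by
      have := congrArg (aeval φ) (mul_comm (X : k[X]) g)
      simpa [map_mul] using this
    have h2 := congrArg φ h1
    rw [← Module.End.mul_apply, hc, hgφ, map_zero, Module.End.one_apply] at h2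
    exact congrArg Subtype.val h2
  refine ⟨a, fun h => hb0 ?_, ?_, hfa, ?_, ?_, ?_⟩
  · calc b = b * t * b * t * b := by rw [hbtb, hbtb]
      _ = b * a * b := by rw [ha]; simp only [mul_assoc]
      _ = 0 := by rw [h, mul_zero, zero_mul]
  · rw [ha, show t * b * t * (t * b * t) = t * b * (t * t) * (b * t) by simp only [mul_assoc], ht]
    simp
  · rw [ha, mul_assoc, Module.End.mul_eq_comp]
    exact LinearMap.range_comp_le_range _ _
  · intro m hm'
    show a m = 0
    rw [ha, Module.End.mul_apply, show t m = 0 from hm', map_zero]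
  · refine (Submodule.finrank_mono (t := (cspace σ).map t) ?_).trans (Submodule.finrank_map_le _ _)
    rintro _ ⟨m, rfl⟩
    refine ⟨b (t m), ?_, rfl⟩
    rw [hval]
    exact Submodule.coe_mem _

omit hp in
/-- An element below `x` absorbs the commutation with finitely many quadratic maps. -/
theorem exists_commuting (hk2 : ringChar k ≠ 2) (x : Module.End k M) (hxx : x * x = 0) {r : ℕ}
    (L : Finset (Module.End k M)) (hL : ∀ y ∈ L, HasFamily G y ∧ y * y = 0 ∧ y * x = x * y)
    (hLL : ∀ y ∈ L, ∀ y' ∈ L, y * y' = y' * y) {B : Module.End k M} (hB : B ≠ 0) (hB2 : B * B = 0)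
    (hBf : HasFamily G B) (hBr : LinearMap.range B ≤ LinearMap.range x)
    (hBk : LinearMap.ker x ≤ LinearMap.ker B) (hr : Module.finrank k (LinearMap.range B) ≤ r) :
    ∃ B' : Module.End k M, B' ≠ 0 ∧ B' * B' = 0 ∧ HasFamily G B' ∧
      LinearMap.range B' ≤ LinearMap.range x ∧ LinearMap.ker x ≤ LinearMap.ker B' ∧
      Module.finrank k (LinearMap.range B') ≤ r ∧ ∀ y ∈ L, B' * y = y * B' := by
  classical
  induction L using Finset.induction_on with
  | empty => exact ⟨B, hB, hB2, hBf, hBr, hBk, hr, by simp⟩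
  | @insert y L hy ih =>
    obtain ⟨B, hB, hB2, hBf, hBr, hBk, hr, hBc⟩ := ih
      (fun z hz => hL z (Finset.mem_insert_of_mem hz))
      (fun z hz z' hz' => hLL z (Finset.mem_insert_of_mem hz) z' (Finset.mem_insert_of_mem hz'))
    obtain ⟨hyf, hy2, hyx⟩ := hL y (Finset.mem_insert_self _ _)
    have hyL : ∀ z ∈ L, y * z = z * y := fun z hz =>
      hLL y (Finset.mem_insert_self _ _) z (Finset.mem_insert_of_mem hz)
    have hyrange : ∀ {m}, m ∈ LinearMap.range x → y m ∈ LinearMap.range x := by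
      rintro _ ⟨m, rfl⟩
      exact ⟨y m, (LinearMap.congr_fun hyx m).symm⟩
    have hyker : ∀ {m}, x m = 0 → x (y m) = 0 := fun {m} hm => by
      rw [← Module.End.mul_apply, ← hyx, Module.End.mul_apply, hm, map_zero]
    have hByB : B * y * B = 0 := LinearMap.ext fun m => hBk (by
      obtain ⟨m', hm'⟩ := hBr ⟨m, rfl⟩
      show x (y (B m)) = 0
      refine hyker ?_
      rw [← hm']
      exact LinearMap.congr_fun hxx m')
    by_cases h1 : y * B * y = 0
    · by_cases h2 : y * B = B * y
      · exact ⟨B, hB, hB2, hBf, hBr, hBk, hr, fun z hz => (Finset.mem_insert.1 hz).elim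
          (fun e => e ▸ h2.symm) (hBc z)⟩
      refine ⟨y * B - B * y, sub_ne_zero.2 h2, sq_comm_eq_zero hy2 hB2 h1 hByB,
        HasFamily.comm hyf hBf hy2 hB2 h1 hByB, ?_, ?_, ?_, ?_⟩
      · rintro _ ⟨m, rfl⟩
        exact sub_mem (hyrange (hBr ⟨m, rfl⟩)) (hBr ⟨y m, rfl⟩)
      · intro m hm
        show y (B m) - B (y m) = 0
        rw [show B m = 0 from hBk hm, show B (y m) = 0 from hBk (hyker hm), map_zero, sub_zero]
      · refine le_trans ?_ hr
        rw [← finrank_map_add_inf y (LinearMap.range B)]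
        refine le_trans (Submodule.finrank_mono (t := (LinearMap.range B).map y ⊔
          (LinearMap.range B ⊓ LinearMap.ker y)) ?_)
          (Submodule.finrank_add_le_finrank_add_finrank _ _)
        rintro _ ⟨m, rfl⟩
        exact sub_mem (Submodule.mem_sup_left (Submodule.mem_map_of_mem ⟨m, rfl⟩))
          (Submodule.mem_sup_right ⟨⟨_, rfl⟩, LinearMap.congr_fun h1 m⟩)
      · intro z hz
        rcases Finset.mem_insert.1 hz with rfl | hz
        · rw [sub_mul, mul_sub, h1, mul_assoc B, hy2, ← mul_assoc, hy2, ← mul_assoc, h1]; simp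
        · rw [sub_mul, mul_sub, mul_assoc y B z, hBc z hz, ← mul_assoc y z, hyL z hz, mul_assoc z y,
            mul_assoc B y z, hyL z hz, ← mul_assoc B z, hBc z hz, mul_assoc z B]
    · refine ⟨y * B * y, h1, ?_, hasFamily_sandwich hk2 hyf hBf hy2 hB2 hByB, ?_, ?_, ?_, ?_⟩
      · rw [show y * B * y * (y * B * y) = y * B * (y * y) * (B * y) by simp only [mul_assoc], hy2]
        simp
      · rintro _ ⟨m, rfl⟩
        exact hyrange (hBr ⟨y m, rfl⟩)
      · intro m hm
        show y (B (y m)) = 0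
        rw [show B (y m) = 0 from hBk (hyker hm), map_zero]
      · refine ((Submodule.finrank_mono (t := (LinearMap.range B).map y) ?_).trans
          (Submodule.finrank_map_le _ _)).trans hr
        rintro _ ⟨m, rfl⟩
        exact ⟨B (y m), ⟨_, rfl⟩, rfl⟩
      · intro z hz
        rcases Finset.mem_insert.1 hz with rfl | hz
        · rw [mul_assoc (z * B), hy2, ← mul_assoc, ← mul_assoc, hy2]; simp
        · rw [mul_assoc (y * B), hyL z hz, ← mul_assoc, mul_assoc y B z, hBc z hz, ← mul_assoc,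
            hyL z hz]
          simp only [mul_assoc]

variable (hk : PF k p)
include hk

/-- Minimal elements of a `p`-group have vanishing triple products. -/
theorem triple_of_isPGroup {P : Subgroup (LinearMap.GeneralLinearGroup k M)} (hP : IsPGroup p P)
    (hσ : σ ∈ minimalQuadraticElements P) (hτ : τ ∈ minimalQuadraticElements P) : Triple P σ τ :=
  (opp_or_triple hσ hτ hk.two hk.three).resolve_left fun hop => Opp.not_unipotent hσ hτ hop
    (isUnipotentOn_mono (sup_le (E_le hσ) (E_le hτ)) (isUnipotentOn_of_isPGroup hk hP))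

/-- A `p`-group has a minimal element commuting with all of them. -/
theorem exists_central_minimal {P : Subgroup (LinearMap.GeneralLinearGroup k M)} (hP : IsPGroup p P)
    (hne : (quadraticElements P).Nonempty) :
    ∃ a ∈ minimalQuadraticElements P, ∀ b ∈ minimalQuadraticElements P, a * b = b * a := by
  classical
  have := hk.finiteGL (M := M)
  obtain ⟨n, hn⟩ := (Subgroup.isNilpotent_iff_lowerCentralSeries P).1 hP.isNilpotent
  have hex : ∃ n, ∀ a ∈ minimalQuadraticElements P, a ∉ P.lowerCentralSeries n :=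
    ⟨n, fun a ha h => quad_ne ha.1.2.1 (by
      rw [hn, Subgroup.mem_bot] at h; rw [h, nil_one])⟩
  have hm := Nat.find_spec hex
  obtain ⟨j, hj⟩ : ∃ j, Nat.find hex = j + 1 := by
    refine Nat.exists_eq_succ_of_ne_zero fun h0 => ?_
    obtain ⟨a, ha⟩ := exists_minimalQuadratic hne
    exact (h0 ▸ hm) a ha ha.1.1
  have hj' := Nat.find_min hex (m := j) (by omega)
  push Not at hj'
  obtain ⟨a, ha, haj⟩ := hj'
  refine ⟨a, ha, fun b hb => by_contra fun hab => ?_⟩
  have hT := triple_of_isPGroup hk hP ha hb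
  obtain ⟨ζ, hζ, hz, -⟩ := Triple.shape ha hb hT fun h => hab (commute_iff_nil.2 h)
  have e : ζ = a * b * a⁻¹ * b⁻¹ := nil_injective (by
    rw [hz, Triple.commutator ha hb hT (minimal_mem_E ha) (minimal_mem_E hb)])
  refine hm ζ hζ ?_
  rw [hj, Subgroup.lowerCentralSeries_succ, e, ← commutatorElement_def]
  exact Subgroup.commutator_mem_commutator haj hb.1.1

omit [FiniteDimensional k M] hk hp in
/-- The maps of `C` below `x` form a normal subgroup when `C` fixes `x`. -/
def belowGroup (C : Subgroup (LinearMap.GeneralLinearGroup k M)) (x : Module.End k M)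
    (hxx : x * x = 0) : Subgroup (LinearMap.GeneralLinearGroup k M) where
  carrier := {g | g ∈ C ∧ LinearMap.ker x ≤ LinearMap.ker (nil g) ∧
    LinearMap.range (nil g) ≤ LinearMap.range x}
  one_mem' := ⟨one_mem _, by rw [nil_one, LinearMap.ker_zero]; exact le_top,
    by rw [nil_one, LinearMap.range_zero]; exact bot_le⟩
  mul_mem' := fun {g g'} hg hg' => by
    have h0 : nil g * nil g' = 0 := LinearMap.ext fun m => hg.2.1 (by
      obtain ⟨y, hy⟩ := hg'.2.2 ⟨m, rfl⟩
      show x (nil g' m) = 0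
      rw [← hy]
      exact LinearMap.congr_fun hxx y)
    refine ⟨mul_mem hg.1 hg'.1, ?_, ?_⟩
    · intro m hm
      show nil (g * g') m = 0
      rw [nil_mul, h0, add_zero, LinearMap.add_apply, show nil g m = 0 from hg.2.1 hm,
        show nil g' m = 0 from hg'.2.1 hm, add_zero]
    · rw [nil_mul, h0, add_zero]
      exact (LinearMap.range_add_le _ _).trans (sup_le hg.2.2 hg'.2.2)
  inv_mem' := fun {g} hg => by
    have h0 : nil g * nil g = 0 := LinearMap.ext fun m => hg.2.1 (by
      obtain ⟨y, hy⟩ := hg.2.2 ⟨m, rfl⟩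
      show x (nil g m) = 0
      rw [← hy]
      exact LinearMap.congr_fun hxx y)
    refine ⟨inv_mem hg.1, ?_, ?_⟩ <;> rw [nil_inv h0]
    · rw [LinearMap.ker_neg]; exact hg.2.1
    · rw [LinearMap.range_neg]; exact hg.2.2

variable {r : ℕ} [hr : Fact r.Prime] {R : Subgroup (LinearMap.GeneralLinearGroup k M)}

/-- From a quadratic element of the intersection to a minimal one. -/
theorem exists_minimal_mem_invCore (hR : CAct r R G) (hred : Reduced G)
    (IH : ∀ H < G, R ≤ Subgroup.normalizer (H : Set (LinearMap.GeneralLinearGroup k M)) →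
      ∀ a ∈ invCore p R H, IsQuadraticOn a → a ∈ rad p H)
    {a₀ : LinearMap.GeneralLinearGroup k M} (ha₀ : a₀ ∈ invCore p R G) (hq : IsQuadraticOn a₀) :
    ∃ δ ∈ invCore p R G, δ ∈ minimalQuadraticElements G := by
  classical
  have := hk.finiteGL (M := M)
  set P := invCore p R G with hPdef
  have hP : IsPGroup p P := isPGroup_invCore hR
  set FZ : Set (LinearMap.GeneralLinearGroup k M) :=
    {a | a ∈ minimalQuadraticElements P ∧ ∀ b ∈ minimalQuadraticElements P, a * b = b * a} with hFZ
  have hFq : ∀ a ∈ FZ, a ∈ quadraticElements G := fun a ha =>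
    quad_mem hk (invCore_le ha.1.1.1) ha.1.1.2.1
  have hFinv : ∀ x ∈ Subgroup.normalizer (P : Set (LinearMap.GeneralLinearGroup k M)), ∀ a ∈ FZ,
      x * a * x⁻¹ ∈ FZ := by
    intro x hx a ha
    refine ⟨minimal_conj_of_normalizes hk ha.1 hx, fun b hb => ?_⟩
    have := (Commute.conj_iff (h := x)).2
      (ha.2 _ (minimal_conj_of_normalizes hk hb (inv_mem hx)) : Commute a _)
    rw [show x * (x⁻¹ * b * x⁻¹⁻¹) * x⁻¹ = b by group] at this
    exact this
  obtain ⟨a₁, ha₁, ha₁c⟩ := exists_central_minimal hk hP ⟨a₀, quad_mem hk ha₀ hq⟩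
  by_cases hcase : ∃ a ∈ FZ, ∃ σ ∈ minimalQuadraticElements G, nil σ * nil a * nil σ ≠ 0
  · obtain ⟨a, ha, σ, hσ, hne⟩ := hcase
    set x := nil a with hx
    have hxx : x * x = 0 := nil_sq ha.1.1.2.1
    obtain ⟨B, hB, hB2, hBf, hBr, hBk, hBrk⟩ := exists_piece hk.two hk.three hσ (hFq a ha) hne
    have hfin : ((nil : _ → Module.End k M) '' FZ).Finite := (Set.toFinite FZ).image _
    obtain ⟨B, hB, hB2, hBf, hBr, hBk, hBrk, hBc⟩ := exists_commuting hk.two x hxx hfin.toFinset
      (fun y hy => by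
        obtain ⟨b, hb, rfl⟩ := hfin.mem_toFinset.1 hy
        exact ⟨hasFamily_nil (hFq b hb), nil_sq hb.1.1.2.1,
          commute_iff_nil.1 (hb.2 a ha.1)⟩)
      (fun y hy y' hy' => by
        obtain ⟨b, hb, rfl⟩ := hfin.mem_toFinset.1 hy
        obtain ⟨b', hb', rfl⟩ := hfin.mem_toFinset.1 hy'
        exact commute_iff_nil.1 (hb.2 b' hb'.1))
      hB hB2 hBf hBr hBk hBrk
    obtain ⟨δ, hδ, eδ⟩ := QuadPair.exists_minimal hσ hBf hB2 hB hBrk
    refine ⟨δ, ?_, hδ⟩
    set C := G ⊓ Subgroup.centralizer FZ with hC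
    have hCn : ∀ y, y ∈ Subgroup.normalizer (G : Set (LinearMap.GeneralLinearGroup k M)) →
        y ∈ Subgroup.normalizer (P : Set (LinearMap.GeneralLinearGroup k M)) →
        ∀ c ∈ C, y * c * y⁻¹ ∈ C := by
      intro y hy hyP c hc
      refine Subgroup.mem_inf.2 ⟨(Subgroup.mem_normalizer_iff.1 hy c).1 hc.1,
        Subgroup.mem_centralizer_iff.2 fun b hb => ?_⟩
      have := (Commute.conj_iff (h := y)).2
        (Subgroup.mem_centralizer_iff.1 hc.2 _ (hFinv y⁻¹ (inv_mem hyP) b hb) : Commute _ c)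
      rw [show y * (y⁻¹ * b * y⁻¹⁻¹) * y⁻¹ = b by group] at this
      exact this
    have hRC : R ≤ Subgroup.normalizer (C : Set (LinearMap.GeneralLinearGroup k M)) :=
      le_normalizer_of_forall fun y hy => hCn y (hR.norm hy) (hR.le_normalizer_invCore hy)
    have hCC : G ⊓ Subgroup.centralizer (R : Set (LinearMap.GeneralLinearGroup k M)) ≤
        Subgroup.normalizer (C : Set (LinearMap.GeneralLinearGroup k M)) :=
      le_normalizer_of_forall fun y hy =>
        hCn y (Subgroup.le_normalizer hy.1) (centralizer_le_normalizer_invCore hy)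
    have hU : belowGroup C x hxx ≤ rad p C := by
      refine le_rad (fun g hg => hg.1) (isPGroup_of_nilpotent hk fun g hg => ⟨2, ?_⟩) ?_
      · rw [pow_two]
        refine LinearMap.ext fun m => hg.2.1 ?_
        obtain ⟨y, hy⟩ := hg.2.2 ⟨m, rfl⟩
        show x (nil g m) = 0
        rw [← hy]
        exact LinearMap.congr_fun hxx y
      · refine le_normalizer_of_forall fun c hc g hg => ?_
        have hca : ∀ c ∈ C, ∀ m, x ((c : M →ₗ[k] M) m) = (c : M →ₗ[k] M) (x m) := fun c hc m => by
          have := commute_iff_nil.1 (Subgroup.mem_centralizer_iff.1 hc.2 a ha)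
          rw [coe_eq_one_add c, LinearMap.add_apply, LinearMap.add_apply, Module.End.one_apply,
            Module.End.one_apply, map_add]
          exact congrArg _ (LinearMap.congr_fun this m)
        refine ⟨mul_mem (mul_mem hc hg.1) (inv_mem hc), ?_, ?_⟩
        · intro m hm
          have h0 : x (((c⁻¹ : LinearMap.GeneralLinearGroup k M) : M →ₗ[k] M) m) = 0 := by
            rw [hca _ (inv_mem hc), show x m = 0 from hm, map_zero]
          show nil (c * g * c⁻¹) m = 0
          rw [conj_val, Module.End.mul_apply, Module.End.mul_apply, show nil g _ = 0 from hg.2.1 h0,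
            map_zero]
        · rw [conj_val]
          rintro _ ⟨m, rfl⟩
          obtain ⟨y, hy⟩ := hg.2.2 (LinearMap.mem_range_self (nil g)
            (((c⁻¹ : LinearMap.GeneralLinearGroup k M) : M →ₗ[k] M) m))
          refine ⟨(c : M →ₗ[k] M) y, ?_⟩
          rw [hca c hc, hy]; rfl
    refine le_invCore hR (rad_le.trans inf_le_left) isPGroup_rad
      (fun y hy => le_normalizer_rad (hRC hy)) (fun y hy => le_normalizer_rad (hCC hy))
      (hU ⟨Subgroup.mem_inf.2 ⟨hδ.1.1, Subgroup.mem_centralizer_iff.2 fun b hb => ?_⟩,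
        eδ ▸ hBk, eδ ▸ hBr⟩)
    exact commute_iff_nil.2 (eδ ▸ (hBc _ (hfin.mem_toFinset.2 ⟨b, hb, rfl⟩)).symm)
  · exfalso
    push Not at hcase
    have ha : a₁ ∈ FZ := ⟨ha₁, ha₁c⟩
    have hcom : ∀ σ ∈ minimalQuadraticElements G, a₁ * σ = σ * a₁ := fun σ hσ =>
      orth_central hk.two hk.three hred (hFq _ ha) (fun ρ hρ => hcase a₁ ha ρ hρ) hσ
    set H := G ⊓ Subgroup.centralizer (minimalQuadraticElements G) with hH
    have hHn : Subgroup.normalizer (G : Set (LinearMap.GeneralLinearGroup k M)) ≤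
        Subgroup.normalizer (H : Set (LinearMap.GeneralLinearGroup k M)) := by
      refine le_normalizer_of_forall fun y hy c hc => Subgroup.mem_inf.2
        ⟨(Subgroup.mem_normalizer_iff.1 hy c).1 hc.1,
          Subgroup.mem_centralizer_iff.2 fun b hb => ?_⟩
      have := (Commute.conj_iff (h := y)).2
        (Subgroup.mem_centralizer_iff.1 hc.2 _ (minimal_conj_of_normalizes hk hb (inv_mem hy)) :
          Commute _ c)
      rw [show y * (y⁻¹ * b * y⁻¹⁻¹) * y⁻¹ = b by group] at this
      exact this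
    have hlt : H < G := by
      refine lt_of_le_of_ne inf_le_left fun he => ?_
      obtain ⟨σ, hσ⟩ := exists_minimalQuadratic ⟨a₁, hFq _ ha⟩
      obtain ⟨g, hg, hop⟩ := exists_opp hk.two hk.three hred hσ
      have hσH : σ ∈ H := he.symm ▸ hσ.1.1
      rcases Opp.not_comm hσ (conj_minimal hσ hg) hop (inRoot_self hσ.1)
        (inRoot_self (conj_minimal hσ hg).1) (commute_iff_nil.1
          (Subgroup.mem_centralizer_iff.1 hσH.2 _ (conj_minimal hσ hg)).symm) with h | h
      · exact quad_ne hσ.1.2.1 h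
      · exact quad_ne (conj_minimal hσ hg).1.2.1 h
    have hRH : R ≤ Subgroup.normalizer (H : Set (LinearMap.GeneralLinearGroup k M)) :=
      hR.norm.trans hHn
    have haH : a₁ ∈ H := Subgroup.mem_inf.2 ⟨(hFq _ ha).1,
      Subgroup.mem_centralizer_iff.2 fun b hb => (hcom b hb).symm⟩
    have h1 := IH H hlt hRH a₁ (inf_le_invCore hR inf_le_left hRH ⟨ha₁.1.1, haH⟩) ha₁.1.2.1
    have h2 : rad p G = ⊥ := eq_bot_of_reduced hk hred rad_le isPGroup_rad fun g hg =>
      conjBy_eq_self_iff.2 (le_normalizer_rad (Subgroup.le_normalizer hg))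
    have h3 := rad_le_rad inf_le_left (Subgroup.le_normalizer.trans hHn) h1
    rw [h2, Subgroup.mem_bot] at h3
    exact quad_ne ha₁.1.2.1 (by rw [h3, nil_one])

end CfsgLib.Flavell73
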