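import Cfsg.Agent.Flavell73.Partner

/-!
A class is the only member of its component normalised by its unipotent group.
-/

set_option autoImplicit false

namespace CfsgLib.Flavell73

open Cfsg CfsgLib.RootSubgroups CfsgLib.RootSubgroups.QuadPair

universe u

variable {k : Type u} [Field k] {p : ℕ} [hp : Fact p.Prime]
  {M : Type u} [AddCommGroup M] [Module k M] [FiniteDimensional k M]
  {G : Subgroup (LinearMap.GeneralLinearGroup k M)}
  {σ η φ t : LinearMap.GeneralLinearGroup k M} {d : Module.End k M}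

/-- The two projections fix the maps of the class. -/
theorem inRoot_proj (h : InvPair G σ η d) {a : Module.End k M} (ha : InRoot G σ a) :
    nil σ * d * a = a ∧ a * (d * nil σ) = a := by
  constructor <;> refine LinearMap.ext fun m => ?_
  · obtain ⟨x, hx⟩ := ha.2.1 ⟨m, rfl⟩
    rw [Module.End.mul_apply, ← hx, ← Module.End.mul_apply, h.zdz]
  · have : a ((1 - d * nil σ) m) = 0 := ha.1 (by
      show nil σ ((1 - d * nil σ) m) = 0
      rw [← Module.End.mul_apply, mul_sub, ← mul_assoc, h.zdz, mul_one, sub_self,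
        LinearMap.zero_apply])
    rwa [LinearMap.sub_apply, map_sub, sub_eq_zero, Module.End.one_apply, eq_comm] at this

omit [FiniteDimensional k M] in
theorem torus_mul (et : nil t = nil σ * d - (2 : k)⁻¹ • (d * nil σ)) {a : Module.End k M}
    (ha : nil σ * a = 0) : (t : M →ₗ[k] M) * a = a + nil σ * d * a := by
  rw [coe_eq_one_add t, et, add_mul, one_mul, sub_mul, smul_mul_assoc, mul_assoc d, ha, mul_zero,
    smul_zero, sub_zero]

omit [FiniteDimensional k M] in
theorem mul_torus (et : nil t = nil σ * d - (2 : k)⁻¹ • (d * nil σ)) {a : Module.End k M}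
    (ha : a * nil σ = 0) : a * (t : M →ₗ[k] M) = a - (2 : k)⁻¹ • (a * (d * nil σ)) := by
  rw [coe_eq_one_add t, et, mul_add, mul_one, mul_sub, mul_smul_comm, ← mul_assoc a, ha, zero_mul,
    zero_sub, sub_eq_add_neg]

variable (hk : PF k p)
include hk

/-- The torus element multiplies the class by four. -/
theorem torus_conj (h : InvPair G σ η d) (et : nil t = nil σ * d - (2 : k)⁻¹ • (d * nil σ))
    {g : LinearMap.GeneralLinearGroup k M} (hg : g ∈ sameActionSubgroup G σ) :
    nil (t * g * t⁻¹) = ((2 : k) * 2) • nil g := by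
  have ha := (mem_E h.minζ).1 hg
  obtain ⟨h1, h2⟩ := inRoot_proj h ha
  have hz1 := InRoot.mul_eq_zero h.minζ (inRoot_self h.minζ.1) ha
  have hz2 := InRoot.mul_eq_zero h.minζ ha (inRoot_self h.minζ.1)
  have h20 : (2 : k) ≠ 0 := Ring.two_ne_zero hk.two
  have e1 : (t : M →ₗ[k] M) * nil g = (2 : k) • nil g := by rw [torus_mul et hz1, h1, two_smul]
  have e2 : nil g = (2 : k) • (nil g * (t : M →ₗ[k] M)) := by
    rw [mul_torus et hz2, h2, smul_sub, smul_smul, mul_inv_cancel₀ h20, one_smul, two_smul,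
      add_sub_cancel_right]
  rw [conj_val, e1]
  conv_lhs => rw [e2, smul_smul, smul_mul_assoc, mul_assoc, Units.mul_inv, mul_one]

theorem torus_normalizes (h : InvPair G σ η d) (et : nil t = nil σ * d - (2 : k)⁻¹ • (d * nil σ))
    (htG : t ∈ G) :
    t ∈ Subgroup.normalizer (sameActionSubgroup G σ : Set (LinearMap.GeneralLinearGroup k M)) := by
  refine conjBy_eq_self_iff.1 ?_
  rw [conjBy_E h.minζ htG]
  have e := torus_conj hk h et (minimal_mem_E h.minζ)
  have h4 : ((2 : k) * 2) ≠ 0 :=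
    mul_ne_zero (Ring.two_ne_zero hk.two) (Ring.two_ne_zero hk.two)
  exact E_eq_of (by rw [e, LinearMap.ker_smul _ _ h4])
    (by show LinearMap.range _ = LinearMap.range _; rw [e, LinearMap.range_smul _ _ h4])

/-- Modulo the class the torus element squares the unipotent group. -/
theorem torus_sq_mem (h : InvPair G σ η d) (et : nil t = nil σ * d - (2 : k)⁻¹ • (d * nil σ))
    {n : LinearMap.GeneralLinearGroup k M} (hn : n ∈ coreGroup σ)
    (hG : t * n * t⁻¹ * (n * n)⁻¹ ∈ G) :
    t * n * t⁻¹ * (n * n)⁻¹ ∈ sameActionSubgroup G σ := by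
  set z := nil σ with hz
  set N := nil n with hN
  have hc : Core z N := hn
  set q := t * n * t⁻¹ * (n * n)⁻¹ with hq
  have e : nil q = ((t : M →ₗ[k] M) * N - (2 : k) • (N * (t : M →ₗ[k] M)) -
      N * N * (t : M →ₗ[k] M)) * ((((n * n) * t)⁻¹ : LinearMap.GeneralLinearGroup k M) : M →ₗ[k] M) := by
    rw [show q = t * n * ((n * n) * t)⁻¹ by rw [hq]; group, nil, Units.val_mul,
      ← Units.mul_inv ((n * n) * t), ← sub_mul]
    congr 1
    rw [Units.val_mul, Units.val_mul, coe_eq_one_add n, coe_eq_one_add (n * n), nil_mul, ← hN,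
      mul_add, mul_one, add_mul, add_mul, add_mul, one_mul, two_smul]
    abel
  set D := (t : M →ₗ[k] M) * N - (2 : k) • (N * (t : M →ₗ[k] M)) - N * N * (t : M →ₗ[k] M) with hD
  set D1 := -N + z * d * N + N * (d * z) with hD1
  have hDeq : D = D1 - N * N * (t : M →ₗ[k] M) := by
    rw [hD, torus_mul et hc.left, mul_torus et hc.right, smul_sub, smul_smul,
      mul_inv_cancel₀ (Ring.two_ne_zero hk.two), one_smul, two_smul, hD1]
    abel
  have hzd : ∀ x, (z * d) (z x) = z x := fun x => LinearMap.congr_fun h.zdz x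
  have hD1z : ∀ m, z m = 0 → D1 m = 0 := by
    intro m hm
    obtain ⟨x, hx⟩ := hc.step m hm
    simp only [hD1, LinearMap.add_apply, LinearMap.neg_apply, Module.End.mul_apply, hm, map_zero,
      add_zero]
    rw [← hx, ← Module.End.mul_apply z d, hzd, neg_add_cancel]
  have hpres : ∀ m, z m = 0 → z ((t : M →ₗ[k] M) m) = 0 := by
    intro m hm
    rw [coe_eq_one_add t, LinearMap.add_apply, map_add, Module.End.one_apply, hm, zero_add, et]
    simp only [LinearMap.sub_apply, LinearMap.smul_apply, Module.End.mul_apply, hm, map_zero,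
      smul_zero, sub_zero]
    exact LinearMap.congr_fun h.zz _
  have hinv : ∀ m, z m = 0 →
      z (((((n * n) * t)⁻¹ : LinearMap.GeneralLinearGroup k M) : M →ₗ[k] M) m) = 0 := by
    intro m hm
    obtain ⟨y, hy⟩ := (show Core z (nil (n * n)⁻¹) from (coreGroup σ).inv_mem
      ((coreGroup σ).mul_mem hn hn)).step m hm
    rw [mul_inv_rev, Units.val_mul, Module.End.mul_apply]
    set m' := (((n * n)⁻¹ : LinearMap.GeneralLinearGroup k M) : M →ₗ[k] M) m with hm'
    have hzm' : z m' = 0 := by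
      rw [hm', coe_eq_one_add, LinearMap.add_apply, map_add, Module.End.one_apply, hm, zero_add, ← hy]
      exact LinearMap.congr_fun h.zz _
    have hzt : z * (t : M →ₗ[k] M) = (2 : k)⁻¹ • z := by
      rw [mul_torus et h.zz, ← mul_assoc, h.zdz]
      have := Ring.two_ne_zero hk.two
      match_scalars <;> field_simp <;> ring
    have h' := congrArg (fun f : Module.End k M => f (((t⁻¹ : LinearMap.GeneralLinearGroup k M) :
      M →ₗ[k] M) m')) hzt
    simp only [Module.End.mul_apply, coe_apply_inv, LinearMap.smul_apply, hzm'] at h'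
    exact (smul_eq_zero.1 h'.symm).resolve_left (inv_ne_zero (Ring.two_ne_zero hk.two))
  refine (mem_E h.minζ).2 (inRoot_of_mem hk h.minζ hG (fun m hm => ?_) ?_)
  · rw [e, LinearMap.mem_ker, Module.End.mul_apply, hDeq, LinearMap.sub_apply,
      hD1z _ (hinv m hm), Module.End.mul_apply]
    rw [show (N * N) _ = 0 from (core_mul hn hn).1 (hpres _ (hinv m hm)), sub_zero]
  · rw [e]
    rintro _ ⟨m, rfl⟩
    rw [Module.End.mul_apply]
    generalize ((((n * n) * t)⁻¹ : LinearMap.GeneralLinearGroup k M) : M →ₗ[k] M) m = v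
    rw [hDeq, LinearMap.sub_apply]
    refine sub_mem ?_ ((core_mul hn hn).2 ⟨_, rfl⟩)
    have hv : z (v - d (z v)) = 0 := by
      rw [map_sub, sub_eq_zero]; exact (LinearMap.congr_fun h.zdz v).symm
    have h0 := hD1z _ hv
    rw [map_sub, sub_eq_zero] at h0
    rw [h0]
    refine ⟨d (N (d (z v))), ?_⟩
    have hdz : d (z (d (z v))) = d (z v) := LinearMap.congr_fun h.dzd (z v)
    simp only [hD1, LinearMap.add_apply, LinearMap.neg_apply, Module.End.mul_apply, hdz]
    abel

omit [FiniteDimensional k M] hk hp in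
theorem mem_normalizer_centralizer {H : Subgroup (LinearMap.GeneralLinearGroup k M)}
    {x : LinearMap.GeneralLinearGroup k M}
    (hx : x ∈ Subgroup.normalizer (H : Set (LinearMap.GeneralLinearGroup k M))) :
    x ∈ Subgroup.normalizer (Subgroup.centralizer (H : Set (LinearMap.GeneralLinearGroup k M)) :
      Set (LinearMap.GeneralLinearGroup k M)) := by
  have key : ∀ y ∈ Subgroup.normalizer (H : Set (LinearMap.GeneralLinearGroup k M)),
      ∀ c ∈ Subgroup.centralizer (H : Set (LinearMap.GeneralLinearGroup k M)),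
      y * c * y⁻¹ ∈ Subgroup.centralizer (H : Set (LinearMap.GeneralLinearGroup k M)) := by
    intro y hy c hc
    refine Subgroup.mem_centralizer_iff.2 fun h hh => ?_
    have hh' : y⁻¹ * h * y⁻¹⁻¹ ∈ H := (Subgroup.mem_normalizer_iff.1 (inv_mem hy) h).1 hh
    have := (Commute.conj_iff (h := y)).2 (Subgroup.mem_centralizer_iff.1 hc _ hh' : Commute _ c)
    rw [show y * (y⁻¹ * h * y⁻¹⁻¹) * y⁻¹ = h by group] at this
    exact this
  rw [Subgroup.mem_normalizer_iff]
  refine fun c => ⟨key x hx c, fun hc => ?_⟩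
  have := key x⁻¹ (inv_mem hx) _ hc
  simpa [mul_assoc] using this

/-- A `p`-element of the component group commuting with it is trivial. -/
theorem eq_one_of_commute_compGroup (hred : Reduced G) (hσ : σ ∈ minimalQuadraticElements G)
    {x : LinearMap.GeneralLinearGroup k M} (hx : x ∈ compGroup G (sameActionSubgroup G σ))
    (hc : ∀ B ∈ comp G (sameActionSubgroup G σ), ∀ b ∈ B, b * x = x * b)
    (hpx : IsPGroup p (Subgroup.zpowers x)) : x = 1 := by
  have := hk.finiteGL (M := M)
  set X0 := ⨆ B ∈ quadraticRootSubgroups G, B with hX0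
  set Z := X0 ⊓ Subgroup.centralizer (X0 : Set (LinearMap.GeneralLinearGroup k M)) with hZ
  have hGX0 : G ≤ Subgroup.normalizer (X0 : Set (LinearMap.GeneralLinearGroup k M)) := by
    intro g hg
    have key : ∀ g ∈ G, conjBy X0 g ≤ X0 := fun g hg => by
      rw [hX0, conjBy, Subgroup.map_iSup]
      simp only [Subgroup.map_iSup]
      exact iSup₂_le fun B hB => le_biSup (fun Z : Subgroup (LinearMap.GeneralLinearGroup k M) => Z)
        (root_conj hB hg)
    refine conjBy_eq_self_iff.1 (le_antisymm (key g hg) ?_)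
    have := conjBy_mono (key g⁻¹ (inv_mem hg)) g
    rwa [conjBy_conjBy_inv] at this
  have hGZ : G ≤ Subgroup.normalizer (Z : Set (LinearMap.GeneralLinearGroup k M)) := fun g hg =>
    Subgroup.inf_normalizer_le_normalizer_inf
      ⟨hGX0 hg, mem_normalizer_centralizer (hGX0 hg)⟩
  have hxZ : x ∈ Z := by
    refine Subgroup.mem_inf.2 ⟨compGroup_le_sup hx, Subgroup.mem_centralizer_iff.2 ?_⟩
    suffices h : X0 ≤ Subgroup.centralizer ({x} : Set (LinearMap.GeneralLinearGroup k M)) from
      fun y hy => (Subgroup.mem_centralizer_iff.1 (h hy) x rfl).symm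
    refine iSup₂_le fun B hB b hb => Subgroup.mem_centralizer_iff.2 fun y hy => ?_
    rw [Set.mem_singleton_iff.1 hy]
    by_cases hr : Relation.ReflTransGen (FAdj (quadraticRootSubgroups G)) (sameActionSubgroup G σ) B
    · exact (hc B ⟨hB, hr⟩ b hb).symm
    · have hle : compGroup G (sameActionSubgroup G σ) ≤
          Subgroup.centralizer (B : Set (LinearMap.GeneralLinearGroup k M)) :=
        iSup₂_le fun C hC c hc' => Subgroup.mem_centralizer_iff.2 fun b' hb' =>
          (commute_of_not_reach' hk.two hk.three hred hC.1 hB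
            (fun h => hr (hC.2.trans h)) c hc' b' hb').symm
      exact (Subgroup.mem_centralizer_iff.1 (hle hx) b hb).symm
  have hU : rad p Z = ⊥ := eq_bot_of_reduced hk hred
    (rad_le.trans (inf_le_left.trans sup_root_le)) isPGroup_rad
    (fun g hg => conjBy_eq_self_iff.2 (le_normalizer_rad (hGZ hg)))
  have hle : Subgroup.zpowers x ≤ rad p Z := by
    refine le_rad (Subgroup.zpowers_le.2 hxZ) hpx (le_normalizer_of_forall fun a ha b hb => ?_)
    have hb' : b ∈ Z := Subgroup.zpowers_le.2 hxZ hb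
    rw [Subgroup.mem_centralizer_iff.1 hb'.2 a ha.1, mul_inv_cancel_right]
    exact hb
  exact (Subgroup.mem_bot).1 (hU ▸ hle (Subgroup.mem_zpowers x))

/-- Commuting `p`-elements have `p`-power product. -/
theorem isPGroup_zpowers_mul {x y : LinearMap.GeneralLinearGroup k M} (hc : Commute x y) {i j : ℕ}
    (hx : x ^ p ^ i = 1) (hy : y ^ p ^ j = 1) : IsPGroup p (Subgroup.zpowers (x * y)) := by
  have h : (x * y) ^ p ^ (i + j) = 1 := by
    rw [hc.mul_pow, pow_add, pow_mul, hx, one_pow, mul_comm (p ^ i), pow_mul, hy, one_pow, one_mul]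
  rintro ⟨_, n, rfl⟩
  refine ⟨i + j, Subtype.ext ?_⟩
  rw [Subgroup.coe_pow, Subgroup.coe_one]
  show ((x * y) ^ n) ^ p ^ (i + j) = 1
  rw [← zpow_natCast, ← zpow_mul, mul_comm n, zpow_mul, zpow_natCast, h, one_zpow]

/-- An element fixing an opposite class and commuting with a class commutes with the former. -/
theorem commute_partner (hσ : σ ∈ minimalQuadraticElements G) (hη : η ∈ minimalQuadraticElements G)
    (hop : Opp σ η) {x : LinearMap.GeneralLinearGroup k M}
    (hx : ∀ e ∈ sameActionSubgroup G σ, x * e = e * x)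
    (hfix : conjBy (sameActionSubgroup G η) x = sameActionSubgroup G η) :
    ∀ e ∈ sameActionSubgroup G η, x * e = e * x := by
  intro e he
  rcases eq_or_ne e 1 with rfl | he1
  · rw [mul_one, one_mul]
  have hb := (mem_E hη).1 he
  obtain ⟨a, ha, ha0, hbab, haba⟩ :=
    exists_inverse hk.two hk.three hη hσ hop.symm hb (fun h => he1 (nil_eq_zero_iff.1 h))
  obtain ⟨g, hg, eg⟩ := ha.2.2.exists_elem
  have hgE : g ∈ sameActionSubgroup G σ := (mem_E hσ).2 (eg ▸ ha)
  have hb' : InRoot G η (nil (x * e * x⁻¹)) := (mem_E hη).1 (hfix ▸ conj_mem_conjBy he x)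
  set xi := ((x⁻¹ : LinearMap.GeneralLinearGroup k M) : M →ₗ[k] M) with hxi
  have hxa : (x : M →ₗ[k] M) * a * xi = a := by
    rw [← eg, hxi, ← conj_val, hx g hgE, mul_inv_cancel_right]
  have hab' : a * nil (x * e * x⁻¹) * a = a := by
    conv_lhs => rw [← hxa]
    rw [conj_val]
    simp only [mul_assoc, hxi, Units.inv_mul_cancel_left]
    rw [show a * (nil e * (a * xi)) = a * xi by rw [← mul_assoc, ← mul_assoc, haba], ← mul_assoc]
    exact hxa
  have hd : nil (x * e * x⁻¹) - nil e = 0 := by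
    by_contra hne
    exact ha0 (Opp.aba_ne hop hσ hη ha (InRoot.sub hη hb' hb) hne
      (by rw [mul_sub, sub_mul, hab', haba, sub_self]))
  have := nil_injective (sub_eq_zero.1 hd)
  calc x * e = x * e * x⁻¹ * x := by group
    _ = e * x := by rw [this]

omit hk hp in
theorem eq_of_common {G : Subgroup (LinearMap.GeneralLinearGroup k M)}
    {σ φ g : LinearMap.GeneralLinearGroup k M} (hσ : σ ∈ minimalQuadraticElements G)
    (hφ : φ ∈ minimalQuadraticElements G) (h1 : g ∈ sameActionSubgroup G σ)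
    (h2 : g ∈ sameActionSubgroup G φ) (hg : g ≠ 1) :
    sameActionSubgroup G φ = sameActionSubgroup G σ := by
  obtain ⟨e1, e2⟩ := same_of_common hσ hφ ((mem_E hσ).1 h1) ((mem_E hφ).1 h2)
    (fun h => hg (nil_eq_zero_iff.1 h))
  exact E_eq_of e1.symm e2.symm

/-- The case of a member meeting the unipotent group trivially. -/
theorem false_of_disjoint (hred : Reduced G) (hσ : σ ∈ minimalQuadraticElements G)
    (hφ : φ ∈ minimalQuadraticElements G)
    (hφc : sameActionSubgroup G φ ∈ comp G (sameActionSubgroup G σ))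
    (hcomm : ∀ e ∈ sameActionSubgroup G σ, ∀ f ∈ sameActionSubgroup G φ, e * f = f * e)
    (hFV : ∀ n ∈ compGroup G (sameActionSubgroup G σ) ⊓ coreGroup σ,
      ∀ f ∈ sameActionSubgroup G φ, f * n = n * f)
    (hne : φ ∉ compGroup G (sameActionSubgroup G σ) ⊓ coreGroup σ) : False := by
  set E := sameActionSubgroup G σ with hE
  set X := compGroup G E with hX
  set V := X ⊓ coreGroup σ with hV
  have hXG : X ≤ G := compGroup_le_G
  have hEX : E ≤ X := le_compGroup (comp_self (E_mem_quadraticRootSubgroups hσ))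
  have hEV : E ≤ V := le_inf hEX (E_le_coreGroup hσ)
  set f := φ
  have hf : f ∈ sameActionSubgroup G φ := minimal_mem_E hφ
  have hfX : f ∈ X := le_compGroup hφc hf
  have hfN : f ∈ Subgroup.normalizer (E : Set (LinearMap.GeneralLinearGroup k M)) :=
    conjBy_eq_self_iff.1 (conjBy_eq_of_commute fun e he => (hcomm e he f hf).symm)
  obtain ⟨g, hg, hop⟩ := exists_opp hk.two hk.three hred hσ
  set η := g * σ * g⁻¹ with hηdef
  have hη : η ∈ minimalQuadraticElements G := conj_minimal hσ hg
  obtain ⟨d, hd⟩ := exists_invPair hk hσ hη hop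
  have hηX : sameActionSubgroup G η ≤ X := le_compGroup (mem_comp_of_opp hk hσ hη hop)
  have hη' := conj_minimal hη (hXG hfX)
  have hop' := opp_conj_of_normalizes hσ hfN hop
  obtain ⟨u, hu, huX, hue⟩ := exists_conj_opp hk hd hη' hop' hXG hEX hηX
    (le_compGroup (mem_comp_of_opp hk hσ hη' hop'))
  have huV : u ∈ V := ⟨huX, hu⟩
  set x := u⁻¹ * f with hx
  have hxX : x ∈ X := mul_mem (inv_mem huX) hfX
  have hxE : ∀ e ∈ E, x * e = e * x := fun e he => by
    rw [hx, mul_assoc, ← hcomm e he f hf, ← mul_assoc, ← mul_assoc,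
      commute_coreGroup hσ he (inv_mem hu)]
  have hxη : ∀ e ∈ sameActionSubgroup G η, x * e = e * x := commute_partner hk hσ hη hop hxE (by
    rw [hx, ← conjBy_conjBy, conjBy_E hη (hXG hfX), ← hue, conjBy_inv_conjBy])
  obtain ⟨t, htL, et, -⟩ := exists_torus hk hd
  have hxL : E ⊔ sameActionSubgroup G η ≤
      Subgroup.centralizer ({x} : Set (LinearMap.GeneralLinearGroup k M)) :=
    sup_le (fun e he => Subgroup.mem_centralizer_iff.2 fun y hy => by
        rw [Set.mem_singleton_iff.1 hy]; exact hxE e he)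
      (fun e he => Subgroup.mem_centralizer_iff.2 fun y hy => by
        rw [Set.mem_singleton_iff.1 hy]; exact hxη e he)
  have htX : t ∈ X := sup_le hEX hηX htL
  have htN := torus_normalizes hk hd et (hXG htX)
  have htV : t ∈ Subgroup.normalizer (V : Set (LinearMap.GeneralLinearGroup k M)) :=
    Subgroup.inf_normalizer_le_normalizer_inf
      ⟨Subgroup.le_normalizer htX, normalizer_E_le_coreGroup hσ htN⟩
  have hxt : x * t = t * x := Subgroup.mem_centralizer_iff.1 (hxL htL) x rfl
  -- `x` centralises the unipotent group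
  have hc : ∀ n ∈ V, x * n * x⁻¹ * n⁻¹ ∈ E := fun n hn => by
    have e : x * n * x⁻¹ * n⁻¹ = u⁻¹ * n * u * n⁻¹ := by
      rw [hx, mul_inv_rev, inv_inv]
      calc u⁻¹ * f * n * (f⁻¹ * u) * n⁻¹ = u⁻¹ * (f * n) * f⁻¹ * u * n⁻¹ := by group
        _ = _ := by rw [hFV n hn f hf]; group
    rw [e]
    have := commutator_mem_E hk hσ (inv_mem hu) hn.2
      (mul_mem (mul_mem (mul_mem (inv_mem (hXG huX)) (hXG hn.1))
        (inv_mem (inv_mem (hXG huX)))) (inv_mem (hXG hn.1)))
    rwa [inv_inv] at this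
  have hxV : ∀ n ∈ V, x * n = n * x := by
    intro n hn
    have hn' : t * n * t⁻¹ ∈ V := (Subgroup.mem_normalizer_iff.1 htV n).1 hn
    set c := x * n * x⁻¹ * n⁻¹ with hcdef
    have hcE : c ∈ E := hc n hn
    have he : t * n * t⁻¹ * (n * n)⁻¹ ∈ E := torus_sq_mem hk hd et hn.2
      (mul_mem (hXG hn'.1) (inv_mem (mul_mem (hXG hn.1) (hXG hn.1))))
    set e := t * n * t⁻¹ * (n * n)⁻¹ with hedef
    have h1 : x * (t * n * t⁻¹) * x⁻¹ * (t * n * t⁻¹)⁻¹ = t * c * t⁻¹ := by
      rw [hcdef]
      calc x * (t * n * t⁻¹) * x⁻¹ * (t * n * t⁻¹)⁻¹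
          = (x * t) * n * (x * t)⁻¹ * (t * n⁻¹ * t⁻¹) := by group
        _ = _ := by rw [hxt]; group
    have hnc : n * c = c * n := (commute_coreGroup hσ hcE hn.2).symm
    have hxn : x * n * x⁻¹ = c * n := by rw [hcdef]; group
    have hxe : x * e * x⁻¹ = e := by rw [hxE e he, mul_inv_cancel_right]
    have h2 : x * (t * n * t⁻¹) * x⁻¹ * (t * n * t⁻¹)⁻¹ = c * c := by
      rw [show t * n * t⁻¹ = e * (n * n) by rw [hedef]; group]
      calc x * (e * (n * n)) * x⁻¹ * (e * (n * n))⁻¹
          = (x * e * x⁻¹) * (x * n * x⁻¹) * (x * n * x⁻¹) * (e * (n * n))⁻¹ := by group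
        _ = e * (c * (n * c) * n) * (e * (n * n))⁻¹ := by rw [hxe, hxn]; group
        _ = (e * (c * c)) * e⁻¹ := by rw [hnc]; group
        _ = c * c := by
          rw [E_comm hσ he (mul_mem hcE hcE), mul_inv_cancel_right]
    have h3 := congrArg nil (h1.symm.trans h2)
    rw [torus_conj hk hd et hcE, nil_mul c c,
      InRoot.mul_eq_zero hσ ((mem_E hσ).1 hcE) ((mem_E hσ).1 hcE), add_zero, ← two_smul k,
      ← sub_eq_zero, ← sub_smul] at h3
    have h20 : (2 : k) ≠ 0 := Ring.two_ne_zero hk.two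
    have hc1 : c = 1 := nil_eq_zero_iff.1 ((smul_eq_zero.1 h3).resolve_left (by
      rw [show (2 : k) * 2 - 2 = 2 by ring]; exact h20))
    rw [hc1, one_mul] at hxn
    calc x * n = x * n * x⁻¹ * x := by group
      _ = n * x := by rw [hxn]
  -- hence the whole component group
  obtain ⟨h, hh, -, hsw, -⟩ := exists_swap hk.two hk.three hσ hη hop (minimal_mem_E hσ)
    (fun h => quad_ne hσ.1.2.1 (by rw [h, nil_one]))
  have hw : conjBy E (σ * h⁻¹) = sameActionSubgroup G η := by
    rw [← conjBy_conjBy, hsw, conjBy_conjBy_inv]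
  set W := X ⊓ Subgroup.centralizer ({x} : Set (LinearMap.GeneralLinearGroup k M)) with hW
  have hwW : σ * h⁻¹ ∈ W := by
    have : σ * h⁻¹ ∈ E ⊔ sameActionSubgroup G η := mul_mem
      (Subgroup.mem_sup_left (minimal_mem_E hσ)) (inv_mem (Subgroup.mem_sup_right hh))
    exact ⟨sup_le hEX hηX this, hxL this⟩
  have reach : ∀ B, Relation.ReflTransGen (FAdj (quadraticRootSubgroups G)) E B →
      ∃ y ∈ W, B = conjBy E y := by
    intro B hB
    induction hB with
    | refl => exact ⟨1, one_mem W, (conjBy_one E).symm⟩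
    | @tail B B' _ hBB ih =>
      obtain ⟨y, hy, rfl⟩ := ih
      have hyG : y⁻¹ ∈ G := inv_mem (hXG hy.1)
      have hC := root_conj hBB.2.1 hyG
      have hr := rankOnePair_conj hBB.2.2 y⁻¹
      rw [conjBy_inv_conjBy] at hr
      obtain ⟨τ, hτ, eτ⟩ := hC
      rw [eτ] at hr
      have hopτ := opp_of_rankOne hk.two hk.three hred hσ hτ hr
      obtain ⟨u', hu', hu'X, e'⟩ := exists_conj_opp hk hd hτ hopτ hXG hEX hηX
        (le_compGroup (mem_comp_of_opp hk hσ hτ hopτ))
      refine ⟨y * (u' * (σ * h⁻¹)), mul_mem hy (mul_mem ⟨hu'X, ?_⟩ hwW), ?_⟩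
      · exact Subgroup.mem_centralizer_iff.2 fun z hz => by
          rw [Set.mem_singleton_iff.1 hz]; exact hxV u' ⟨hu'X, hu'⟩
      · rw [← conjBy_conjBy, ← conjBy_conjBy, hw, e', ← eτ, conjBy_conjBy_inv]
  have hall : ∀ B ∈ comp G E, ∀ b ∈ B, b * x = x * b := by
    intro B hB b hb
    obtain ⟨y, hy, rfl⟩ := reach B hB.2
    obtain ⟨e, he, rfl⟩ := hb
    have h' : y * e * y⁻¹ ∈ Subgroup.centralizer ({x} : Set (LinearMap.GeneralLinearGroup k M)) :=
      mul_mem (mul_mem hy.2 (hxL (Subgroup.mem_sup_left he))) (inv_mem hy.2)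
    exact (Subgroup.mem_centralizer_iff.1 h' x rfl).symm
  obtain ⟨i, hi⟩ := exists_pow_eq_one hk (n := 3) (nil_cube (inv_mem hu))
  obtain ⟨j, hj⟩ := exists_pow_eq_one hk (n := 2) (g := f)
    (by rw [pow_two]; exact nil_sq hφ.1.2.1)
  have hfu : Commute u⁻¹ f := (hFV u⁻¹ (inv_mem huV) f hf).symm
  have hx1 := eq_one_of_commute_compGroup hk hred hσ hxX hall (isPGroup_zpowers_mul hk hfu hi hj)
  refine hne ?_
  rw [show f = u from (inv_mul_eq_one.1 hx1).symm]
  exact huV

/-- A class is the only member of its component normalised by its unipotent group. -/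
theorem eq_of_normalizes (hred : Reduced G) (hσ : σ ∈ minimalQuadraticElements G)
    (hφ : φ ∈ minimalQuadraticElements G)
    (hφc : sameActionSubgroup G φ ∈ comp G (sameActionSubgroup G σ))
    (hN : compGroup G (sameActionSubgroup G σ) ⊓ coreGroup σ ≤
      Subgroup.normalizer (sameActionSubgroup G φ : Set (LinearMap.GeneralLinearGroup k M))) :
    sameActionSubgroup G φ = sameActionSubgroup G σ := by
  by_contra hne
  set E := sameActionSubgroup G σ with hE
  set F := sameActionSubgroup G φ with hF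
  set X := compGroup G E with hX
  set V := X ⊓ coreGroup σ with hV
  have hXG : X ≤ G := compGroup_le_G
  have hEX : E ≤ X := le_compGroup (comp_self (E_mem_quadraticRootSubgroups hσ))
  have hEV : E ≤ V := le_inf hEX (E_le_coreGroup hσ)
  have hσ1 : σ ≠ 1 := fun h => quad_ne hσ.1.2.1 (by rw [h, nil_one])
  have hEF : ⁅E, F⁆ = ⊥ := commute_of_hyp hk.two hk.three hσ hφ (Or.inr fun h => hσ1
    ((Subgroup.mem_bot).1 (h ▸ Subgroup.mem_inf.2
      ⟨minimal_mem_E hσ, hN (hEV (minimal_mem_E hσ))⟩)))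
  have hcomm : ∀ e ∈ E, ∀ f ∈ F, e * f = f * e := commutator_eq_bot_iff_comm.1 hEF
  have hEF1 : ∀ g ∈ E, g ∈ F → g = 1 := fun g h1 h2 => by
    by_contra hg
    exact hne (eq_of_common hσ hφ h1 h2 hg)
  have hFX : F ≤ X := le_compGroup hφc
  have hcF : ∀ f ∈ F, ∀ n ∈ V, f * n * f⁻¹ * n⁻¹ ∈ F := fun f hf n hn => by
    rw [mul_assoc, mul_assoc]
    refine mul_mem hf ?_
    rw [← mul_assoc]
    exact (Subgroup.mem_normalizer_iff.1 (hN hn) _).1 (inv_mem hf)
  have hfix : ∀ {x y : LinearMap.GeneralLinearGroup k M}, x * y * x⁻¹ * y⁻¹ = 1 → x * y = y * x :=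
    fun {x y} h => commutatorElement_eq_one_iff_mul_comm.1 h
  by_cases hcase : ∀ f ∈ F, f ∈ V → f = 1
  · refine false_of_disjoint hk hred hσ hφ hφc hcomm (fun n hn f hf => hfix ?_) fun h => ?_
    · have hfV : f ∈ Subgroup.normalizer (V : Set (LinearMap.GeneralLinearGroup k M)) :=
        Subgroup.inf_normalizer_le_normalizer_inf ⟨Subgroup.le_normalizer (hFX hf),
          normalizer_E_le_coreGroup hσ (conjBy_eq_self_iff.1
            (conjBy_eq_of_commute fun e he => (hcomm e he f hf).symm))⟩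
      exact hcase _ (hcF f hf n hn)
        (mul_mem ((Subgroup.mem_normalizer_iff.1 hfV n).1 hn) (inv_mem hn))
    · exact quad_ne hφ.1.2.1 (by rw [hcase φ (minimal_mem_E hφ) h, nil_one])
  push Not at hcase
  obtain ⟨f, hfF, hfV, hf1⟩ := hcase
  have hfc : ∀ n ∈ V, f * n = n * f := fun n hn => hfix (hEF1 _
    (commutator_mem_E hk hσ hfV.2 hn.2 (mul_mem (mul_mem (mul_mem (hXG hfV.1) (hXG hn.1))
      (inv_mem (hXG hfV.1))) (inv_mem (hXG hn.1)))) (hcF f hfF n hn))
  obtain ⟨g, hg, hop⟩ := exists_opp hk.two hk.three hred hσ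
  set η := g * σ * g⁻¹ with hηdef
  have hη : η ∈ minimalQuadraticElements G := conj_minimal hσ hg
  obtain ⟨d, hd⟩ := exists_invPair hk hσ hη hop
  have hηX : sameActionSubgroup G η ≤ X := le_compGroup (mem_comp_of_opp hk hσ hη hop)
  obtain ⟨t, htL, et, -⟩ := exists_torus hk hd
  have htX : t ∈ X := sup_le hEX hηX htL
  have htN := torus_normalizes hk hd et (hXG htX)
  have htV : t ∈ Subgroup.normalizer (V : Set (LinearMap.GeneralLinearGroup k M)) :=
    Subgroup.inf_normalizer_le_normalizer_inf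
      ⟨Subgroup.le_normalizer htX, normalizer_E_le_coreGroup hσ htN⟩
  set z := nil σ with hz
  set A := nil f with hA
  have hcA : Core z A := hfV.2
  have hAA : A * A = 0 := InRoot.mul_eq_zero hφ ((mem_E hφ).1 hfF) ((mem_E hφ).1 hfF)
  have hzdz : z * (d * z) = z := by rw [← mul_assoc]; exact hd.zdz
  have hsplit : A = A * (d * z) + z * d * A - z * d * A * (d * z) := by
    have := hcA.step_eq hd
    rw [mul_sub, mul_one, mul_sub] at this
    rw [← hz] at this
    simp only [← mul_assoc] at this ⊢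
    rw [eq_comm, sub_eq_iff_eq_add] at this
    conv_lhs => rw [this]
    abel
  set A2 := z * d * A * (d * z) with hA2
  have hA2A : A2 * A = 0 := by
    rw [hA2, mul_assoc, mul_assoc d, hcA.left, mul_zero, mul_zero]
  have hAA2 : A * A2 = 0 := by
    rw [hA2]; simp only [← mul_assoc, hcA.right, zero_mul]
  have hzA2 : z * A2 = 0 := by
    rw [hA2]; simp only [← mul_assoc, show z * z = 0 from hd.zz, zero_mul]
  have hA2t : A2 * (t : M →ₗ[k] M) = (2 : k)⁻¹ • A2 := by
    have h1 : A2 * z = 0 := by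
      rw [hA2, mul_assoc, mul_assoc d, hd.zz, mul_zero, mul_zero]
    have h2 : A2 * (d * z) = A2 := by
      rw [hA2, mul_assoc (z * d * A), show d * z * (d * z) = d * z by
        rw [← mul_assoc, hd.dzd]]
    rw [mul_torus et h1, h2]
    have := Ring.two_ne_zero hk.two
    match_scalars <;> field_simp <;> ring
  -- the conjugate by the torus element
  have hconjA : nil (t * f * t⁻¹) = (2 : k) • A + (2 : k) • A2 := by
    have e : ((2 : k) • A + (2 : k) • A2) * (t : M →ₗ[k] M) = (t : M →ₗ[k] M) * A := by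
      rw [add_mul, smul_mul_assoc, smul_mul_assoc, hA2t, mul_torus et hcA.right,
        torus_mul et hcA.left, smul_smul, mul_inv_cancel₀ (Ring.two_ne_zero hk.two), one_smul,
        smul_sub, smul_smul, mul_inv_cancel₀ (Ring.two_ne_zero hk.two), one_smul, two_smul]
      nth_rewrite 1 [hsplit]
      rw [← hz]
      abel
    rw [conj_val, ← hA, ← e, mul_assoc, Units.mul_inv, mul_one]
  set g0 := f ^ 4 * (t * f * t⁻¹)⁻¹ with hg0
  have htfV : t * f * t⁻¹ ∈ V := (Subgroup.mem_normalizer_iff.1 htV f).1 hfV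
  have hg0V : g0 ∈ V := mul_mem (pow_mem hfV 4) (inv_mem htfV)
  set B := A - A2 with hB
  have hC : nil g0 = (2 : k) • B := by
    have h1 : nil (t * f * t⁻¹) * nil (t * f * t⁻¹) = 0 := by
      rw [conj_val]
      simp only [mul_assoc, Units.inv_mul_cancel_left]
      rw [← mul_assoc A, hAA, zero_mul, mul_zero]
    rw [hg0, nil_mul, nil_pow_of_sq hAA, nil_inv h1, hconjA, ← hA, smul_mul_assoc, mul_neg, mul_add,
      mul_smul_comm, mul_smul_comm, hAA, hAA2, hB]
    push_cast
    match_scalars <;> ring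
  set C := nil g0 with hCdef
  have hBB : B * B = 0 := by
    rw [hB, sub_mul, mul_sub, mul_sub, hAA, hAA2, hA2A, hA2, ← hA2]
    have : A2 * A2 = 0 := by
      nth_rewrite 1 [hA2]
      rw [mul_assoc, mul_assoc d, hzA2, mul_zero, mul_zero]
    rw [this]; simp
  have hCC : C * C = 0 := by rw [hC, smul_mul_smul_comm, hBB, smul_zero]
  have h20 : (2 : k) ≠ 0 := Ring.two_ne_zero hk.two
  have hB0 : B ≠ 0 := by
    intro h0
    rw [hB, sub_eq_zero] at h0
    refine hf1 (hEF1 f ((mem_E hσ).2 (inRoot_of_mem hk hσ (hXG hfV.1) (fun m hm => ?_) ?_)) hfF)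
    · show A m = 0
      rw [h0, hA2, Module.End.mul_apply, Module.End.mul_apply d, show z m = 0 from hm]; simp
    · rw [← hA, h0, hA2, mul_assoc (z * d), mul_assoc z, Module.End.mul_eq_comp]
      exact LinearMap.range_comp_le_range _ _
  have hC0 : C ≠ 0 := by rw [hC]; exact smul_ne_zero h20 hB0
  have hrank : Module.finrank k (LinearMap.range C) ≤ Module.finrank k (cspace φ) := by
    rw [hC, LinearMap.range_smul _ _ h20,
      ← (InRoot.ker_range hφ ((mem_E hφ).1 hfF) (fun h => hf1 (nil_eq_zero_iff.1 h))).2, ← hA,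
      ← finrank_map_add_inf (1 - z * d) (LinearMap.range A)]
    refine le_trans (Submodule.finrank_mono (t := (LinearMap.range A).map (1 - z * d) ⊔
      (LinearMap.range A ⊓ LinearMap.ker (1 - z * d))) ?_)
      (Submodule.finrank_add_le_finrank_add_finrank _ _)
    rintro _ ⟨m, rfl⟩
    have hmz : z ((1 - d * z) m) = 0 := by
      rw [← Module.End.mul_apply, mul_sub, ← mul_assoc, hd.zdz, mul_one, sub_self,
        LinearMap.zero_apply]
    obtain ⟨x, hx⟩ := hcA.step _ hmz
    have hfix : (z * d) (A ((1 - d * z) m)) = A ((1 - d * z) m) := by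
      rw [← hx]; exact LinearMap.congr_fun hd.zdz x
    have e : B m = (1 - z * d) (A m) + A ((1 - d * z) m) := by
      rw [← hfix, ← Module.End.mul_apply (1 - z * d) A, ← Module.End.mul_apply,
        ← Module.End.mul_apply, ← LinearMap.add_apply]
      congr 1
      rw [hB, hA2, mul_sub (z * d * A), mul_one, sub_mul, one_mul]
      abel
    rw [e]
    refine add_mem (Submodule.mem_sup_left (Submodule.mem_map_of_mem ⟨m, rfl⟩))
      (Submodule.mem_sup_right ⟨⟨_, rfl⟩, ?_⟩)
    rw [SetLike.mem_coe, LinearMap.mem_ker, LinearMap.sub_apply, Module.End.one_apply, hfix, sub_self]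
  have hgmin : g0 ∈ minimalQuadraticElements G := by
    obtain ⟨g', hg', e⟩ := QuadPair.exists_minimal hφ
      (hasFamily_nil (quad_mem hk (hXG hg0V.1) ⟨hCC, hC0⟩)) hCC hC0 hrank
    exact nil_injective e ▸ hg'
  have hg0c : ∀ n ∈ V, g0 * n = n * g0 := by
    intro n hn
    have h1 : Commute (t * f * t⁻¹) n := by
      have hn' : t⁻¹ * n * t⁻¹⁻¹ ∈ V := (Subgroup.mem_normalizer_iff.1 (inv_mem htV) n).1 hn
      have := Commute.conj_iff (h := t) |>.2 (show Commute f (t⁻¹ * n * t⁻¹⁻¹) from hfc _ hn')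
      rwa [show t * (t⁻¹ * n * t⁻¹⁻¹) * t⁻¹ = n by group] at this
    exact ((Commute.pow_left (hfc n hn : Commute f n) 4).mul_left h1.inv_left)
  have hCz : Core z C := hg0V.2
  have hzdCdz : z * d * C * (d * z) = 0 := by
    have e1 : z * d * (z * d) = z * d := by rw [← mul_assoc, hd.zdz]
    have e2 : d * z * (d * z) = d * z := by rw [← mul_assoc, hd.dzd]
    rw [hC, mul_smul_comm, smul_mul_assoc, hB, mul_sub, sub_mul, hA2]
    rw [show z * d * (z * d * A * (d * z)) * (d * z) = (z * d * (z * d)) * A * (d * z * (d * z)) by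
      noncomm_ring, e1, e2, sub_self, smul_zero]
  have hCd : C * d ≠ d * C := by
    intro h
    apply hC0
    have h1 : z * d * C = 0 := by
      rw [mul_assoc, ← h, ← mul_assoc, hCz.left, zero_mul]
    have h2 : C * (d * z) = 0 := by
      rw [← mul_assoc, h, mul_assoc, hCz.right, mul_zero]
    have h3 := hCz.step_eq hd
    rw [← hz, mul_sub, mul_one, h2, sub_zero, h1] at h3
    exact h3.symm
  have hreach : Relation.ReflTransGen (FAdj (quadraticRootSubgroups G)) E
      (sameActionSubgroup G g0) := by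
    refine (mem_comp_of_opp hk hσ hη hop).2.trans (by_contra fun hr => hCd ?_)
    obtain ⟨y, hy, ey⟩ := hd.inRoot.2.2.exists_elem
    have := commute_of_not_reach' hk.two hk.three hred (E_mem_quadraticRootSubgroups hη)
      (E_mem_quadraticRootSubgroups hgmin) hr y ((mem_E hη).2 (ey ▸ hd.inRoot)) g0 (minimal_mem_E hgmin)
    rw [← ey]
    exact (commute_iff_nil.1 this).symm
  obtain ⟨g₁, hg₁, hop₁⟩ := exists_opp hk.two hk.three hred hgmin
  set φ' := g₁ * g0 * g₁⁻¹ with hφ'def
  have hφ' : φ' ∈ minimalQuadraticElements G := conj_minimal hgmin hg₁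
  have hφ'X : sameActionSubgroup G φ' ≤ X := le_compGroup
    ⟨E_mem_quadraticRootSubgroups hφ', hreach.trans (mem_comp_of_opp hk hgmin hφ' hop₁).2⟩
  have hCR : InRoot G g0 C := inRoot_self hgmin.1
  rcases opp_or_triple hσ hφ' hk.two hk.three with hop2 | hT
  · -- the partner is in general position
    obtain ⟨u, hu, huX, hue⟩ := exists_conj_opp hk hd hφ' hop2 hXG hEX hηX hφ'X
    have hug : u⁻¹ * g0 * u⁻¹⁻¹ = g0 := by
      rw [← hg0c u⁻¹ (inv_mem ⟨huX, hu⟩), mul_inv_cancel_right]
    have hm : InRoot G η (nil (u⁻¹ * φ' * u⁻¹⁻¹)) := (mem_E hη).1 (by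
      have := conj_mem_conjBy (minimal_mem_E hφ') u⁻¹
      rwa [← hue, conjBy_inv_conjBy] at this)
    obtain ⟨hk', hr'⟩ := InRoot.ker_range hη hm (fun h => by
      rw [nil_eq_zero_iff, conj_eq_one_iff] at h
      exact quad_ne hφ'.1.2.1 (by rw [h, nil_one]))
    have hop3 := hop₁.conj u⁻¹
    rw [hug] at hop3
    have hop4 : Opp g0 η := (opp_congr rfl rfl hk' hr').1 hop3
    have hT := triple_opposite hk.two hk.three hd hgmin hCR hC0 hzdCdz
    exact hC0 (Opp.aba_ne hop4 hgmin hη hCR hd.inRoot hd.ne (hT.1 _ hCR _ hd.inRoot _ hCR))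
  · obtain ⟨a, ha, ha0, hCaC, haCa⟩ :=
      exists_inverse hk.two hk.three hgmin hφ' hop₁ hCR hC0
    have hzR := inRoot_self (G := G) hσ.1
    have hzaz : z * a * z = 0 := hT.1 _ hzR _ ha _ hzR
    have haza : a * z * a = 0 := hT.2 _ ha _ hzR _ ha
    have haa : a * a = 0 := InRoot.mul_eq_zero hφ' ha ha
    obtain ⟨e, -, ee⟩ := ha.2.2.exists_elem
    have heE : e ∈ sameActionSubgroup G φ' := (mem_E hφ').2 (ee ▸ ha)
    have heX : e ∈ X := hφ'X heE
    set n := σ * e * σ⁻¹ * e⁻¹ with hn
    have hnV : n ∈ V := by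
      refine Subgroup.mem_inf.2 ⟨mul_mem (mul_mem (mul_mem (hEX (minimal_mem_E hσ)) heX)
        (inv_mem (hEX (minimal_mem_E hσ)))) (inv_mem heX), ?_⟩
      show Core z (nil n)
      rw [hn, nil_commutator (x := σ) (y := e) hd.zz (by rw [ee, haa]) (by rw [ee]; exact hzaz)
        (by rw [ee]; exact haza), ee]
      refine ⟨?_, ?_, fun m hm => ⟨a m, ?_⟩⟩
      · rw [mul_sub, ← mul_assoc, hd.zz, ← mul_assoc, hzaz]; simp
      · rw [sub_mul, hzaz, mul_assoc, hd.zz]; simp
      · simp only [LinearMap.sub_apply, Module.End.mul_apply, ← hz, show z m = 0 from hm, map_zero,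
          sub_zero]
    -- the conjugate of the new element commutes with `σ`
    have hσe : Commute g0 (e * σ * e⁻¹) := by
      have : e * σ * e⁻¹ = n⁻¹ * σ := by rw [hn]; group
      rw [this]
      exact (Commute.inv_right (hg0c n hnV : Commute g0 n)).mul_right
        (hg0c σ (hEV (minimal_mem_E hσ)))
    have hcz : Commute (e⁻¹ * g0 * e⁻¹⁻¹) σ := by
      have := Commute.conj_iff (h := e⁻¹) |>.2 hσe
      rwa [show e⁻¹ * (e * σ * e⁻¹) * e⁻¹⁻¹ = σ by group] at this
    have hea : nil e * nil e = 0 := by rw [ee, haa]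
    have hX' : nil (e⁻¹ * g0 * e⁻¹⁻¹) = C + C * a - a * C - a := by
      rw [conj_val, inv_inv, coe_eq_one_add e, coe_eq_one_add e⁻¹, nil_inv hea, ee, ← hCdef]
      conv_rhs => arg 2; rw [← haCa]
      noncomm_ring
    have heq := commute_iff_nil.1 hcz.eq
    rw [hX', ← hz] at heq
    have e1 : (C + C * a - a * C - a) * z = C * a * z - a * z := by
      simp only [add_mul, sub_mul, mul_assoc a C, hCz.right, mul_zero, zero_add, sub_zero]
    have e2 : z * (C + C * a - a * C - a) = -(z * a * C) - z * a := by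
      simp only [mul_add, mul_sub, ← mul_assoc, hCz.left, zero_mul, zero_add, zero_sub]
    rw [e1, e2] at heq
    have h1 : z * a * C = 0 := by
      have := congrArg (· * C) heq
      simp only [sub_mul, neg_mul] at this
      rw [mul_assoc (C * a) z, mul_assoc a z, hCz.left, mul_assoc (z * a) C C, hCC] at this
      simpa [eq_comm] using this
    have h2 : C * a * z = 0 := by
      have := congrArg (C * ·) heq
      simp only [mul_sub, mul_neg] at this
      rw [← mul_assoc C (C * a) z, ← mul_assoc C C a, hCC, ← mul_assoc C (z * a) C,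
        ← mul_assoc C z a, hCz.right, ← mul_assoc C a z] at this
      simpa [eq_comm] using this
    rw [h1, h2, zero_sub, neg_zero, zero_sub, neg_inj] at heq
    have h3 : z * a = 0 := by rw [← haCa, ← mul_assoc, ← mul_assoc, h1, zero_mul]
    have h4 : a * z = 0 := by rw [heq, h3]
    have heσ : σ * e = e * σ := commute_iff_nil.2 (by rw [ee, ← hz, h3, h4])
    have heV : e ∈ Subgroup.normalizer (V : Set (LinearMap.GeneralLinearGroup k M)) := by
      refine Subgroup.inf_normalizer_le_normalizer_inf ⟨Subgroup.le_normalizer heX,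
        normalizer_E_le_coreGroup hσ (conjBy_eq_self_iff.1 ?_)⟩
      rw [conjBy_E hσ (hXG heX), ← heσ, mul_inv_cancel_right]
    have hy : e * g0 * e⁻¹ ∈ V := (Subgroup.mem_normalizer_iff.1 heV g0).1 hg0V
    have hY : nil (e * g0 * e⁻¹) = C + a * C - C * a - a := by
      rw [conj_val, coe_eq_one_add e, coe_eq_one_add e⁻¹, nil_inv hea, ee, ← hCdef]
      conv_rhs => arg 2; rw [← haCa]
      noncomm_ring
    have heq2 := commute_iff_nil.1 (hg0c _ hy)
    rw [hY, ← hCdef] at heq2
    have f1 : C * (C + a * C - C * a - a) = C - C * a := by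
      simp only [mul_add, mul_sub, ← mul_assoc, hCC, hCaC, zero_mul, zero_add, sub_zero]
    have f2 : (C + a * C - C * a - a) * C = -C - a * C := by
      simp only [add_mul, sub_mul, mul_assoc a C, hCC, hCaC, mul_zero, zero_add, zero_sub]
    rw [f1, f2] at heq2
    have := congrArg (· * C) heq2
    simp only [sub_mul, neg_mul] at this
    rw [hCC, hCaC, mul_assoc, hCC, mul_zero] at this
    exact hC0 (by simpa using this)

end CfsgLib.Flavell73
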